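import Mathlib
import Cfsg.Agent.Lib.Lead.GL2Class
import Cfsg.Agent.Lib.Lead.GLBasic

/-!
Two by two matrices over a finite field up to conjugacy: companion form, commutants, the norm
form of the commutant and the orders of centralisers in `GL₂` and `SL₂`.
-/

set_option autoImplicit false
set_option linter.unusedSectionVars false

namespace Cfsg.Agent.Small.SL2C

open Matrix

variable {F : Type*} [Field F]

local notation "M2" => Matrix (Fin 2) (Fin 2) F
local notation "SL2" => Matrix.SpecialLinearGroup (Fin 2) F

/-- A scalar matrix. -/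
def IsSc (A : M2) : Prop := ∃ c : F, A = c • (1 : M2)

theorem isSc_iff (A : M2) : IsSc A ↔ A 0 1 = 0 ∧ A 1 0 = 0 ∧ A 0 0 = A 1 1 := by
  constructor
  · rintro ⟨c, rfl⟩; simp
  · rintro ⟨h1, h2, h3⟩
    refine ⟨A 0 0, Matrix.ext fun i j => ?_⟩
    fin_cases i <;> fin_cases j <;> simp [h1, h2, h3]

theorem not_isSc_of_10 {A : M2} (h : A 1 0 ≠ 0) : ¬ IsSc A := fun h' => h ((isSc_iff A).mp h').2.1

theorem not_isSc_of_01 {A : M2} (h : A 0 1 ≠ 0) : ¬ IsSc A := fun h' => h ((isSc_iff A).mp h').1

/-- The companion matrix of `X² - tX + d`. -/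
def comp (t d : F) : M2 := !![0, -d; 1, t]

theorem comp_trace (t d : F) : (comp t d).trace = t := by simp [comp, Matrix.trace_fin_two]
theorem comp_det (t d : F) : (comp t d).det = d := by simp [comp, Matrix.det_fin_two]
theorem comp_not_isSc (t d : F) : ¬ IsSc (comp t d) := not_isSc_of_10 (by simp [comp])

/-- A non-scalar matrix is similar to its companion matrix. -/
theorem exists_companion {A : M2} (hA : ¬ IsSc A) :
    ∃ P : GL (Fin 2) F, (P : M2) * comp A.trace A.det = A * (P : M2) := by
  obtain ⟨v, hv⟩ : ∃ v : Fin 2 → F, v 0 * (A *ᵥ v) 1 - v 1 * (A *ᵥ v) 0 ≠ 0 := by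
    by_contra! hall
    apply hA
    have h0 := hall ![1, 0]
    have h1 := hall ![0, 1]
    have h2 := hall ![1, 1]
    simp [Matrix.mulVec, dotProduct, Fin.sum_univ_two] at h0 h1 h2
    rw [isSc_iff]
    refine ⟨h1, h0, ?_⟩
    linear_combination -h2 + h0 - h1
  obtain ⟨w, hw⟩ : ∃ w, w = A *ᵥ v := ⟨_, rfl⟩
  rw [← hw] at hv
  refine ⟨Matrix.GeneralLinearGroup.mkOfDetNeZero !![v 0, w 0; v 1, w 1]
    (by simpa [Matrix.det_fin_two, mul_comm] using hv), ?_⟩
  rw [Cfsg.Agent.Lead.GLBasic.coe_mkDet, comp, Matrix.trace_fin_two, Matrix.det_fin_two]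
  have e0 : w 0 = A 0 0 * v 0 + A 0 1 * v 1 := by
    rw [hw]; simp [Matrix.mulVec, dotProduct, Fin.sum_univ_two]
  have e1 : w 1 = A 1 0 * v 0 + A 1 1 * v 1 := by
    rw [hw]; simp [Matrix.mulVec, dotProduct, Fin.sum_univ_two]
  ext i j
  fin_cases i <;> fin_cases j <;> simp [Matrix.mul_apply, Fin.sum_univ_two, e0, e1] <;> ring

/-- Non-scalar matrices with equal trace and determinant are similar. -/
theorem exists_conj {A B : M2} (hA : ¬ IsSc A) (hB : ¬ IsSc B) (ht : A.trace = B.trace)
    (hd : A.det = B.det) : ∃ P : GL (Fin 2) F, (P : M2) * A = B * (P : M2) := by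
  obtain ⟨P, hP⟩ := exists_companion hA
  obtain ⟨R, hR⟩ := exists_companion hB
  refine ⟨R * P⁻¹, ?_⟩
  rw [← ht, ← hd] at hR
  have h1 : (P⁻¹ : GL (Fin 2) F).val * A = comp A.trace A.det * (P⁻¹ : GL (Fin 2) F).val := by
    have := congrArg (fun X => (P⁻¹ : GL (Fin 2) F).val * X * (P⁻¹ : GL (Fin 2) F).val) hP
    simp only [← Matrix.mul_assoc, Units.inv_mul, Matrix.one_mul] at this
    rw [this]
    simp [Matrix.mul_assoc]
  rw [Units.val_mul, Matrix.mul_assoc, h1, ← Matrix.mul_assoc, hR, Matrix.mul_assoc]

/-- `x + yA`. -/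
def comb (A : M2) (x y : F) : M2 := x • (1 : M2) + y • A

/-- An element of `SL₂` from a matrix of determinant one. -/
def mkSL (M : M2) (h : M.det = 1) : SL2 := ⟨M, h⟩

theorem mkSL_val (M : M2) (h : M.det = 1) : (mkSL M h).1 = M := rfl

/-- The norm form. -/
def Qf (t d x y : F) : F := x * x + t * x * y + d * (y * y)

theorem det_comb (A : M2) (x y : F) : (comb A x y).det = Qf A.trace A.det x y := by
  simp only [comb, Qf, Matrix.det_fin_two, Matrix.trace_fin_two, Matrix.add_apply, Matrix.smul_apply,
    Matrix.one_apply, smul_eq_mul]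
  simp
  ring

theorem comb_comm (A : M2) (x y : F) : comb A x y * A = A * comb A x y := by
  simp [comb, Matrix.add_mul, Matrix.mul_add]

theorem comb_injective {A : M2} (hA : ¬ IsSc A) {x y x' y' : F}
    (h : comb A x y = comb A x' y') : x = x' ∧ y = y' := by
  have hy : y = y' := by
    by_contra hne
    apply hA
    have e : (y - y') • A = (x' - x) • (1 : M2) := by
      simp only [comb] at h
      linear_combination (norm := module) h
    exact ⟨(y - y')⁻¹ * (x' - x), by
      rw [mul_smul, ← e, smul_smul, inv_mul_cancel₀ (sub_ne_zero.mpr hne), one_smul]⟩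
  subst hy
  refine ⟨?_, rfl⟩
  have h2 := congrFun (congrFun h 0) 0
  simp [comb] at h2
  exact h2

/-- The commutant of a non-scalar matrix. -/
theorem exists_comb {A X : M2} (hA : ¬ IsSc A) (h : X * A = A * X) :
    ∃ x y : F, X = comb A x y := by
  have e00 := congrFun (congrFun h 0) 0
  have e01 := congrFun (congrFun h 0) 1
  have e10 := congrFun (congrFun h 1) 0
  simp [Matrix.mul_apply, Fin.sum_univ_two] at e00 e01 e10
  obtain ⟨y, hy1, hy2, hy3⟩ : ∃ y, X 0 1 = y * A 0 1 ∧ X 1 0 = y * A 1 0 ∧
      X 0 0 - X 1 1 = y * (A 0 0 - A 1 1) := by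
    by_cases hc : A 1 0 = 0
    · by_cases hb : A 0 1 = 0
      · have hne : A 0 0 - A 1 1 ≠ 0 := fun h0 => hA ((isSc_iff A).mpr ⟨hb, hc, sub_eq_zero.mp h0⟩)
        refine ⟨(X 0 0 - X 1 1) / (A 0 0 - A 1 1), ?_, ?_, by rw [div_mul_cancel₀ _ hne]⟩
        · rw [hb, mul_zero]
          refine (mul_eq_zero.mp ?_).resolve_left hne
          linear_combination -e01 + (X 0 0 - X 1 1) * hb
        · rw [hc, mul_zero]
          refine (mul_eq_zero.mp ?_).resolve_left hne
          linear_combination e10 + (X 0 0 - X 1 1) * hc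
      · refine ⟨X 0 1 / A 0 1, by rw [div_mul_cancel₀ _ hb], ?_, ?_⟩
        · rw [hc, mul_zero]
          refine (mul_eq_zero.mp ?_).resolve_left hb
          linear_combination -e00 + X 0 1 * hc
        · field_simp
          linear_combination e01
    · refine ⟨X 1 0 / A 1 0, ?_, by rw [div_mul_cancel₀ _ hc], ?_⟩
      · field_simp
        linear_combination e00
      · field_simp
        linear_combination -e10
  refine ⟨X 1 1 - y * A 1 1, y, Matrix.ext fun i j => ?_⟩
  fin_cases i <;> fin_cases j <;> simp [comb, hy1, hy2]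
  linear_combination hy3

section Finite

variable [Fintype F]

theorem exists_form_value (a c : F) (h2 : (2 : F) ≠ 0) (hc : c ≠ 0) :
    ∃ u v : F, u * u + c * (v * v) = a := by
  have hodd : Fintype.card F % 2 = 1 :=
    FiniteField.odd_card_of_char_ne_two fun h => by
      have : CharP F 2 := h ▸ ringChar.charP F
      exact h2 (by exact_mod_cast CharP.cast_eq_zero F 2)
  obtain ⟨u, v, huv⟩ := FiniteField.exists_root_sum_quadratic
    (f := Polynomial.C (1 : F) * Polynomial.X ^ 2)
    (g := Polynomial.C c * Polynomial.X ^ 2 + Polynomial.C (-a))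
    (Polynomial.degree_C_mul_X_pow 2 one_ne_zero)
    (by
      rw [Polynomial.degree_add_eq_left_of_degree_lt, Polynomial.degree_C_mul_X_pow 2 hc]
      · rfl
      · rw [Polynomial.degree_C_mul_X_pow 2 hc]
        exact lt_of_le_of_lt Polynomial.degree_C_le (by norm_num)) hodd
  simp only [Polynomial.eval_add, Polynomial.eval_mul, Polynomial.eval_C, Polynomial.eval_pow,
    Polynomial.eval_X] at huv
  exact ⟨u, v, by linear_combination huv⟩

theorem isSquare_of_two (h2 : (2 : F) = 0) (a : F) : ∃ s : F, s * s = a := by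
  obtain ⟨s, hs⟩ := FiniteField.isSquare_of_char_two (F := F) (by
    by_contra hne
    exact Ring.two_ne_zero hne h2) a
  exact ⟨s, hs.symm⟩

/-- The norm form takes every value unless it is a square of a linear form in odd characteristic. -/
theorem Qf_surjective {t d : F} (h : (2 : F) = 0 ∨ t * t ≠ 4 * d) (a : F) :
    ∃ x y : F, Qf t d x y = a := by
  by_cases h2 : (2 : F) = 0
  · obtain ⟨s, hs⟩ := isSquare_of_two h2 a
    exact ⟨s, 0, by rw [Qf]; linear_combination hs⟩
  · have hne := h.resolve_left h2
    have h4 : (4 : F) ≠ 0 := by rw [show (4 : F) = 2 * 2 by norm_num]; exact mul_ne_zero h2 h2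
    obtain ⟨u, v, huv⟩ := exists_form_value a (d - t * t / 4) h2 (by
      rw [sub_ne_zero]
      intro he
      exact hne (by rw [he]; field_simp))
    refine ⟨u - t * v / 2, v, ?_⟩
    rw [Qf, ← huv]
    field_simp
    ring

/-- The number of roots of `k² + tk + d`. -/
noncomputable def roots (t d : F) : ℕ := Nat.card {k : F // k * k + t * k + d = 0}

/-- The number of solutions of `Qf t d = 1`. -/
noncomputable def sol (t d : F) : ℕ := Nat.card {p : F × F // Qf t d p.1 p.2 = 1}

theorem roots_le (t d : F) : roots t d ≤ 2 := by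
  classical
  by_contra hlt
  obtain ⟨a, b, c, hab, hac, hbc⟩ : ∃ a b c : {k : F // k * k + t * k + d = 0},
      a ≠ b ∧ a ≠ c ∧ b ≠ c := by
    rw [roots, Nat.card_eq_fintype_card, not_le] at hlt
    exact Fintype.two_lt_card_iff.mp hlt
  have h1 : ((a : F) - b) * ((a : F) + b + t) = 0 := by linear_combination a.2 - b.2
  have h2 : ((a : F) - c) * ((a : F) + c + t) = 0 := by linear_combination a.2 - c.2
  have e1 := (mul_eq_zero.mp h1).resolve_left (sub_ne_zero.mpr fun h => hab (Subtype.ext h))
  have e2 := (mul_eq_zero.mp h2).resolve_left (sub_ne_zero.mpr fun h => hac (Subtype.ext h))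
  exact hbc (Subtype.ext (by linear_combination e1 - e2))

/-- A quadratic with a root has two, unless it is a square. -/
theorem roots_cases {t d : F} (h : t * t ≠ 4 * d) : roots t d = 0 ∨ roots t d = 2 := by
  classical
  rcases isEmpty_or_nonempty {k : F // k * k + t * k + d = 0} with he | ⟨⟨k, hk⟩⟩
  · left; rw [roots, Nat.card_eq_zero]; exact Or.inl he
  · right
    refine le_antisymm (roots_le t d) ?_
    rw [roots, Nat.card_eq_fintype_card]
    refine Fintype.one_lt_card_iff.mpr ⟨⟨k, hk⟩, ⟨-t - k, by linear_combination hk⟩, fun he => ?_⟩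
    have h' : k = -t - k := congrArg Subtype.val he
    exact h (by linear_combination (t + 2 * k) * h' - 4 * hk)

/-- The conic `Qf t d = 1` has `q + 1` points minus the roots. -/
theorem sol_add_roots {t d : F} (h : t * t ≠ 4 * d) : sol t d + roots t d = Fintype.card F + 1 := by
  classical
  let S := {p : F × F // Qf t d p.1 p.2 = 1}
  let K := {k : F // 2 * k + t ≠ 0 ∧ k * k + t * k + d ≠ 0}
  let e : S ≃ K ⊕ {x : F // x * x = 1} :=
    { toFun := fun p => if hy : p.1.2 = 0 then Sum.inr ⟨p.1.1, by
          have := p.2; rw [Qf, hy] at this; linear_combination this⟩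
        else Sum.inl ⟨(p.1.1 - 1) / p.1.2, by
          obtain ⟨⟨x, y⟩, hp⟩ := p
          simp only [Qf] at hp hy ⊢
          obtain ⟨k, hk⟩ : ∃ k, k = (x - 1) / y := ⟨_, rfl⟩
          have hx : x = 1 + k * y := by rw [hk, div_mul_cancel₀ _ hy]; ring
          rw [← hk]
          subst hx
          have hm : (k * k + t * k + d) * y + (2 * k + t) = 0 := by
            refine (mul_eq_zero.mp ?_).resolve_left hy
            linear_combination hp
          refine ⟨fun h0 => ?_, fun h0 => ?_⟩
          · rw [h0, add_zero] at hm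
            have h1 := (mul_eq_zero.mp hm).resolve_right hy
            exact h (by linear_combination (2 * k + t) * h0 - 4 * h1)
          · rw [h0, zero_mul, zero_add] at hm
            exact h (by linear_combination (2 * k + t) * hm - 4 * h0)⟩
      invFun := fun s => match s with
        | Sum.inl k => ⟨(1 + k.1 * (-(2 * k.1 + t) / (k.1 * k.1 + t * k.1 + d)),
            -(2 * k.1 + t) / (k.1 * k.1 + t * k.1 + d)), by
              obtain ⟨k, h1, h2⟩ := k
              obtain ⟨y, hy⟩ : ∃ y, y = -(2 * k + t) / (k * k + t * k + d) := ⟨_, rfl⟩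
              have e : y * (k * k + t * k + d) = -(2 * k + t) := by rw [hy, div_mul_cancel₀ _ h2]
              simp only [Qf, ← hy]
              linear_combination y * e⟩
        | Sum.inr x => ⟨(x.1, 0), by simp [Qf, x.2]⟩
      left_inv := fun p => by
        obtain ⟨⟨x, y⟩, hp⟩ := p
        simp only [Qf] at hp
        by_cases hy : y = 0
        · subst hy; simp
        · simp only [hy, dite_false]
          apply Subtype.ext
          obtain ⟨k, hk⟩ : ∃ k, k = (x - 1) / y := ⟨_, rfl⟩
          have hx : x = 1 + k * y := by rw [hk, div_mul_cancel₀ _ hy]; ring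
          simp only [← hk]
          subst hx
          have hm : (k * k + t * k + d) * y + (2 * k + t) = 0 := by
            refine (mul_eq_zero.mp ?_).resolve_left hy
            linear_combination hp
          have hD : k * k + t * k + d ≠ 0 := fun h0 => by
            rw [h0, zero_mul, zero_add] at hm
            exact h (by linear_combination (2 * k + t) * hm - 4 * h0)
          have hY : -(2 * k + t) / (k * k + t * k + d) = y := by
            rw [div_eq_iff hD]; linear_combination -hm
          rw [hY]
      right_inv := fun s => by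
        rcases s with ⟨k, h1, h2⟩ | ⟨x, hx⟩
        · have hy : -(2 * k + t) / (k * k + t * k + d) ≠ 0 := div_ne_zero (neg_ne_zero.mpr h1) h2
          simp only [hy, dite_false]
          congr 1
          apply Subtype.ext
          simp only [add_sub_cancel_left]
          rw [mul_div_assoc, div_self hy, mul_one]
        · simp }
  have hS : sol t d = Fintype.card K + Fintype.card {x : F // x * x = 1} := by
    rw [sol, Nat.card_congr e, Nat.card_sum, Nat.card_eq_fintype_card, Nat.card_eq_fintype_card]
  have hK : Fintype.card K + (Fintype.card {k : F // k * k + t * k + d = 0} +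
      Fintype.card {k : F // 2 * k + t = 0}) = Fintype.card F := by
    rw [← Fintype.card_subtype_or_disjoint]
    · rw [show Fintype.card K = Fintype.card
          {k : F // ¬(k * k + t * k + d = 0 ∨ 2 * k + t = 0)} from
        Fintype.card_congr (Equiv.subtypeEquivRight fun k => by tauto),
        Fintype.card_subtype_compl]
      exact Nat.sub_add_cancel (Fintype.card_subtype_le _)
    · rw [Pi.disjoint_iff]
      intro k
      simp only [Prop.disjoint_iff]
      by_contra hh
      exact h (by linear_combination (2 * k + t) * hh.2 - 4 * hh.1)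
  have h1 : Fintype.card {x : F // x * x = 1} = Fintype.card {k : F // 2 * k + t = 0} + 1 := by
    by_cases h2 : (2 : F) = 0
    · have ht : t ≠ 0 := fun ht => h (by rw [ht]; linear_combination -2 * d * h2)
      have hz : IsEmpty {k : F // 2 * k + t = 0} := ⟨fun k => ht (by
        linear_combination k.2 - k.1 * h2)⟩
      rw [Fintype.card_eq_zero (α := {k : F // 2 * k + t = 0}), zero_add, Fintype.card_eq_one_iff]
      refine ⟨⟨1, one_mul 1⟩, fun x => Subtype.ext ?_⟩
      have hx : (x.1 - 1) * (x.1 - 1) = 0 := by linear_combination x.2 + (1 - x.1) * h2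
      exact sub_eq_zero.mp ((mul_self_eq_zero).mp hx)
    · have e1 : Fintype.card {k : F // 2 * k + t = 0} = 1 := Fintype.card_eq_one_iff.mpr
        ⟨⟨-t / 2, by field_simp; ring⟩, fun k => Subtype.ext (by
          field_simp; linear_combination k.2)⟩
      rw [e1, ← Nat.card_eq_fintype_card, Nat.card_congr (Equiv.subtypeEquivRight
        (q := fun x => x ∈ ({1, -1} : Finset F)) fun x => by simp [mul_self_eq_one_iff]),
        Nat.card_eq_fintype_card, Fintype.card_coe, Finset.card_pair]
      intro he
      exact h2 (by linear_combination he)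
  have h3 : roots t d = Fintype.card {k : F // k * k + t * k + d = 0} := Nat.card_eq_fintype_card
  omega

/-- A norm form with square discriminant one: the parabolic case. -/
theorem sol_parabolic {ε : F} (hε : ε * ε = 1) :
    sol (2 * ε) 1 = Fintype.card F * Nat.card {s : F // s * s = 1} := by
  classical
  let e : {p : F × F // Qf (2 * ε) 1 p.1 p.2 = 1} ≃ F × {s : F // s * s = 1} :=
    { toFun := fun p => (p.1.2, ⟨p.1.1 + ε * p.1.2, by
        have := p.2; simp only [Qf] at this; linear_combination this + p.1.2 * p.1.2 * hε⟩)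
      invFun := fun s => ⟨(s.2.1 - ε * s.1, s.1), by
        simp only [Qf]; linear_combination s.2.2 - s.1 * s.1 * hε⟩
      left_inv := fun p => by ext <;> simp
      right_inv := fun s => by ext <;> simp }
  rw [sol, Nat.card_congr e, Nat.card_prod, Nat.card_eq_fintype_card (α := F)]

/-- Pairs of norm zero. -/
theorem card_Qf_zero (t d : F) :
    Nat.card {p : F × F // Qf t d p.1 p.2 = 0} = 1 + roots t d * (Fintype.card F - 1) := by
  classical
  let e : {p : F × F // Qf t d p.1 p.2 = 0} ≃
      Option ({k : F // k * k + t * k + d = 0} × Fˣ) :=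
    { toFun := fun p => if hy : p.1.2 = 0 then none else
        some (⟨p.1.1 / p.1.2, by
          have := p.2; simp only [Qf] at this; field_simp; linear_combination this⟩,
          Units.mk0 _ hy)
      invFun := fun s => match s with
        | none => ⟨(0, 0), by simp [Qf]⟩
        | some (k, y) => ⟨(k.1 * y, y), by
          simp only [Qf]; linear_combination ((y : F) * y) * k.2⟩
      left_inv := fun p => by
        obtain ⟨⟨x, y⟩, hp⟩ := p
        by_cases hy : y = 0
        · subst hy
          simp only [Qf] at hp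
          have : x = 0 := mul_self_eq_zero.mp (by linear_combination hp)
          simp [this]
        · simp only [hy, dite_false]
          apply Subtype.ext
          simp [div_mul_cancel₀ _ hy]
      right_inv := fun s => by
        rcases s with _ | ⟨k, y⟩
        · simp
        · have hy : (y : F) ≠ 0 := y.ne_zero
          simp [hy] }
  rw [Nat.card_congr e, Finite.card_option, Nat.card_prod, Cfsg.Agent.Lead.GLBasic.card_units_eq,
    add_comm]
  rfl

/-! ### Centralisers -/

/-- The centraliser in `SL₂`. -/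
theorem card_centralizer (g : SL2) (hg : ¬ IsSc g.1) :
    Nat.card (Subgroup.centralizer ({g} : Set SL2)) = sol g.1.trace 1 := by
  classical
  rw [sol]
  refine (Nat.card_congr (Equiv.ofBijective (fun p : {p : F × F // Qf g.1.trace 1 p.1 p.2 = 1} =>
    (⟨mkSL (comb g.1 p.1.1 p.1.2) (by rw [det_comb, g.2]; exact p.2),
      Subgroup.mem_centralizer_singleton_iff.mpr (Subtype.ext (comb_comm g.1 _ _))⟩ :
        Subgroup.centralizer ({g} : Set SL2))) ⟨fun p r h => ?_, fun X => ?_⟩)).symm
  · obtain ⟨h1, h2⟩ := comb_injective hg (congrArg (fun X : Subgroup.centralizer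
      ({g} : Set SL2) => X.1.1) h)
    exact Subtype.ext (Prod.ext h1 h2)
  · obtain ⟨x, y, hxy⟩ := exists_comb hg
      (congrArg (fun Y : SL2 => Y.1) (Subgroup.mem_centralizer_singleton_iff.mp X.2))
    refine ⟨⟨(x, y), ?_⟩, ?_⟩
    · have h := X.1.2
      rw [hxy, det_comb, g.2] at h
      exact h
    · apply Subtype.ext
      exact Subtype.ext hxy.symm

/-- The centraliser in `GL₂`. -/
theorem card_centralizer_GL (g : GL (Fin 2) F) (hg : ¬ IsSc (g : M2)) :
    Nat.card (Subgroup.centralizer ({g} : Set (GL (Fin 2) F))) + 1 +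
      roots (g : M2).trace (g : M2).det * (Fintype.card F - 1) = Fintype.card F ^ 2 := by
  classical
  set t := (g : M2).trace
  set d := (g : M2).det
  have e : Nat.card (Subgroup.centralizer ({g} : Set (GL (Fin 2) F))) =
      Nat.card {p : F × F // Qf t d p.1 p.2 ≠ 0} := by
    refine (Nat.card_congr (Equiv.ofBijective (fun p : {p : F × F // Qf t d p.1 p.2 ≠ 0} =>
      (⟨Matrix.GeneralLinearGroup.mkOfDetNeZero (comb (g : M2) p.1.1 p.1.2)
          (by rw [det_comb]; exact p.2),
        Subgroup.mem_centralizer_singleton_iff.mpr (Units.ext (comb_comm _ _ _))⟩ :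
          Subgroup.centralizer ({g} : Set (GL (Fin 2) F)))) ⟨fun p r h => ?_, fun X => ?_⟩)).symm
    · obtain ⟨h1, h2⟩ := comb_injective hg (congrArg (fun X : Subgroup.centralizer
        ({g} : Set (GL (Fin 2) F)) => (X.1 : M2)) h)
      exact Subtype.ext (Prod.ext h1 h2)
    · obtain ⟨x, y, hxy⟩ := exists_comb hg
        (congrArg Units.val (Subgroup.mem_centralizer_singleton_iff.mp X.2))
      refine ⟨⟨(x, y), ?_⟩, Subtype.ext (Units.ext hxy.symm)⟩
      have h : (X.1 : M2).det ≠ 0 := by
        rw [← Matrix.GeneralLinearGroup.val_det_apply]; exact Units.ne_zero _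
      rw [hxy, det_comb] at h
      exact h
  rw [e, add_assoc, ← card_Qf_zero t d, ← Nat.card_sum,
    Nat.card_congr ((Equiv.sumComm _ _).trans (Equiv.sumCompl _)), Nat.card_eq_fintype_card,
    Fintype.card_prod, pow_two]

theorem card_SL2 : Nat.card SL2 = Fintype.card F * (Fintype.card F ^ 2 - 1) := by
  classical
  have h1 := Cfsg.Agent.Lead.GLBasic.card_GL_eq (F := F) 2
  rw [Cfsg.Agent.Lead.GL2.card_GL2] at h1
  obtain ⟨k, hk⟩ : ∃ k, Fintype.card F = k + 2 := ⟨Fintype.card F - 2, by
    have := Fintype.one_lt_card (α := F); omega⟩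
  rw [hk] at h1 ⊢
  rw [show k + 2 - 1 = k + 1 from rfl] at h1
  have h2 : (k + 2) ^ 2 - 1 = (k + 1) * (k + 3) := by
    rw [show (k + 2) ^ 2 = (k + 1) * (k + 3) + 1 by ring, Nat.add_sub_cancel]
  rw [h2]
  refine Nat.eq_of_mul_eq_mul_left (show 0 < k + 1 by omega) ?_
  rw [← h1]
  ring

end Finite

end Cfsg.Agent.Small.SL2C
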