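import Mathlib
import Cfsg.Agent.Lib.Small.SL2.Classes
import Cfsg.Agent.Lib.Small.PSL2

/-!
Conjugacy in `SL₂` over a finite field, cyclicity of tori, and centralisers in `PSL₂`.
-/

set_option autoImplicit false
set_option linter.unusedSectionVars false

namespace Cfsg.Agent.Small.SL2C

open Matrix

variable {F : Type*} [Field F]

local notation "M2" => Matrix (Fin 2) (Fin 2) F
local notation "SL2" => Matrix.SpecialLinearGroup (Fin 2) F
local notation "P2" => Matrix.ProjectiveSpecialLinearGroup (Fin 2) F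

theorem val_mul' (g h : SL2) : (g * h).1 = g.1 * h.1 := rfl

theorem isConj_of_mul {g h S : SL2} (e : S.1 * g.1 = h.1 * S.1) : IsConj g h := by
  refine isConj_iff.mpr ⟨S, ?_⟩
  have e' : S * g = h * S := Subtype.ext e
  rw [e', mul_inv_cancel_right]

theorem mul_of_isConj {g h : SL2} (e : IsConj g h) : ∃ S : SL2, S.1 * g.1 = h.1 * S.1 := by
  obtain ⟨S, hS⟩ := isConj_iff.mp e
  refine ⟨S, congrArg (fun Y : SL2 => Y.1) (?_ : S * g = h * S)⟩
  rw [← hS, inv_mul_cancel_right]

/-- Cayley–Hamilton. -/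
theorem sq_eq (g : SL2) : g.1 * g.1 = g.1.trace • g.1 - 1 := by
  have hd : g.1 0 0 * g.1 1 1 - g.1 0 1 * g.1 1 0 = 1 := by
    rw [← Matrix.det_fin_two]; exact g.2
  ext i j
  fin_cases i <;> fin_cases j <;>
    simp [Matrix.mul_apply, Fin.sum_univ_two, Matrix.trace_fin_two] <;>
    first
      | ring1
      | linear_combination hd
      | linear_combination -hd

/-- Over odd characteristic the only involution of `SL₂` is `-1`. -/
theorem sq_one_cases {g : SL2} (h2 : (2 : F) ≠ 0) (h : g * g = 1) : g.1 = 1 ∨ g.1 = -1 := by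
  have h1 : g.1.trace • g.1 = (2 : F) • (1 : M2) := by
    have := congrArg (fun Y : SL2 => Y.1) h
    simp only [val_mul', sq_eq, Matrix.SpecialLinearGroup.coe_one] at this
    linear_combination (norm := module) this
  have ht : g.1.trace ≠ 0 := fun ht => by
    rw [ht, zero_smul] at h1
    have := congrFun (congrFun h1 0) 0
    simp at this
    exact h2 this.symm
  have hg : g.1 = (g.1.trace⁻¹ * 2) • (1 : M2) := by
    rw [mul_smul, ← h1, smul_smul, inv_mul_cancel₀ ht, one_smul]
  have hd := g.2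
  rw [hg, Matrix.det_smul, Matrix.det_one, mul_one, Fintype.card_fin, pow_two] at hd
  rcases mul_self_eq_one_iff.mp hd with h' | h'
  · left; rw [hg, h', one_smul]
  · right; rw [hg, h', neg_one_smul]

theorem trace_isSc {ε : F} : ((ε • (1 : M2))).trace = 2 * ε := by
  rw [Matrix.trace_smul, Matrix.trace_one, Fintype.card_fin]; push_cast; rw [smul_eq_mul]; ring

theorem trace_conj {g h : SL2} (e : IsConj g h) : g.1.trace = h.1.trace := by
  obtain ⟨S, hS⟩ := mul_of_isConj e
  have hu : IsUnit S.1.det := by rw [S.2]; exact isUnit_one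
  have : g.1 = S.1⁻¹ * (h.1 * S.1) := by
    rw [← hS, ← Matrix.mul_assoc, Matrix.nonsing_inv_mul _ hu, Matrix.one_mul]
  rw [this, Matrix.trace_mul_comm, Matrix.mul_assoc, Matrix.mul_nonsing_inv _ hu, Matrix.mul_one]

theorem isSc_conj {g h : SL2} (e : IsConj g h) (hg : IsSc g.1) : g = h := by
  obtain ⟨S, hS⟩ := mul_of_isConj e
  obtain ⟨c, hc⟩ := hg
  apply Subtype.ext
  have hu : IsUnit S.1.det := by rw [S.2]; exact isUnit_one
  have h1 : h.1 * S.1 = g.1 * S.1 := by rw [← hS, hc]; simp
  have := congrArg (fun X : M2 => X * S.1⁻¹) h1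
  simpa [Matrix.mul_assoc, Matrix.mul_nonsing_inv _ hu] using this.symm

/-- The element `ε + bE₀₁`. -/
def epU (ε b : F) (hε : ε * ε = 1) : SL2 := mkSL !![ε, b; 0, ε] (by simp [Matrix.det_fin_two, hε])

theorem epU_val (ε b : F) (hε : ε * ε = 1) : (epU ε b hε).1 = !![ε, b; 0, ε] := rfl

theorem epU_trace (ε b : F) (hε : ε * ε = 1) : (epU ε b hε).1.trace = 2 * ε := by
  simp [epU_val, Matrix.trace_fin_two]; ring

theorem epU_not_isSc {ε b : F} (hε : ε * ε = 1) (hb : b ≠ 0) : ¬ IsSc (epU ε b hε).1 :=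
  not_isSc_of_01 (by simpa [epU_val] using hb)

theorem epU_conj_iff {ε b c : F} (hε : ε * ε = 1) (hb : b ≠ 0) (hc : c ≠ 0) :
    IsConj (epU ε b hε) (epU ε c hε) ↔ IsSquare (b * c) := by
  constructor
  · intro h
    obtain ⟨S, hS⟩ := mul_of_isConj h
    have e00 := congrFun (congrFun hS 0) 0
    have e01 := congrFun (congrFun hS 0) 1
    simp [epU_val, Matrix.mul_apply, Fin.sum_univ_two] at e00 e01
    have h10 : S.1 1 0 = 0 := by
      refine (mul_eq_zero.mp ?_).resolve_left hc
      linear_combination -e00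
    have hd : S.1 0 0 * S.1 1 1 = 1 := by
      have := S.2
      rw [Matrix.det_fin_two, h10, mul_zero, sub_zero] at this
      exact this
    exact ⟨b * S.1 0 0, by linear_combination (-(b * c)) * hd - b * S.1 0 0 * e01⟩
  · rintro ⟨s, hs⟩
    have hs0 : s ≠ 0 := fun h => by simp [h, hb, hc] at hs
    refine isConj_of_mul (S := mkSL !![s / b, 0; 0, b / s] (by
      simp [Matrix.det_fin_two]; field_simp)) ?_
    ext i j
    fin_cases i <;> fin_cases j <;>
      simp [epU_val, mkSL_val, Matrix.mul_apply, Fin.sum_univ_two] <;> field_simp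
    linear_combination -hs

/-- Normal form of a non-scalar element with trace `2ε`. -/
theorem exists_epU {g : SL2} (hg : ¬ IsSc g.1) {ε : F} (hε : ε * ε = 1)
    (ht : g.1.trace = 2 * ε) : ∃ b, b ≠ 0 ∧ IsConj g (epU ε b hε) := by
  obtain ⟨P, hP⟩ := exists_conj hg (epU_not_isSc hε one_ne_zero) (by rw [ht, epU_trace])
    (by rw [g.2, (epU ε 1 hε).2])
  obtain ⟨δ, hδ⟩ : ∃ δ, δ = (P : M2).det := ⟨_, rfl⟩
  have hδ0 : δ ≠ 0 := by
    rw [hδ, ← Matrix.GeneralLinearGroup.val_det_apply]; exact Units.ne_zero _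
  refine ⟨δ⁻¹, inv_ne_zero hδ0, isConj_of_mul (S := mkSL (!![δ⁻¹, 0; 0, 1] * (P : M2)) (by
    rw [Matrix.det_mul, ← hδ]; simp [Matrix.det_fin_two, hδ0])) ?_⟩
  rw [mkSL_val, Matrix.mul_assoc, hP, ← Matrix.mul_assoc, ← Matrix.mul_assoc, epU_val, epU_val]
  congr 1
  ext i j
  fin_cases i <;> fin_cases j <;> simp [Matrix.mul_apply, Fin.sum_univ_two, mul_comm]

theorem not_isSc_of_trace {g : SL2} (ht : g.1.trace * g.1.trace ≠ 4) : ¬ IsSc g.1 := by
  rintro ⟨c, hc⟩
  have hd := g.2
  rw [hc, Matrix.det_smul, Matrix.det_one, mul_one, Fintype.card_fin] at hd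
  rw [hc, trace_isSc] at ht
  exact ht (by linear_combination 4 * hd)

section Finite

variable [Fintype F]

/-- Elements with equal trace are conjugate, apart from the parabolic ones in odd characteristic. -/
theorem isConj_of_trace {g h : SL2} (hg : ¬ IsSc g.1) (hh : ¬ IsSc h.1)
    (ht : g.1.trace = h.1.trace) (hne : (2 : F) = 0 ∨ g.1.trace * g.1.trace ≠ 4) : IsConj g h := by
  obtain ⟨P, hP⟩ := exists_conj hg hh ht (by rw [g.2, h.2])
  have hδ0 : (P : M2).det ≠ 0 := by
    rw [← Matrix.GeneralLinearGroup.val_det_apply]; exact Units.ne_zero _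
  obtain ⟨x, y, hxy⟩ := Qf_surjective (t := g.1.trace) (d := 1) (by rwa [mul_one]) (P : M2).det⁻¹
  refine isConj_of_mul (S := mkSL ((P : M2) * comb g.1 x y) (by
    rw [Matrix.det_mul, det_comb, g.2, hxy, mul_inv_cancel₀ hδ0])) ?_
  rw [mkSL_val, Matrix.mul_assoc, comb_comm, ← Matrix.mul_assoc, hP, Matrix.mul_assoc]

/-- The trace of a non-split element exists. -/
theorem exists_roots_zero : ∃ t : F, t * t ≠ 4 ∧ roots t 1 = 0 := by
  classical
  by_contra! hall
  have hroot : ∀ t : F, ∃ k : F, k * k + t * k + 1 = 0 := by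
    intro t
    by_cases h4 : t * t = 4
    · by_cases h2 : (2 : F) = 0
      · exact ⟨1, by
          have ht : t = 0 := mul_self_eq_zero.mp (by rw [h4]; linear_combination 2 * h2)
          rw [ht]; linear_combination h2⟩
      · exact ⟨-t / 2, by field_simp; linear_combination -h4⟩
    · have h1 : 0 < roots t 1 := Nat.pos_of_ne_zero (hall t h4)
      rw [roots, Nat.card_pos_iff] at h1
      obtain ⟨⟨k, hk⟩⟩ := h1.1
      exact ⟨k, hk⟩
  choose k hk using hroot
  have hk0 : ∀ t, k t ≠ 0 := fun t h => by have := hk t; simp [h] at this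
  have hinj : Function.Injective fun t => Units.mk0 (k t) (hk0 t) := by
    intro a b hab
    have e : k a = k b := congrArg Units.val hab
    have h1 := hk a
    rw [e] at h1
    have h2 : (a - b) * k b = 0 := by linear_combination h1 - hk b
    exact sub_eq_zero.mp ((mul_eq_zero.mp h2).resolve_right (hk0 b))
  have h3 := Fintype.card_le_of_injective _ hinj
  rw [Fintype.card_units] at h3
  have := Fintype.one_lt_card (α := F)
  omega

theorem roots_two_of_trace {g : SL2} {v : Fin 2 → F} {c : F} (hv : v ≠ 0)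
    (h : g.1 *ᵥ v = c • v) (ht : g.1.trace * g.1.trace ≠ 4) : roots g.1.trace 1 = 2 := by
  refine (roots_cases (by rwa [mul_one])).resolve_left fun h0 => ?_
  rw [roots, Nat.card_eq_zero] at h0
  rcases h0 with h0 | h0
  · refine h0.false ⟨-c, ?_⟩
    have h1 := congrArg (fun X : M2 => X *ᵥ v) (sq_eq g)
    simp only [← Matrix.mulVec_mulVec, h, Matrix.mulVec_smul, Matrix.sub_mulVec, Matrix.one_mulVec,
      Matrix.smul_mulVec, smul_smul] at h1
    have h2 : (c * c - g.1.trace * c + 1) • v = 0 := by linear_combination (norm := module) h1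
    linear_combination (smul_eq_zero.mp h2).resolve_right hv
  · exact h0.false

theorem exists_eigen_of_roots {g : SL2} (h : roots g.1.trace 1 ≠ 0) :
    ∃ (v : Fin 2 → F) (c : F), v ≠ 0 ∧ g.1 *ᵥ v = c • v := by
  rw [roots] at h
  obtain ⟨⟨k, hk⟩⟩ := (Nat.card_ne_zero.mp h).1
  obtain ⟨v, hv, h1⟩ := Matrix.exists_mulVec_eq_zero_iff.mpr
    (show (comb g.1 k 1).det = 0 by rw [det_comb, g.2, Qf]; linear_combination hk)
  refine ⟨v, -k, hv, ?_⟩
  simp only [comb, one_smul, Matrix.add_mulVec, Matrix.smul_mulVec, Matrix.one_mulVec] at h1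
  rw [neg_smul]
  exact eq_neg_of_add_eq_zero_right h1

/-- Tori are cyclic. -/
theorem isCyclic_centralizer {g : SL2} (ht : g.1.trace * g.1.trace ≠ 4) :
    IsCyclic (Subgroup.centralizer ({g} : Set SL2)) := by
  classical
  have hg := not_isSc_of_trace ht
  set C := Subgroup.centralizer ({g} : Set SL2)
  have hcomm : ∀ X : C, (X.1.1 : M2) * g.1 = g.1 * X.1.1 := fun X =>
    congrArg (fun Y : SL2 => Y.1) (Subgroup.mem_centralizer_singleton_iff.mp X.2)
  by_cases hr : roots g.1.trace 1 = 0
  · -- the commutant is a field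
    let K : Subring M2 := Subring.centralizer {g.1}
    have hK : ∀ X : K, ∃ x y : F, (X : M2) = comb g.1 x y := fun X =>
      exists_comb hg ((Subring.mem_centralizer_iff.mp X.2 g.1 rfl).symm)
    let : CommRing K :=
      { (inferInstance : Ring K) with
        mul_comm := fun X Y => by
          obtain ⟨x, y, hX⟩ := hK X
          obtain ⟨x', y', hY⟩ := hK Y
          apply Subtype.ext
          change (X : M2) * Y = Y * X
          rw [hX, hY]
          simp only [comb, Matrix.add_mul, Matrix.mul_add, Matrix.smul_mul, Matrix.mul_smul,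
            Matrix.one_mul, Matrix.mul_one]
          module }
    have : Nontrivial K := ⟨0, 1, fun h => zero_ne_one (congrArg Subtype.val h : (0 : M2) = 1)⟩
    have : NoZeroDivisors K := ⟨fun {X Y} h => by
      have key : ∀ Z : K, (Z : M2).det = 0 → Z = 0 := by
        intro Z hZ
        obtain ⟨x, y, hxy⟩ := hK Z
        rw [hxy, det_comb, g.2, Qf] at hZ
        by_cases hy : y = 0
        · subst hy
          apply Subtype.ext
          rw [hxy, show x = 0 from mul_self_eq_zero.mp (by linear_combination hZ)]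
          simp [comb]
        · rw [roots, Nat.card_eq_zero] at hr
          exfalso
          rcases hr with hr | hr
          · exact hr.false ⟨x / y, by field_simp; linear_combination hZ⟩
          · exact hr.false
      have h0 : (X : M2) * (Y : M2) = 0 := congrArg (fun Z : K => (Z : M2)) h
      have h1 := congrArg Matrix.det h0
      rw [Matrix.det_mul, Matrix.det_zero] at h1
      exact (mul_eq_zero.mp h1).imp (key X) (key Y)⟩
    have : IsDomain K := NoZeroDivisors.to_isDomain K
    let φ : C →* K :=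
      { toFun := fun X => ⟨X.1.1, Subring.mem_centralizer_iff.mpr fun y hy => by
          rw [Set.mem_singleton_iff.mp hy]; exact (hcomm X).symm⟩
        map_one' := rfl
        map_mul' := fun _ _ => rfl }
    exact isCyclic_of_subgroup_isDomain φ fun X Y h =>
      Subtype.ext (Subtype.ext (congrArg (fun Z : K => (Z : M2)) h))
  · -- eigenvalue on a fixed eigenvector
    obtain ⟨v, c, hv, hc⟩ := exists_eigen_of_roots hr
    have hX : ∀ X : C, ∃ x y : F, X.1.1 = comb g.1 x y := fun X => exists_comb hg (hcomm X)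
    have heig : ∀ X : C, ∃ e : F, X.1.1 *ᵥ v = e • v := fun X => by
      obtain ⟨x, y, hxy⟩ := hX X
      exact ⟨x + y * c, by rw [hxy, comb, Matrix.add_mulVec, Matrix.smul_mulVec,
        Matrix.smul_mulVec, Matrix.one_mulVec, hc, smul_smul, add_smul]⟩
    choose e he using heig
    have huniq : ∀ (X : C) (a : F), X.1.1 *ᵥ v = a • v → e X = a := fun X a ha =>
      smul_left_injective F hv ((he X).symm.trans ha)
    let φ : C →* F :=
      { toFun := e
        map_one' := huniq 1 1 (by simp)
        map_mul' := fun X Y => huniq (X * Y) _ (by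
          rw [Subgroup.coe_mul, val_mul', ← Matrix.mulVec_mulVec, he, Matrix.mulVec_smul, he,
            smul_smul, mul_comm]) }
    refine isCyclic_of_subgroup_isDomain φ ((injective_iff_map_eq_one φ).mpr fun X hX1 => ?_)
    obtain ⟨x, y, hxy⟩ := hX X
    have hev := he X
    rw [show e X = 1 from hX1, one_smul, hxy, comb, Matrix.add_mulVec, Matrix.smul_mulVec,
      Matrix.smul_mulVec, Matrix.one_mulVec, hc, smul_smul] at hev
    have h1 : (x + y * c - 1) • v = 0 := by linear_combination (norm := module) hev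
    have hl := sub_eq_zero.mp ((smul_eq_zero.mp h1).resolve_right hv)
    have hd := X.1.2
    rw [hxy, det_comb, g.2, Qf] at hd
    have hcc : c * c - g.1.trace * c + 1 = 0 := by
      have h1 := congrArg (fun X : M2 => X *ᵥ v) (sq_eq g)
      simp only [← Matrix.mulVec_mulVec, hc, Matrix.mulVec_smul, Matrix.sub_mulVec,
        Matrix.one_mulVec, Matrix.smul_mulVec, smul_smul] at h1
      have h2 : (c * c - g.1.trace * c + 1) • v = 0 := by linear_combination (norm := module) h1
      exact (smul_eq_zero.mp h2).resolve_right hv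
    have hy : y * (g.1.trace - 2 * c) = 0 := by
      linear_combination hd - y * y * hcc - (x + 1 - y * c + g.1.trace * y) * hl
    have hy0 : y = 0 := (mul_eq_zero.mp hy).resolve_right fun h0 =>
      ht (by linear_combination (g.1.trace - 2 * c) * h0 - 4 * hcc)
    subst hy0
    apply Subtype.ext
    apply Subtype.ext
    rw [hxy, comb, show x = 1 by linear_combination hl]
    simp

theorem pow_sol (g : SL2) (hg : ¬ IsSc g.1) : g ^ sol g.1.trace 1 = 1 := by
  have h := pow_card_eq_one' (x := (⟨g, Subgroup.mem_centralizer_singleton_iff.mpr rfl⟩ :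
    Subgroup.centralizer ({g} : Set SL2)))
  rw [card_centralizer g hg] at h
  exact congrArg Subtype.val h

/-! ### `PSL₂` -/

theorem mem_centralizer_pr {g X : SL2} :
    PSL2.pr X ∈ Subgroup.centralizer ({PSL2.pr g} : Set P2) ↔
      ∃ ε : F, ε * ε = 1 ∧ X.1 * g.1 = ε • (g.1 * X.1) := by
  rw [Subgroup.mem_centralizer_singleton_iff, ← map_mul, ← map_mul, PSL2.pr_eq_iff]
  rfl

theorem exists_anticomm {g : SL2} (hg : ¬ IsSc g.1) (h2 : (2 : F) ≠ 0) (ht : g.1.trace = 0) :
    ∃ j : SL2, j.1 * g.1 = -(g.1 * j.1) := by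
  obtain ⟨h, hh⟩ : ∃ h : SL2, h.1 = -g.1 :=
    ⟨mkSL (-g.1) (by rw [Matrix.det_neg, g.2, Fintype.card_fin]; norm_num), rfl⟩
  have hhs : ¬ IsSc h.1 := fun ⟨c, hc⟩ => hg ⟨-c, by rw [neg_smul, ← hc, hh, neg_neg]⟩
  obtain ⟨S, hS⟩ := mul_of_isConj (isConj_of_trace hg hhs
    (by rw [hh, Matrix.trace_neg, ht, neg_zero]) (Or.inr (by
      rw [ht, mul_zero]; intro h4
      exact mul_ne_zero h2 h2 (by linear_combination -h4))))
  exact ⟨S, by rw [hS, hh, Matrix.neg_mul]⟩

theorem sign_cases {g X : SL2} {ε : F} (hε : ε * ε = 1) (h : X.1 * g.1 = ε • (g.1 * X.1)) :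
    ε = 1 ∨ (ε = -1 ∧ g.1.trace = -g.1.trace) := by
  rcases mul_self_eq_one_iff.mp hε with h1 | h1
  · exact Or.inl h1
  · refine Or.inr ⟨h1, ?_⟩
    have hu : IsUnit X.1.det := by rw [X.2]; exact isUnit_one
    have e : g.1 = X.1⁻¹ * (ε • (g.1 * X.1)) := by
      rw [← h, ← Matrix.mul_assoc, Matrix.nonsing_inv_mul _ hu, Matrix.one_mul]
    conv_lhs => rw [e, Matrix.mul_smul, Matrix.trace_smul, Matrix.trace_mul_comm, Matrix.mul_assoc,
      Matrix.mul_nonsing_inv _ hu, Matrix.mul_one, h1, smul_eq_mul]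
    ring

open _root_.Classical in
/-- The centraliser of an element of `PSL₂`. -/
theorem card_centralizer_pr (g : SL2) (hg : ¬ IsSc g.1) :
    Nat.card (Subgroup.center SL2) * Nat.card (Subgroup.centralizer ({PSL2.pr g} : Set P2)) =
      sol g.1.trace 1 * if (2 : F) ≠ 0 ∧ g.1.trace = 0 then 2 else 1 := by
  set H := (Subgroup.centralizer ({PSL2.pr g} : Set P2)).comap (PSL2.pr (F := F)) with hH
  set C := Subgroup.centralizer ({g} : Set SL2) with hC
  have hker : (PSL2.pr (F := F)).ker = Subgroup.center SL2 := QuotientGroup.ker_mk' _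
  have h1 : Nat.card (Subgroup.center SL2) * Nat.card (Subgroup.centralizer ({PSL2.pr g} : Set P2)) =
      Nat.card H := by
    refine Nat.eq_of_mul_eq_mul_right (Nat.pos_of_ne_zero (Subgroup.index_ne_zero_of_finite
      (H := Subgroup.centralizer ({PSL2.pr g} : Set P2)))) ?_
    rw [mul_assoc, Subgroup.card_mul_index, ← Subgroup.index_comap_of_surjective _
      PSL2.pr_surjective, ← hH, Subgroup.card_mul_index, ← hker,
      Nat.card_congr (QuotientGroup.quotientKerEquivOfSurjective _ PSL2.pr_surjective).symm.toEquiv,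
      mul_comm, ← Subgroup.card_eq_card_quotient_mul_card_subgroup]
  have hle : C ≤ H := fun X hX => mem_centralizer_pr.mpr ⟨1, one_mul 1, by
    rw [one_smul]; exact congrArg (fun Y : SL2 => Y.1) (Subgroup.mem_centralizer_singleton_iff.mp hX)⟩
  have hmem : ∀ X : SL2, X ∈ C ↔ X.1 * g.1 = g.1 * X.1 := fun X => by
    rw [Subgroup.mem_centralizer_singleton_iff]
    exact ⟨congrArg (fun Y : SL2 => Y.1), fun h => Subtype.ext h⟩
  rw [h1, ← card_centralizer g hg]
  by_cases hspec : (2 : F) ≠ 0 ∧ g.1.trace = 0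
  · obtain ⟨h2, ht⟩ := hspec
    rw [if_pos ⟨h2, ht⟩]
    obtain ⟨j, hj⟩ := exists_anticomm hg h2 ht
    have hjH : j ∈ H := mem_centralizer_pr.mpr ⟨-1, by ring, by rw [neg_one_smul]; exact hj⟩
    have hidx : (C.subgroupOf H).index = 2 := by
      rw [Subgroup.index_eq_two_iff]
      refine ⟨⟨j, hjH⟩, fun b => ?_⟩
      obtain ⟨ε, hε, hb⟩ := mem_centralizer_pr.mp b.2
      simp only [Subgroup.mem_subgroupOf, Subgroup.coe_mul, hmem, val_mul']
      have hne : g.1 * b.1.1 ≠ 0 := fun h0 => by
        have := congrArg Matrix.det h0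
        rw [Matrix.det_mul, g.2, b.1.2, one_mul, Matrix.det_zero] at this
        exact one_ne_zero this
      have hneg : ∀ Z : M2, Z ≠ 0 → ¬ (-Z = Z) := fun Z hZ h0 => hZ (by
        have : (2 : F) • Z = 0 := by linear_combination (norm := module) -h0
        exact (smul_eq_zero.mp this).resolve_left h2)
      have hjb : (b.1.1 * j.1) * g.1 = (-ε) • (g.1 * (b.1.1 * j.1)) := by
        rw [Matrix.mul_assoc, hj, Matrix.mul_neg, ← Matrix.mul_assoc, hb, Matrix.smul_mul,
          Matrix.mul_assoc, neg_smul]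
      rcases mul_self_eq_one_iff.mp hε with e | e
      · refine Or.inr ⟨by rw [hb, e, one_smul], fun hc => ?_⟩
        rw [hjb, e, neg_one_smul] at hc
        refine hneg _ (fun h0 => hne ?_) hc
        have hu : IsUnit j.1.det := by rw [j.2]; exact isUnit_one
        have := congrArg (fun Z : M2 => Z * j.1⁻¹) h0
        simpa [Matrix.mul_assoc, Matrix.mul_nonsing_inv _ hu] using this
      · refine Or.inl ⟨by rw [hjb, e, neg_neg, one_smul], fun hc => ?_⟩
        rw [hb, e, neg_one_smul] at hc
        exact hneg _ hne hc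
    have h3 := (C.subgroupOf H).card_mul_index
    rw [hidx, Nat.card_congr (Subgroup.subgroupOfEquivOfLe hle).toEquiv] at h3
    exact h3.symm
  · rw [if_neg hspec, mul_one]
    refine Nat.card_congr (Equiv.subtypeEquivRight fun X => ?_)
    refine ⟨fun hX => ?_, fun hX => hle hX⟩
    obtain ⟨ε, hε, hb⟩ := mem_centralizer_pr.mp hX
    rw [hmem, hb]
    rcases sign_cases hε hb with e | ⟨e, ht⟩
    · rw [e, one_smul]
    · by_cases h2 : (2 : F) = 0
      · rw [e, show (-1 : F) = 1 by linear_combination -h2, one_smul]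
      · refine absurd ⟨h2, ?_⟩ hspec
        exact (mul_eq_zero.mp (show (2 : F) * g.1.trace = 0 by linear_combination ht)).resolve_left h2

end Finite

end Cfsg.Agent.Small.SL2C
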