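import Mathlib
import Cfsg.Agent.Lib.Small.SL2.Conj

/-!
Element orders and class sizes in `PSL₂` over a finite field.
-/

set_option autoImplicit false
set_option linter.unusedSectionVars false

namespace Cfsg.Agent.Small.SL2C

open Matrix

variable {F : Type*} [Field F] [Fintype F]

local notation "M2" => Matrix (Fin 2) (Fin 2) F
local notation "SL2" => Matrix.SpecialLinearGroup (Fin 2) F
local notation "P2" => Matrix.ProjectiveSpecialLinearGroup (Fin 2) F

theorem two_dvd_iff : 2 ∣ Fintype.card F ↔ (2 : F) = 0 := by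
  rw [Nat.dvd_iff_mod_eq_zero, ← FiniteField.even_card_iff_char_two]
  constructor
  · intro h
    have := ringChar.Nat.cast_ringChar (R := F)
    rw [h, Nat.cast_ofNat] at this
    exact this
  · intro h
    exact CharP.ringChar_of_prime_eq_zero Nat.prime_two (by rw [Nat.cast_ofNat]; exact h)

theorem not_two_dvd_iff : ¬ 2 ∣ Fintype.card F ↔ (2 : F) ≠ 0 := two_dvd_iff.not

theorem two_ne_zero_of_char (p : ℕ) [Fact p.Prime] [CharP F p] (hp : p ≠ 2) : (2 : F) ≠ 0 := by
  intro h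
  have h1 : ((2 : ℕ) : F) = 0 := by rw [Nat.cast_ofNat]; exact h
  rw [CharP.cast_eq_zero_iff F p] at h1
  exact hp ((Nat.prime_dvd_prime_iff_eq Fact.out Nat.prime_two).mp h1)

theorem center_card_even (h2 : (2 : F) = 0) : Nat.card (Subgroup.center SL2) = 1 := by
  rw [Cfsg.Agent.Lead.GLBasic.card_center_SL, Nat.gcd_rec]
  have h := Nat.dvd_iff_mod_eq_zero.mp (two_dvd_iff.mpr h2)
  have := Fintype.one_lt_card (α := F)
  rw [show (Fintype.card F - 1) % 2 = 1 by omega]
  rfl

theorem center_card_odd (h2 : (2 : F) ≠ 0) : Nat.card (Subgroup.center SL2) = 2 := by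
  rw [Cfsg.Agent.Lead.GLBasic.card_center_SL]
  refine Nat.gcd_eq_left ?_
  have h := not_two_dvd_iff.mpr h2
  omega

theorem center_card_eq :
    Nat.card (Subgroup.center SL2) = Nat.gcd 2 (Fintype.card F - 1) := by
  rw [Cfsg.Agent.Lead.GLBasic.card_center_SL]

omit [Fintype F] in
theorem isSc_SL {g : SL2} (h : IsSc g.1) : g.1 = 1 ∨ g.1 = -1 := by
  obtain ⟨c, hc⟩ := h
  have hd := g.2
  rw [hc, Matrix.det_smul, Matrix.det_one, mul_one, Fintype.card_fin, pow_two] at hd
  rcases mul_self_eq_one_iff.mp hd with h' | h'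
  · left; rw [hc, h', one_smul]
  · right; rw [hc, h', neg_one_smul]

omit [Fintype F] in
theorem pr_eq_one_iff {g : SL2} : PSL2.pr g = 1 ↔ IsSc g.1 := by
  rw [← map_one (PSL2.pr (F := F)), PSL2.pr_eq_iff]
  constructor
  · rintro ⟨ε, -, h⟩; exact ⟨ε, h⟩
  · intro h
    rcases isSc_SL h with h' | h'
    · exact ⟨1, one_mul 1, by rw [h', one_smul]; rfl⟩
    · exact ⟨-1, by ring, by rw [h', neg_one_smul]; rfl⟩

omit [Fintype F] in
theorem mem_center_iff {g : SL2} : g ∈ Subgroup.center SL2 ↔ IsSc g.1 := by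
  rw [← pr_eq_one_iff]
  exact (QuotientGroup.eq_one_iff g).symm

omit [Fintype F] in
theorem exists_eps {t : F} (ht : t * t = 4) : ∃ ε : F, ε * ε = 1 ∧ t = 2 * ε := by
  by_cases h2 : (2 : F) = 0
  · exact ⟨1, one_mul 1, by
      rw [mul_one, h2]; exact mul_self_eq_zero.mp (by linear_combination ht + 2 * h2)⟩
  · exact ⟨t / 2, by field_simp; linear_combination ht, by field_simp⟩

/-- Parabolic elements have image in a conjugate of `U`. -/
theorem exists_pr_uS {g : SL2} (hg : ¬ IsSc g.1) (ht : g.1.trace * g.1.trace = 4) :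
    ∃ x : F, x ≠ 0 ∧ IsConj (PSL2.pr g) (PSL2.pr (PSL2.uS x)) := by
  obtain ⟨ε, hε, hte⟩ := exists_eps ht
  obtain ⟨b, hb, hc⟩ := exists_epU hg hε hte
  refine ⟨ε * b, mul_ne_zero (fun h => by simp [h] at hε) hb, ?_⟩
  have e : PSL2.pr (epU ε b hε) = PSL2.pr (PSL2.uS (ε * b)) := by
    refine (PSL2.pr_eq_iff _ _).mpr ⟨ε, hε, ?_⟩
    ext i j
    fin_cases i <;> fin_cases j <;> simp [epU_val, PSL2.uS, ← mul_assoc, hε]
  rw [← e]
  exact MonoidHom.map_isConj _ hc

omit [Fintype F] in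
theorem pr_uS_pow (p : ℕ) [CharP F p] (x : F) : PSL2.pr (PSL2.uS x) ^ p = 1 := by
  have : PSL2.pr (PSL2.uS x) = PSL2.uP (Multiplicative.ofAdd x) := rfl
  rw [this, ← map_pow, ← ofAdd_nsmul, nsmul_eq_mul, CharP.cast_eq_zero, zero_mul, ofAdd_zero, map_one]

omit [Fintype F] in
theorem orderOf_pr_uS (p : ℕ) [Fact p.Prime] [CharP F p] {x : F} (hx : x ≠ 0) :
    orderOf (PSL2.pr (PSL2.uS x)) = p := by
  refine orderOf_eq_prime (pr_uS_pow p x) fun h => hx (PSL2.pr_uS_inj ?_)
  rw [h]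
  symm
  have : PSL2.pr (PSL2.uS (0 : F)) = PSL2.uP (Multiplicative.ofAdd 0) := rfl
  rw [this, ofAdd_zero, map_one]

/-- `sol` on split and non-split tori. -/
theorem sol_eq {t : F} (ht : t * t ≠ 4) :
    (roots t 1 = 2 ∧ sol t 1 = Fintype.card F - 1) ∨
      (roots t 1 = 0 ∧ sol t 1 = Fintype.card F + 1) := by
  have h := sol_add_roots (t := t) (d := 1) (by rwa [mul_one])
  have := Fintype.one_lt_card (α := F)
  rcases roots_cases (t := t) (d := 1) (by rwa [mul_one]) with h' | h'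
  · exact Or.inr ⟨h', by omega⟩
  · exact Or.inl ⟨h', by omega⟩

/-- Trace of a split element. -/
theorem exists_split {a : F} (ha : a ≠ 0) (ha2 : a * a ≠ 1) :
    (a + a⁻¹) * (a + a⁻¹) ≠ 4 ∧ roots (a + a⁻¹) 1 = 2 := by
  have h1 : (a + a⁻¹) * (a + a⁻¹) ≠ 4 := by
    intro h
    apply ha2
    have e : (a - a⁻¹) * (a - a⁻¹) = 0 := by
      have := mul_inv_cancel₀ ha
      linear_combination h - 4 * this
    have e' : a = a⁻¹ := sub_eq_zero.mp (mul_self_eq_zero.mp e)
    nth_rewrite 2 [e']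
    exact mul_inv_cancel₀ ha
  refine ⟨h1, (roots_cases (by rwa [mul_one])).resolve_left fun h0 => ?_⟩
  rw [roots, Nat.card_eq_zero] at h0
  rcases h0 with h0 | h0
  · exact h0.false ⟨-a, by linear_combination -(mul_inv_cancel₀ ha)⟩
  · exact h0.false

theorem exists_sq_ne_one (h4 : 4 ≤ Fintype.card F) : ∃ a : F, a ≠ 0 ∧ a * a ≠ 1 := by
  classical
  have h : (Finset.univ \ {0, 1, -1} : Finset F).Nonempty := by
    rw [← Finset.card_pos]
    have h3 : ({0, 1, -1} : Finset F).card ≤ 3 := Finset.card_le_three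
    have := Finset.le_card_sdiff ({0, 1, -1} : Finset F) Finset.univ
    rw [Finset.card_univ] at this
    omega
  obtain ⟨a, ha⟩ := h
  simp only [Finset.mem_sdiff, Finset.mem_univ, true_and, Finset.mem_insert, Finset.mem_singleton,
    not_or] at ha
  refine ⟨a, ha.1, fun h => ?_⟩
  rcases mul_self_eq_one_iff.mp h with h | h
  · exact ha.2.1 h
  · exact ha.2.2 h

theorem comp_elt (t : F) : ∃ g : SL2, g.1.trace = t ∧ ¬ IsSc g.1 :=
  ⟨mkSL (comp t 1) (comp_det t 1), comp_trace t 1, comp_not_isSc t 1⟩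

/-- The centre lies in every centraliser, so its order divides `sol`. -/
theorem center_dvd_sol {g : SL2} (hg : ¬ IsSc g.1) :
    Nat.card (Subgroup.center SL2) ∣ sol g.1.trace 1 := by
  rw [← card_centralizer g hg]
  exact Subgroup.card_dvd_of_le (Subgroup.center_le_centralizer _)

/-- The order of a semisimple element of `PSL₂` divides `(q ± 1) / d`. -/
theorem pr_pow_sol {g : SL2} (ht : g.1.trace * g.1.trace ≠ 4) :
    PSL2.pr g ^ (sol g.1.trace 1 / Nat.card (Subgroup.center SL2)) = 1 := by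
  have hg := not_isSc_of_trace ht
  rw [← map_pow, pr_eq_one_iff]
  by_cases h2 : (2 : F) = 0
  · rw [center_card_even h2, Nat.div_one, pow_sol g hg]
    exact ⟨1, (one_smul _ _).symm⟩
  · have hd := center_dvd_sol hg
    have hg1 := pow_sol g hg
    rw [center_card_odd h2] at hd ⊢
    obtain ⟨n, hn⟩ := hd
    rw [hn] at hg1 ⊢
    rw [Nat.mul_div_cancel_left _ two_pos]
    have h : g ^ n * g ^ n = 1 := by
      rw [← pow_add, ← two_mul, hg1]
    rcases sq_one_cases h2 h with e | e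
    · exact ⟨1, by rw [e, one_smul]⟩
    · exact ⟨-1, by rw [e, neg_one_smul]⟩

/-- Element orders in `PSL₂`. -/
theorem orderOf_dvd (p : ℕ) [Fact p.Prime] [CharP F p] (y : P2) :
    orderOf y ∣ p ∨ orderOf y ∣ (Fintype.card F - 1) / Nat.gcd 2 (Fintype.card F - 1) ∨
      orderOf y ∣ (Fintype.card F + 1) / Nat.gcd 2 (Fintype.card F - 1) := by
  obtain ⟨g, rfl⟩ := PSL2.pr_surjective y
  by_cases hg : IsSc g.1
  · rw [pr_eq_one_iff.mpr hg, orderOf_one]; exact Or.inl (one_dvd _)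
  by_cases ht : g.1.trace * g.1.trace = 4
  · obtain ⟨x, hx, hc⟩ := exists_pr_uS hg ht
    left
    rw [orderOf_dvd_iff_pow_eq_one]
    obtain ⟨c, hc⟩ := isConj_iff.mp hc
    have h := pr_uS_pow p x
    rw [← hc, conj_pow] at h
    exact conj_eq_one_iff.mp h
  · right
    have h := orderOf_dvd_of_pow_eq_one (pr_pow_sol ht)
    rw [center_card_eq] at h
    rcases sol_eq ht with ⟨-, hs⟩ | ⟨-, hs⟩ <;> rw [hs] at h
    · exact Or.inl h
    · exact Or.inr h

/-- A torus of `PSL₂` has an element of the maximal order. -/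
theorem exists_order {t : F} (ht : t * t ≠ 4) :
    ∃ y : P2, orderOf y = sol t 1 / Nat.card (Subgroup.center SL2) := by
  obtain ⟨g, hgt, hg⟩ := comp_elt t
  rw [← hgt] at ht ⊢
  have := isCyclic_centralizer ht
  obtain ⟨x, hx⟩ := IsCyclic.exists_generator (α := Subgroup.centralizer ({g} : Set SL2))
  obtain ⟨z, hz⟩ : ∃ z, z = Nat.card (Subgroup.center SL2) := ⟨_, rfl⟩
  obtain ⟨n, hn⟩ := center_dvd_sol hg
  rw [← hz] at hn ⊢
  have hz0 : 0 < z := hz ▸ Nat.card_pos
  rw [hn, Nat.mul_div_cancel_left _ hz0]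
  have hox : orderOf (x : SL2) = z * n := by
    rw [← hn, Subgroup.orderOf_coe, orderOf_eq_card_of_forall_mem_zpowers hx, card_centralizer g hg]
  refine ⟨PSL2.pr (x : SL2), Nat.dvd_antisymm (orderOf_dvd_of_pow_eq_one ?_) ?_⟩
  · rw [← map_pow, pr_eq_one_iff]
    by_cases h2 : (2 : F) = 0
    · rw [center_card_even h2] at hz
      subst hz
      rw [one_mul] at hox
      rw [← hox, pow_orderOf_eq_one]
      exact ⟨1, (one_smul _ _).symm⟩
    · rw [center_card_odd h2] at hz
      subst hz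
      have h : (x : SL2) ^ n * (x : SL2) ^ n = 1 := by
        rw [← pow_add, ← two_mul, ← hox, pow_orderOf_eq_one]
      rcases sq_one_cases h2 h with e | e
      · exact ⟨1, by rw [e, one_smul]⟩
      · exact ⟨-1, by rw [e, neg_one_smul]⟩
  · obtain ⟨k, hk⟩ : ∃ k, k = orderOf (PSL2.pr (x : SL2)) := ⟨_, rfl⟩
    rw [← hk]
    have h1 : PSL2.pr ((x : SL2) ^ k) = 1 := by rw [map_pow, hk, pow_orderOf_eq_one]
    have h2 : ((x : SL2) ^ k) ^ z = 1 := by
      rw [hz]
      have := pow_card_eq_one' (x := (⟨_, mem_center_iff.mpr (pr_eq_one_iff.mp h1)⟩ :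
        Subgroup.center SL2))
      exact congrArg Subtype.val this
    rw [← pow_mul] at h2
    have h3 := orderOf_dvd_of_pow_eq_one h2
    rw [hox, mul_comm k] at h3
    exact Nat.dvd_of_mul_dvd_mul_left hz0 h3

/-- All divisors occur. -/
theorem order_exists (p : ℕ) [Fact p.Prime] [CharP F p] (h4 : 4 ≤ Fintype.card F) (m : ℕ)
    (hm : m ∣ p ∨ m ∣ (Fintype.card F - 1) / Nat.gcd 2 (Fintype.card F - 1) ∨
      m ∣ (Fintype.card F + 1) / Nat.gcd 2 (Fintype.card F - 1)) :
    ∃ y : P2, orderOf y = m := by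
  have key : ∀ y : P2, m ∣ orderOf y → ∃ z : P2, orderOf z = m := fun y h =>
    ⟨_, orderOf_pow_orderOf_div (orderOf_pos y).ne' h⟩
  rw [← center_card_eq] at hm
  rcases hm with h | h | h
  · exact key (PSL2.pr (PSL2.uS (1 : F))) (by rwa [orderOf_pr_uS p one_ne_zero])
  · obtain ⟨a, ha, ha2⟩ := exists_sq_ne_one h4
    obtain ⟨ht, hr⟩ := exists_split ha ha2
    obtain ⟨y, hy⟩ := exists_order ht
    rcases sol_eq ht with ⟨-, hs⟩ | ⟨hr', -⟩
    · exact key y (by rwa [hy, hs])
    · omega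
  · obtain ⟨t, ht, hr⟩ := exists_roots_zero (F := F)
    obtain ⟨y, hy⟩ := exists_order ht
    rcases sol_eq ht with ⟨hr', -⟩ | ⟨-, hs⟩
    · omega
    · exact key y (by rwa [hy, hs])

/-- The characteristic is isolated from `2`. -/
theorem orderOf_ne_two_mul (p : ℕ) [Fact p.Prime] [CharP F p] (hp : p ≠ 2) (y : P2) :
    orderOf y ≠ 2 * p := by
  intro h
  have hpp : p.Prime := Fact.out
  obtain ⟨n, -, hq⟩ := FiniteField.card F p
  have hpq : p ∣ Fintype.card F := hq ▸ dvd_pow_self p n.ne_zero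
  have h2 := center_card_odd (two_ne_zero_of_char (F := F) p hp)
  rw [center_card_eq] at h2
  have hd : ∀ k, p ∣ k / 2 → 2 ∣ k → p ∣ k := fun k hk h' =>
    Nat.mul_div_cancel' h' ▸ dvd_mul_of_dvd_right hk 2
  have hev : 2 ∣ Fintype.card F - 1 := h2 ▸ Nat.gcd_dvd_right _ _
  have := Fintype.one_lt_card (α := F)
  have := hpp.two_le
  rcases orderOf_dvd p y with h' | h' | h' <;> rw [h] at h'
  · have := Nat.le_of_dvd hpp.pos h'
    omega
  · rw [h2] at h'
    have h3 := Nat.dvd_sub hpq (hd _ (dvd_trans (dvd_mul_left p 2) h') hev)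
    rw [show Fintype.card F - (Fintype.card F - 1) = 1 by omega] at h3
    exact hpp.one_lt.ne' (Nat.dvd_one.mp h3)
  · rw [h2] at h'
    have h3 := Nat.dvd_sub (hd _ (dvd_trans (dvd_mul_left p 2) h') (by omega)) hpq
    rw [show Fintype.card F + 1 - Fintype.card F = 1 by omega] at h3
    exact hpp.one_lt.ne' (Nat.dvd_one.mp h3)

open _root_.Classical in
/-- The class size times the centraliser order. -/
theorem index_centralizer_pr (g : SL2) (hg : ¬ IsSc g.1) :
    (Subgroup.centralizer ({PSL2.pr g} : Set P2)).index *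
      (sol g.1.trace 1 * if (2 : F) ≠ 0 ∧ g.1.trace = 0 then 2 else 1) =
      Fintype.card F * (Fintype.card F ^ 2 - 1) := by
  classical
  rw [← card_centralizer_pr g hg, ← card_SL2, mul_comm, mul_assoc, Subgroup.card_mul_index,
    center_card_eq, Cfsg.Agent.Lead.GLBasic.card_PSL]

theorem index_centralizer_one (g : SL2) (hg : IsSc g.1) :
    (Subgroup.centralizer ({PSL2.pr g} : Set P2)).index = 1 := by
  rw [pr_eq_one_iff.mpr hg, Subgroup.index_eq_one, eq_top_iff]
  intro x _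
  rw [Subgroup.mem_centralizer_singleton_iff, mul_one, one_mul]

end Cfsg.Agent.Small.SL2C
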