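import Mathlib
import Cfsg.Agent.Lib.Small.SL2.Orders

/-!
The class sizes of `PSL₂` over a finite field.
-/

set_option autoImplicit false
set_option linter.unusedSectionVars false

namespace Cfsg.Agent.Small.SL2C

open Matrix

variable {F : Type*} [Field F] [Fintype F]

local notation "M2" => Matrix (Fin 2) (Fin 2) F
local notation "SL2" => Matrix.SpecialLinearGroup (Fin 2) F
local notation "P2" => Matrix.ProjectiveSpecialLinearGroup (Fin 2) F

theorem card_sq_one_even (h2 : (2 : F) = 0) : Nat.card {s : F // s * s = 1} = 1 := by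
  rw [Nat.card_eq_one_iff_exists]
  refine ⟨⟨1, one_mul 1⟩, fun s => Subtype.ext ?_⟩
  have : (s.1 - 1) * (s.1 - 1) = 0 := by linear_combination s.2 + (1 - s.1) * h2
  exact sub_eq_zero.mp (mul_self_eq_zero.mp this)

theorem card_sq_one_odd (h2 : (2 : F) ≠ 0) : Nat.card {s : F // s * s = 1} = 2 := by
  rw [Nat.card_eq_two_iff]
  refine ⟨⟨1, one_mul 1⟩, ⟨-1, by ring⟩, fun h => h2 ?_, ?_⟩
  · have := congrArg Subtype.val h
    simp only at this
    linear_combination this
  · ext s
    simp only [Set.mem_insert_iff, Set.mem_singleton_iff, Set.mem_univ, iff_true, Subtype.ext_iff]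
    exact mul_self_eq_one_iff.mp s.2

theorem sol_parab {g : SL2} (ht : g.1.trace * g.1.trace = 4) :
    sol g.1.trace 1 = Fintype.card F * Nat.card {s : F // s * s = 1} := by
  obtain ⟨ε, hε, hte⟩ := exists_eps ht
  rw [hte, sol_parabolic hε]

theorem q_facts : ∃ k, Fintype.card F = k + 2 ∧
    Fintype.card F ^ 2 - 1 = (k + 1) * (k + 3) := by
  refine ⟨Fintype.card F - 2, ?_, ?_⟩
  · have := Fintype.one_lt_card (α := F); omega
  · obtain ⟨k, hk⟩ : ∃ k, Fintype.card F = k + 2 := ⟨Fintype.card F - 2, by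
      have := Fintype.one_lt_card (α := F); omega⟩
    rw [hk, show k + 2 - 2 = k from rfl, show (k + 2) ^ 2 = (k + 1) * (k + 3) + 1 by ring,
      Nat.add_sub_cancel]

theorem idx_minus {I : ℕ} (h : I * (Fintype.card F - 1) = Fintype.card F * (Fintype.card F ^ 2 - 1)) :
    I = Fintype.card F * (Fintype.card F + 1) := by
  obtain ⟨k, hk, hk'⟩ := q_facts (F := F)
  rw [hk', hk, show k + 2 - 1 = k + 1 from rfl] at h
  rw [hk]
  exact Nat.eq_of_mul_eq_mul_right (show 0 < k + 1 by omega) (h.trans (by ring))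

theorem idx_plus {I : ℕ} (h : I * (Fintype.card F + 1) = Fintype.card F * (Fintype.card F ^ 2 - 1)) :
    I = Fintype.card F * (Fintype.card F - 1) := by
  obtain ⟨k, hk, hk'⟩ := q_facts (F := F)
  rw [hk', hk] at h
  rw [hk, show k + 2 - 1 = k + 1 from rfl]
  exact Nat.eq_of_mul_eq_mul_right (show 0 < k + 2 + 1 by omega) (h.trans (by ring))

open _root_.Classical in
/-- The class sizes in terms of the torus. -/
theorem index_semisimple {g : SL2} (ht : g.1.trace * g.1.trace ≠ 4) :
    (roots g.1.trace 1 = 2 →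
      (Subgroup.centralizer ({PSL2.pr g} : Set P2)).index *
        (if (2 : F) ≠ 0 ∧ g.1.trace = 0 then 2 else 1) = Fintype.card F * (Fintype.card F + 1)) ∧
    (roots g.1.trace 1 = 0 →
      (Subgroup.centralizer ({PSL2.pr g} : Set P2)).index *
        (if (2 : F) ≠ 0 ∧ g.1.trace = 0 then 2 else 1) = Fintype.card F * (Fintype.card F - 1)) := by
  have h := index_centralizer_pr g (not_isSc_of_trace ht)
  obtain ⟨d, hd⟩ : ∃ d, d = if (2 : F) ≠ 0 ∧ g.1.trace = 0 then 2 else 1 := ⟨_, rfl⟩
  rw [← hd] at h ⊢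
  constructor <;> intro hr <;> rcases sol_eq ht with ⟨hr', hs⟩ | ⟨hr', hs⟩ <;>
    first
      | omega
      | (rw [hs] at h; exact idx_minus (by rw [← h]; ring))
      | (rw [hs] at h; exact idx_plus (by rw [← h]; ring))

theorem index_parabolic {g : SL2} (hg : ¬ IsSc g.1) (ht : g.1.trace * g.1.trace = 4) :
    (Subgroup.centralizer ({PSL2.pr g} : Set P2)).index * Nat.card {s : F // s * s = 1} =
      Fintype.card F ^ 2 - 1 := by
  classical
  have h := index_centralizer_pr g hg
  have hne : ¬ ((2 : F) ≠ 0 ∧ g.1.trace = 0) := by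
    rintro ⟨h2, h0⟩
    rw [h0, mul_zero] at ht
    exact mul_ne_zero h2 h2 (by linear_combination -ht)
  rw [if_neg hne, mul_one, sol_parab ht] at h
  refine Nat.eq_of_mul_eq_mul_left (Fintype.card_pos (α := F)) ?_
  rw [← h]
  ring

/-- The class sizes in even characteristic. -/
theorem class_sizes_even (h2 : (2 : F) = 0) (h4 : 4 ≤ Fintype.card F) :
    Set.range (fun y : P2 => (Subgroup.centralizer ({y} : Set P2)).index) =
      {1, Fintype.card F * (Fintype.card F - 1), Fintype.card F ^ 2 - 1,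
        Fintype.card F * (Fintype.card F + 1)} := by
  classical
  apply Set.Subset.antisymm
  · rintro _ ⟨y, rfl⟩
    obtain ⟨g, rfl⟩ := PSL2.pr_surjective y
    by_cases hg : IsSc g.1
    · exact Or.inl (index_centralizer_one g hg)
    by_cases ht : g.1.trace * g.1.trace = 4
    · refine Or.inr (Or.inr (Or.inl ?_))
      have := index_parabolic hg ht
      rwa [card_sq_one_even h2, mul_one] at this
    · have h := index_semisimple ht
      rw [if_neg (fun h => h.1 h2), mul_one] at h
      rcases roots_cases (t := g.1.trace) (d := 1) (by rwa [mul_one]) with hr | hr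
      · exact Or.inr (Or.inl (h.2 hr))
      · exact Or.inr (Or.inr (Or.inr (h.1 hr)))
  · rintro n (rfl | rfl | rfl | rfl)
    · exact ⟨PSL2.pr 1, index_centralizer_one 1 ⟨1, (one_smul _ _).symm⟩⟩
    · obtain ⟨t, ht, hr⟩ := exists_roots_zero (F := F)
      obtain ⟨g, hgt, -⟩ := comp_elt t
      rw [← hgt] at ht hr
      have h := (index_semisimple ht).2 hr
      rw [if_neg (fun h => h.1 h2), mul_one] at h
      exact ⟨PSL2.pr g, h⟩
    · obtain ⟨g, hgt, hg⟩ := comp_elt (0 : F)
      have h := index_parabolic hg (by rw [hgt]; linear_combination (-2 : F) * h2)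
      rw [card_sq_one_even h2, mul_one] at h
      exact ⟨PSL2.pr g, h⟩
    · obtain ⟨a, ha, ha2⟩ := exists_sq_ne_one h4
      obtain ⟨ht, hr⟩ := exists_split ha ha2
      obtain ⟨g, hgt, -⟩ := comp_elt (a + a⁻¹)
      rw [← hgt] at ht hr
      have h := (index_semisimple ht).1 hr
      rw [if_neg (fun h => h.1 h2), mul_one] at h
      exact ⟨PSL2.pr g, h⟩

theorem roots_zero_iff (h2 : (2 : F) ≠ 0) : roots (0 : F) 1 = 2 ↔ Fintype.card F % 4 ≠ 3 := by
  rw [← FiniteField.isSquare_neg_one_iff]
  constructor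
  · intro h
    rw [roots] at h
    obtain ⟨⟨k, hk⟩⟩ := (Nat.card_pos_iff.mp (h ▸ two_pos : 0 < Nat.card _)).1
    exact ⟨k, by linear_combination -hk⟩
  · rintro ⟨k, hk⟩
    refine (roots_cases ?_).resolve_left fun h0 => ?_
    · rw [mul_zero, mul_one]
      intro h
      exact mul_ne_zero h2 h2 (by linear_combination -h)
    · rw [roots, Nat.card_eq_zero] at h0
      rcases h0 with h0 | h0
      · exact h0.false ⟨k, by linear_combination -hk⟩
      · exact h0.false

/-- A split semisimple trace other than `0`. -/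
theorem exists_split_ne_zero (h6 : 6 ≤ Fintype.card F) :
    ∃ t : F, t ≠ 0 ∧ t * t ≠ 4 ∧ roots t 1 = 2 := by
  classical
  obtain ⟨x, hx⟩ := IsCyclic.exists_generator (α := Fˣ)
  have ho : orderOf x = Fintype.card F - 1 := by
    rw [orderOf_eq_card_of_forall_mem_zpowers hx, Cfsg.Agent.Lead.GLBasic.card_units_eq]
  have h4 : x ^ 4 ≠ 1 := fun h => by
    have := Nat.le_of_dvd (by norm_num) (orderOf_dvd_of_pow_eq_one h)
    omega
  have h2 : (x : F) * x ≠ 1 := fun h => h4 (Units.ext (by
    push_cast; linear_combination ((x : F) * x + 1) * h))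
  obtain ⟨ht, hr⟩ := exists_split x.ne_zero h2
  refine ⟨(x : F) + (x : F)⁻¹, fun h => h4 (Units.ext ?_), ht, hr⟩
  push_cast
  linear_combination ((x : F) * x - 1) * ((x : F) * h - mul_inv_cancel₀ x.ne_zero)

/-- A non-split semisimple trace other than `0`, for `q ≡ 3 (mod 4)`. -/
theorem exists_nonsplit_ne_zero (h2 : (2 : F) ≠ 0) (h3 : Fintype.card F % 4 = 3)
    (h7 : 7 ≤ Fintype.card F) : ∃ t : F, t ≠ 0 ∧ t * t ≠ 4 ∧ roots t 1 = 0 := by
  classical
  have hns : ¬ IsSquare (-1 : F) := fun h => FiniteField.isSquare_neg_one_iff.mp h h3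
  have h0 : (0 : F) * 0 ≠ 4 := by
    rw [mul_zero]; intro h
    exact mul_ne_zero h2 h2 (by linear_combination -h)
  have hr : roots (0 : F) 1 = 0 :=
    (roots_cases (by rwa [mul_one])).resolve_right fun h => (roots_zero_iff h2).mp h h3
  have hs : sol (0 : F) 1 = Fintype.card F + 1 := by
    rcases sol_eq h0 with ⟨h', -⟩ | ⟨-, h'⟩
    · omega
    · exact h'
  obtain ⟨a, b, hab, ha, hb⟩ : ∃ a b : F, Qf 0 1 a b = 1 ∧ a ≠ 0 ∧ b ≠ 0 := by
    by_contra! hall
    rw [sol, Nat.card_eq_fintype_card] at hs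
    have h4 : Fintype.card {p : F × F // Qf 0 1 p.1 p.2 = 1} ≤
        ({(1, 0), (-1, 0), (0, 1), (0, -1)} : Finset (F × F)).card := by
      rw [← Fintype.card_coe]
      refine Fintype.card_le_of_injective (fun p => ⟨p.1, ?_⟩) fun p r h => Subtype.ext
        (congrArg (fun x : ({(1, 0), (-1, 0), (0, 1), (0, -1)} : Finset (F × F)) => x.1) h)
      obtain ⟨⟨x, y⟩, hp⟩ := p
      simp only [Finset.mem_insert, Finset.mem_singleton, Prod.mk.injEq]
      have he : x * x + y * y = 1 := by rw [← hp, Qf]; ring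
      by_cases hx : x = 0
      · rw [hx, mul_zero, zero_add] at he
        rcases mul_self_eq_one_iff.mp he with h | h
        · exact Or.inr (Or.inr (Or.inl ⟨hx, h⟩))
        · exact Or.inr (Or.inr (Or.inr ⟨hx, h⟩))
      · have hy := hall x y hp hx
        rw [hy, mul_zero, add_zero] at he
        rcases mul_self_eq_one_iff.mp he with h | h
        · exact Or.inl ⟨h, hy⟩
        · exact Or.inr (Or.inl ⟨h, hy⟩)
    have h5 := Finset.card_le_four (a := ((1 : F), (0 : F))) (b := (-1, 0)) (c := (0, 1)) (d := (0, -1))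
    omega
  have he : a * a + b * b = 1 := by rw [← hab, Qf]; ring
  refine ⟨2 * a, mul_ne_zero h2 ha, fun h => hns ⟨0, ?_⟩, ?_⟩
  · have h4 : (2 : F) * 2 * (b * b) = 0 := by linear_combination 4 * he - h
    exact absurd h4 (mul_ne_zero (mul_ne_zero h2 h2) (mul_ne_zero hb hb))
  · rw [roots, Nat.card_eq_zero]
    refine Or.inl ⟨fun k => hns ⟨(k.1 + a) / b, ?_⟩⟩
    field_simp
    linear_combination -k.2 - he

/-- The class sizes in odd characteristic. -/
theorem class_sizes_odd (h2 : (2 : F) ≠ 0) (h7 : 7 ≤ Fintype.card F) :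
    (Fintype.card F % 4 = 1 →
      Set.range (fun y : P2 => (Subgroup.centralizer ({y} : Set P2)).index) =
        {1, (Fintype.card F ^ 2 - 1) / 2, Fintype.card F * (Fintype.card F + 1) / 2,
          Fintype.card F * (Fintype.card F - 1), Fintype.card F * (Fintype.card F + 1)}) ∧
    (Fintype.card F % 4 = 3 →
      Set.range (fun y : P2 => (Subgroup.centralizer ({y} : Set P2)).index) =
        {1, (Fintype.card F ^ 2 - 1) / 2, Fintype.card F * (Fintype.card F - 1) / 2,
          Fintype.card F * (Fintype.card F + 1), Fintype.card F * (Fintype.card F - 1)}) := by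
  classical
  have h0 : (0 : F) * 0 ≠ 4 := by
    rw [mul_zero]; intro h
    exact mul_ne_zero h2 h2 (by linear_combination -h)
  have hpar : ∀ g : SL2, ¬ IsSc g.1 → g.1.trace * g.1.trace = 4 →
      (Subgroup.centralizer ({PSL2.pr g} : Set P2)).index = (Fintype.card F ^ 2 - 1) / 2 := by
    intro g hg ht
    have := index_parabolic hg ht
    rw [card_sq_one_odd h2] at this
    omega
  have hnz : ∀ g : SL2, g.1.trace ≠ 0 → g.1.trace * g.1.trace ≠ 4 →
      (roots g.1.trace 1 = 2 → (Subgroup.centralizer ({PSL2.pr g} : Set P2)).index =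
        Fintype.card F * (Fintype.card F + 1)) ∧
      (roots g.1.trace 1 = 0 → (Subgroup.centralizer ({PSL2.pr g} : Set P2)).index =
        Fintype.card F * (Fintype.card F - 1)) := by
    intro g hz ht
    have h := index_semisimple ht
    rwa [if_neg (fun h => hz h.2), mul_one] at h
  have hz : ∀ g : SL2, g.1.trace = 0 →
      (Fintype.card F % 4 = 1 → (Subgroup.centralizer ({PSL2.pr g} : Set P2)).index =
        Fintype.card F * (Fintype.card F + 1) / 2) ∧
      (Fintype.card F % 4 = 3 → (Subgroup.centralizer ({PSL2.pr g} : Set P2)).index =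
        Fintype.card F * (Fintype.card F - 1) / 2) := by
    intro g hz
    have h := index_semisimple (g := g) (by rwa [hz])
    rw [if_pos ⟨h2, hz⟩, hz] at h
    refine ⟨fun hq => ?_, fun hq => ?_⟩
    · have := h.1 ((roots_zero_iff h2).mpr (by omega))
      omega
    · have := h.2 ((roots_cases (by rwa [mul_one])).resolve_right fun h' =>
        (roots_zero_iff h2).mp h' hq)
      omega
  obtain ⟨g1, hg1, hg1'⟩ := comp_elt (2 : F)
  have hp1 := hpar g1 hg1' (by rw [hg1]; norm_num)
  obtain ⟨g0, hg0, -⟩ := comp_elt (0 : F)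
  obtain ⟨t, ht0, ht, hr⟩ := exists_split_ne_zero (F := F) (by omega)
  obtain ⟨gs, hgs, -⟩ := comp_elt t
  have hps := (hnz gs (by rwa [hgs]) (by rwa [hgs])).1 (by rwa [hgs])
  constructor
  · intro hq
    apply Set.Subset.antisymm
    · rintro _ ⟨y, rfl⟩
      obtain ⟨g, rfl⟩ := PSL2.pr_surjective y
      by_cases hg : IsSc g.1
      · exact Or.inl (index_centralizer_one g hg)
      by_cases h : g.1.trace * g.1.trace = 4
      · exact Or.inr (Or.inl (hpar g hg h))
      by_cases h' : g.1.trace = 0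
      · exact Or.inr (Or.inr (Or.inl ((hz g h').1 hq)))
      rcases roots_cases (t := g.1.trace) (d := 1) (by rwa [mul_one]) with e | e
      · exact Or.inr (Or.inr (Or.inr (Or.inl ((hnz g h' h).2 e))))
      · exact Or.inr (Or.inr (Or.inr (Or.inr ((hnz g h' h).1 e))))
    · rintro n (rfl | rfl | rfl | rfl | rfl)
      · exact ⟨PSL2.pr 1, index_centralizer_one 1 ⟨1, (one_smul _ _).symm⟩⟩
      · exact ⟨_, hp1⟩
      · exact ⟨_, (hz g0 hg0).1 hq⟩
      · obtain ⟨u, hu, hur⟩ := exists_roots_zero (F := F)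
        obtain ⟨gn, hgn, -⟩ := comp_elt u
        refine ⟨_, (hnz gn (fun h => ?_) (by rwa [hgn])).2 (by rwa [hgn])⟩
        rw [hgn] at h
        rw [h, (roots_zero_iff h2).mpr (by omega)] at hur
        omega
      · exact ⟨_, hps⟩
  · intro hq
    apply Set.Subset.antisymm
    · rintro _ ⟨y, rfl⟩
      obtain ⟨g, rfl⟩ := PSL2.pr_surjective y
      by_cases hg : IsSc g.1
      · exact Or.inl (index_centralizer_one g hg)
      by_cases h : g.1.trace * g.1.trace = 4
      · exact Or.inr (Or.inl (hpar g hg h))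
      by_cases h' : g.1.trace = 0
      · exact Or.inr (Or.inr (Or.inl ((hz g h').2 hq)))
      rcases roots_cases (t := g.1.trace) (d := 1) (by rwa [mul_one]) with e | e
      · exact Or.inr (Or.inr (Or.inr (Or.inr ((hnz g h' h).2 e))))
      · exact Or.inr (Or.inr (Or.inr (Or.inl ((hnz g h' h).1 e))))
    · rintro n (rfl | rfl | rfl | rfl | rfl)
      · exact ⟨PSL2.pr 1, index_centralizer_one 1 ⟨1, (one_smul _ _).symm⟩⟩
      · exact ⟨_, hp1⟩
      · exact ⟨_, (hz g0 hg0).2 hq⟩
      · exact ⟨_, hps⟩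
      · obtain ⟨u, hu0, hu, hur⟩ := exists_nonsplit_ne_zero h2 hq h7
        obtain ⟨gn, hgn, -⟩ := comp_elt u
        exact ⟨_, (hnz gn (by rwa [hgn]) (by rwa [hgn])).2 (by rwa [hgn])⟩

end Cfsg.Agent.Small.SL2C
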