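import Mathlib
import Cfsg.Agent.Lib.Small.SL2.ClassSize

/-!
The conjugacy classes of `GL₂` and `SL₂` over a finite field.
-/

set_option autoImplicit false
set_option linter.unusedSectionVars false

namespace Cfsg.Agent.Small.SL2C

open Matrix

variable {F : Type*} [Field F] [Fintype F]

local notation "M2" => Matrix (Fin 2) (Fin 2) F
local notation "SL2" => Matrix.SpecialLinearGroup (Fin 2) F

/-- The scalar `ε` as an element of `SL₂`. -/
def scS (ε : F) (hε : ε * ε = 1) : SL2 :=
  mkSL (ε • (1 : M2)) (by rw [Matrix.det_smul, Matrix.det_one, mul_one, Fintype.card_fin, pow_two, hε])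

theorem scS_isSc (ε : F) (hε : ε * ε = 1) : IsSc (scS ε hε).1 := ⟨ε, rfl⟩

theorem scS_trace (ε : F) (hε : ε * ε = 1) : (scS ε hε).1.trace = 2 * ε := trace_isSc

theorem scS_eq_of_isSc {g : SL2} (h : IsSc g.1) : ∃ (ε : F) (hε : ε * ε = 1), g = scS ε hε := by
  obtain ⟨c, hc⟩ := h
  have hd := g.2
  rw [hc, Matrix.det_smul, Matrix.det_one, mul_one, Fintype.card_fin, pow_two] at hd
  exact ⟨c, hd, Subtype.ext hc⟩

omit [Fintype F] in
theorem not_conj_sc {g h : SL2} (hg : IsSc g.1) (hh : ¬ IsSc h.1) (e : IsConj g h) : False :=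
  hh (isSc_conj e hg ▸ hg)

theorem isSquare_mul_of_not {b c : F} (h2 : (2 : F) ≠ 0) (hb : ¬ IsSquare b) (hc : ¬ IsSquare c) :
    IsSquare (b * c) := by
  classical
  have hb0 : b ≠ 0 := fun h => hb (h ▸ IsSquare.zero)
  have hc0 : c ≠ 0 := fun h => hc (h ▸ IsSquare.zero)
  rw [← quadraticChar_one_iff_isSquare (mul_ne_zero hb0 hc0), map_mul,
    quadraticChar_neg_one_iff_not_isSquare.mpr hb, quadraticChar_neg_one_iff_not_isSquare.mpr hc]
  norm_num

theorem exists_nonsquare' (h2 : (2 : F) ≠ 0) : ∃ a : F, a ≠ 0 ∧ ¬ IsSquare a := by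
  obtain ⟨a, ha⟩ := FiniteField.exists_nonsquare (F := F) (fun h => h2 (by
    have := ringChar.Nat.cast_ringChar (R := F)
    rw [h, Nat.cast_ofNat] at this
    exact this))
  exact ⟨a, fun h => ha (h ▸ IsSquare.zero), ha⟩

/-- An element of trace `t`. -/
def ofTr (t : F) : SL2 := mkSL (comp t 1) (comp_det t 1)

theorem ofTr_trace (t : F) : (ofTr t).1.trace = t := comp_trace t 1
theorem ofTr_not_isSc (t : F) : ¬ IsSc (ofTr t).1 := comp_not_isSc t 1

/-- `SL₂` in odd characteristic has `q + 4` classes. -/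
theorem card_classes_odd (h2 : (2 : F) ≠ 0) :
    Nat.card (ConjClasses SL2) = Fintype.card F + 4 := by
  classical
  obtain ⟨ν, hν0, hν⟩ := exists_nonsquare' h2
  let E := {s : F // s * s = 1}
  let f : {t : F // t * t ≠ 4} ⊕ (E ⊕ E ⊕ E) → ConjClasses SL2 := fun i => ConjClasses.mk (match i with
    | .inl t => ofTr t.1
    | .inr (.inl e) => scS e.1 e.2
    | .inr (.inr (.inl e)) => epU e.1 1 e.2
    | .inr (.inr (.inr e)) => epU e.1 ν e.2)
  have heps : ∀ e e' : E, (2 : F) * e.1 = 2 * e'.1 → e = e' := fun e e' h =>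
    Subtype.ext (mul_left_cancel₀ h2 h)
  have hpar : ∀ e : E, (2 * e.1) * (2 * e.1) = 4 := fun e => by linear_combination (4 : F) * e.2
  have hbij : Function.Bijective f := by
    constructor
    · intro i j h
      have hc := ConjClasses.mk_eq_mk_iff_isConj.mp h
      have ht := trace_conj hc
      rcases i with t | e | e | e <;> rcases j with t' | e' | e' | e' <;>
        simp only [ofTr_trace, scS_trace, epU_trace] at ht
      · rw [Subtype.ext ht]
      · exact absurd (ht ▸ hpar e') t.2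
      · exact absurd (ht ▸ hpar e') t.2
      · exact absurd (ht ▸ hpar e') t.2
      · exact absurd (ht.symm ▸ hpar e) t'.2
      · rw [heps _ _ ht]
      · exact (not_conj_sc (scS_isSc e.1 e.2) (epU_not_isSc e'.2 one_ne_zero) hc).elim
      · exact (not_conj_sc (scS_isSc e.1 e.2) (epU_not_isSc e'.2 hν0) hc).elim
      · exact absurd (ht.symm ▸ hpar e) t'.2
      · exact (not_conj_sc (scS_isSc e'.1 e'.2) (epU_not_isSc e.2 one_ne_zero) hc.symm).elim
      · rw [heps _ _ ht]
      · obtain rfl := heps _ _ ht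
        exact absurd ((epU_conj_iff e.2 one_ne_zero hν0).mp hc) (by rwa [one_mul])
      · exact absurd (ht.symm ▸ hpar e) t'.2
      · exact (not_conj_sc (scS_isSc e'.1 e'.2) (epU_not_isSc e.2 hν0) hc.symm).elim
      · obtain rfl := heps _ _ ht
        exact absurd ((epU_conj_iff e.2 hν0 one_ne_zero).mp hc) (by rwa [mul_one])
      · rw [heps _ _ ht]
    · intro C
      obtain ⟨g, rfl⟩ := ConjClasses.mk_surjective C
      by_cases hg : IsSc g.1
      · obtain ⟨ε, hε, rfl⟩ := scS_eq_of_isSc hg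
        exact ⟨.inr (.inl ⟨ε, hε⟩), rfl⟩
      by_cases ht : g.1.trace * g.1.trace = 4
      · obtain ⟨ε, hε, hte⟩ := exists_eps ht
        obtain ⟨b, hb, hc⟩ := exists_epU hg hε hte
        by_cases hbs : IsSquare b
        · refine ⟨.inr (.inr (.inl ⟨ε, hε⟩)), ConjClasses.mk_eq_mk_iff_isConj.mpr (hc.trans ?_).symm⟩
          exact (epU_conj_iff hε hb one_ne_zero).mpr (by rwa [mul_one])
        · refine ⟨.inr (.inr (.inr ⟨ε, hε⟩)), ConjClasses.mk_eq_mk_iff_isConj.mpr (hc.trans ?_).symm⟩
          exact (epU_conj_iff hε hb hν0).mpr (isSquare_mul_of_not h2 hbs hν)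
      · exact ⟨.inl ⟨_, ht⟩, ConjClasses.mk_eq_mk_iff_isConj.mpr
          (isConj_of_trace hg (ofTr_not_isSc _) (ofTr_trace _).symm (Or.inr ht)).symm⟩
  rw [← Nat.card_congr (Equiv.ofBijective f hbij), Nat.card_sum, Nat.card_sum, Nat.card_sum]
  have hE : Nat.card E = 2 := card_sq_one_odd h2
  have hT : Nat.card {t : F // t * t = 4} = 2 := by
    refine Eq.trans ?_ hE
    exact Nat.card_congr
      { toFun := fun t => (⟨t.1 / 2, by field_simp; linear_combination t.2⟩ : E)
        invFun := fun e => ⟨2 * e.1, hpar e⟩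
        left_inv := fun t => Subtype.ext (by simp only; field_simp)
        right_inv := fun e => Subtype.ext (by simp only; field_simp) }
  have hsum : Nat.card {t : F // t * t = 4} + Nat.card {t : F // t * t ≠ 4} = Fintype.card F := by
    rw [← Nat.card_sum, Nat.card_congr (Equiv.sumCompl _), Nat.card_eq_fintype_card]
  omega

/-- `SL₂` in even characteristic has `q + 1` classes. -/
theorem card_classes_even (h2 : (2 : F) = 0) :
    Nat.card (ConjClasses SL2) = Fintype.card F + 1 := by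
  classical
  let f : {t : F // t ≠ 0} ⊕ Fin 2 → ConjClasses SL2 := fun i => ConjClasses.mk (match i with
    | .inl t => ofTr t.1
    | .inr 0 => 1
    | .inr 1 => epU 1 1 (one_mul 1))
  have hz : ∀ e : F, (2 : F) * e = 0 := fun e => by rw [h2, zero_mul]
  have hbij : Function.Bijective f := by
    constructor
    · intro i j h
      have hc := ConjClasses.mk_eq_mk_iff_isConj.mp h
      have ht := trace_conj hc
      rcases i with t | e <;> rcases j with t' | e'
      · simp only [ofTr_trace] at ht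
        rw [Subtype.ext ht]
      · fin_cases e' <;> simp [ofTr_trace, epU_trace, hz, h2] at ht <;> exact absurd ht t.2
      · fin_cases e <;> simp [ofTr_trace, epU_trace, hz, h2] at ht <;> exact absurd ht.symm t'.2
      · fin_cases e <;> fin_cases e'
        · rfl
        · exact (not_conj_sc (g := (1 : SL2)) ⟨1, (one_smul _ _).symm⟩
            (epU_not_isSc (one_mul (1 : F)) one_ne_zero) hc).elim
        · exact (not_conj_sc (g := (1 : SL2)) ⟨1, (one_smul _ _).symm⟩
            (epU_not_isSc (one_mul (1 : F)) one_ne_zero) hc.symm).elim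
        · rfl
    · intro C
      obtain ⟨g, rfl⟩ := ConjClasses.mk_surjective C
      by_cases hg : IsSc g.1
      · obtain ⟨ε, hε, rfl⟩ := scS_eq_of_isSc hg
        refine ⟨.inr 0, congrArg ConjClasses.mk (Subtype.ext ?_)⟩
        have : ε = 1 := by
          have h' : (ε - 1) * (ε - 1) = 0 := by linear_combination hε + (1 - ε) * h2
          exact sub_eq_zero.mp (mul_self_eq_zero.mp h')
        rw [show (scS ε hε).1 = ε • (1 : M2) from rfl, this, one_smul]
        rfl
      by_cases ht : g.1.trace = 0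
      · exact ⟨.inr 1, ConjClasses.mk_eq_mk_iff_isConj.mpr
          (isConj_of_trace hg (epU_not_isSc _ one_ne_zero) (by rw [ht, epU_trace, hz]) (Or.inl h2)).symm⟩
      · exact ⟨.inl ⟨_, ht⟩, ConjClasses.mk_eq_mk_iff_isConj.mpr
          (isConj_of_trace hg (ofTr_not_isSc _) (ofTr_trace _).symm (Or.inl h2)).symm⟩
  rw [← Nat.card_congr (Equiv.ofBijective f hbij), Nat.card_sum, Nat.card_fin]
  have hsum : Nat.card {t : F // t = 0} + Nat.card {t : F // t ≠ 0} = Fintype.card F := by
    rw [← Nat.card_sum, Nat.card_congr (Equiv.sumCompl _), Nat.card_eq_fintype_card]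
  rw [Nat.card_unique] at hsum
  omega

omit [Fintype F] in
theorem isConj_GL {g h : GL (Fin 2) F} {P : GL (Fin 2) F}
    (e : (P : M2) * (g : M2) = (h : M2) * (P : M2)) : IsConj g h := by
  refine isConj_iff.mpr ⟨P, ?_⟩
  have e' : P * g = h * P := Units.ext e
  rw [e', mul_inv_cancel_right]

omit [Fintype F] in
theorem conj_GL_invariants {g h : GL (Fin 2) F} (e : IsConj g h) :
    (g : M2).trace = (h : M2).trace ∧ (g : M2).det = (h : M2).det ∧
      (IsSc (g : M2) → g = h) := by
  obtain ⟨c, rfl⟩ := isConj_iff.mp e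
  refine ⟨?_, ?_, fun hg => ?_⟩
  · simp only [Units.val_mul]
    rw [Matrix.trace_mul_comm, ← Matrix.mul_assoc, Units.inv_mul, Matrix.one_mul]
  · simp only [Units.val_mul]
    rw [Matrix.det_mul_comm, ← Matrix.mul_assoc, Units.inv_mul, Matrix.one_mul]
  · obtain ⟨a, ha⟩ := hg
    apply Units.ext
    simp [Units.val_mul, ha]

/-- `GL₂` has `q² - 1` classes. -/
theorem card_classes_GL :
    Nat.card (ConjClasses (GL (Fin 2) F)) = Fintype.card F ^ 2 - 1 := by
  classical
  let sc : Fˣ → GL (Fin 2) F := fun c =>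
    Matrix.GeneralLinearGroup.mkOfDetNeZero ((c : F) • (1 : M2)) (by
      rw [Matrix.det_smul, Matrix.det_one, mul_one, Fintype.card_fin]; exact pow_ne_zero 2 c.ne_zero)
  let co : F × Fˣ → GL (Fin 2) F := fun p =>
    Matrix.GeneralLinearGroup.mkOfDetNeZero (comp p.1 p.2) (by rw [comp_det]; exact p.2.ne_zero)
  let f : Fˣ ⊕ (F × Fˣ) → ConjClasses (GL (Fin 2) F) := fun i => ConjClasses.mk (match i with
    | .inl c => sc c
    | .inr p => co p)
  have hsc : ∀ c : Fˣ, (sc c : M2) = (c : F) • 1 := fun c => rfl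
  have hco : ∀ p : F × Fˣ, (co p : M2) = comp p.1 p.2 := fun p => rfl
  have hbij : Function.Bijective f := by
    constructor
    · intro i j h
      have hc := ConjClasses.mk_eq_mk_iff_isConj.mp h
      obtain ⟨h1, h2, h3⟩ := conj_GL_invariants hc
      rcases i with c | p <;> rcases j with c' | p'
      · have e : sc c = sc c' := h3 ⟨c, hsc c⟩
        have e' := congrArg (fun g : GL (Fin 2) F => (g : M2) 0 0) e
        simp [hsc] at e'
        exact congrArg Sum.inl (Units.ext e')
      · have e : sc c = co p' := h3 ⟨c, hsc c⟩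
        exact absurd (⟨c, by rw [← hco, ← e, hsc]⟩ : IsSc (comp p'.1 (p'.2 : F))) (comp_not_isSc _ _)
      · have e : sc c' = co p := (conj_GL_invariants hc.symm).2.2 ⟨c', hsc c'⟩
        exact absurd (⟨c', by rw [← hco, ← e, hsc]⟩ : IsSc (comp p.1 (p.2 : F))) (comp_not_isSc _ _)
      · simp only [hco, comp_trace, comp_det] at h1 h2
        exact congrArg Sum.inr (Prod.ext h1 (Units.ext h2))
    · intro C
      obtain ⟨g, rfl⟩ := ConjClasses.mk_surjective C
      have hd : (g : M2).det ≠ 0 := by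
        rw [← Matrix.GeneralLinearGroup.val_det_apply]; exact Units.ne_zero _
      by_cases hg : IsSc (g : M2)
      · obtain ⟨c, hc⟩ := hg
        have hc0 : c ≠ 0 := by rintro rfl; simp [hc] at hd
        exact ⟨.inl (Units.mk0 c hc0), congrArg ConjClasses.mk (Units.ext (by rw [hsc, hc]; rfl))⟩
      · refine ⟨.inr ((g : M2).trace, Units.mk0 _ hd), ConjClasses.mk_eq_mk_iff_isConj.mpr ?_⟩
        obtain ⟨P, hP⟩ := exists_conj (comp_not_isSc (g : M2).trace (g : M2).det) hg
          (comp_trace _ _) (comp_det _ _)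
        exact isConj_GL (g := co ((g : M2).trace, Units.mk0 _ hd)) (h := g) (P := P) (by rw [hco]; exact hP)
  rw [← Nat.card_congr (Equiv.ofBijective f hbij), Nat.card_sum, Nat.card_prod,
    Cfsg.Agent.Lead.GLBasic.card_units_eq, Nat.card_eq_fintype_card]
  obtain ⟨k, hk, hk'⟩ := q_facts (F := F)
  rw [hk', hk, show k + 2 - 1 = k + 1 from rfl]
  ring

/-! ### Elements of order `p` -/

omit [Fintype F] in
theorem epU_pow_00 (ε b : F) (hε : ε * ε = 1) (n : ℕ) :
    (epU ε b hε ^ n).1 0 0 = ε ^ n ∧ (epU ε b hε ^ n).1 1 0 = 0 := by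
  induction n with
  | zero => simp
  | succ n ih =>
    rw [pow_succ, val_mul', epU_val]
    refine ⟨?_, ?_⟩
    · rw [Matrix.mul_apply, Fin.sum_univ_two, ih.1, pow_succ]; simp
    · rw [Matrix.mul_apply, Fin.sum_univ_two, ih.2]; simp

theorem eq_one_of_pow_p (p : ℕ) [Fact p.Prime] [CharP F p] {c : F} (h : c ^ p = 1) : c = 1 :=
  sub_eq_zero.mp (eq_zero_of_pow_eq_zero (n := p) (by rw [sub_pow_char, one_pow, h, sub_self]))

/-- An element of order `p` is not scalar and has trace `2`. -/
theorem trace_of_order_p (p : ℕ) [Fact p.Prime] [CharP F p] {g : SL2} (hg : orderOf g = p) :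
    ¬ IsSc g.1 ∧ g.1.trace = 2 := by
  have hp : p.Prime := Fact.out
  have hpow : g ^ p = 1 := hg ▸ pow_orderOf_eq_one g
  have hns : ¬ IsSc g.1 := by
    rintro ⟨c, hc⟩
    have h1 := congrArg (fun Y : SL2 => Y.1 0 0) hpow
    simp only [Matrix.SpecialLinearGroup.coe_pow, hc, smul_pow, one_pow,
      Matrix.SpecialLinearGroup.coe_one] at h1
    simp at h1
    have : g = 1 := Subtype.ext (by rw [hc, eq_one_of_pow_p p h1, one_smul]; rfl)
    rw [this, orderOf_one] at hg
    exact hp.one_lt.ne hg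
  refine ⟨hns, ?_⟩
  by_cases ht : g.1.trace * g.1.trace = 4
  · obtain ⟨ε, hε, hte⟩ := exists_eps ht
    obtain ⟨b, -, hc⟩ := exists_epU hns hε hte
    obtain ⟨S, hS⟩ := isConj_iff.mp hc
    have h1 : epU ε b hε ^ p = 1 := by rw [← hS, conj_pow, hpow, mul_one, mul_inv_cancel]
    have h2 := (epU_pow_00 ε b hε p).1
    rw [h1] at h2
    simp at h2
    rw [hte, eq_one_of_pow_p p h2.symm, mul_one]
  · exfalso
    have h1 := orderOf_dvd_of_pow_eq_one (pow_sol g hns)
    rw [hg] at h1
    obtain ⟨n, -, hq⟩ := FiniteField.card F p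
    have hpq : p ∣ Fintype.card F := hq ▸ dvd_pow_self p n.ne_zero
    have := Fintype.one_lt_card (α := F)
    rcases sol_eq ht with ⟨-, hs⟩ | ⟨-, hs⟩ <;> rw [hs] at h1
    · have h3 := Nat.dvd_sub hpq h1
      rw [show Fintype.card F - (Fintype.card F - 1) = 1 by omega] at h3
      exact hp.one_lt.ne' (Nat.dvd_one.mp h3)
    · have h3 := Nat.dvd_sub h1 hpq
      rw [show Fintype.card F + 1 - Fintype.card F = 1 by omega] at h3
      exact hp.one_lt.ne' (Nat.dvd_one.mp h3)

theorem orderOf_epU_one (p : ℕ) [Fact p.Prime] [CharP F p] {b : F} (hb : b ≠ 0) :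
    orderOf (epU 1 b (one_mul 1)) = p := by
  have hpw : ∀ n : ℕ, epU 1 b (one_mul 1) ^ n = epU 1 ((n : F) * b) (one_mul 1) := by
    intro n
    induction n with
    | zero =>
      apply Subtype.ext
      rw [pow_zero, epU_val]
      simp [Matrix.one_fin_two]
    | succ n ih =>
      apply Subtype.ext
      rw [pow_succ, ih, val_mul', epU_val, epU_val, epU_val]
      ext i j
      fin_cases i <;> fin_cases j <;> simp [Matrix.mul_apply, Fin.sum_univ_two] <;> ring
  refine orderOf_eq_prime ?_ fun h => hb ?_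
  · rw [hpw, CharP.cast_eq_zero, zero_mul]
    apply Subtype.ext
    simp [epU_val, Matrix.one_fin_two]
  · have := congrArg (fun Y : SL2 => Y.1 0 1) h
    simpa [epU_val] using this

omit [Fintype F] in
theorem carrier_card {G : Type*} [Group G] (g : G) :
    Nat.card (ConjClasses.mk g).carrier = (Subgroup.centralizer ({g} : Set G)).index := by
  rw [← ConjAct.orbit_eq_carrier_conjClasses, Nat.card_coe_set_eq, ← MulAction.index_stabilizer,
    ConjAct.stabilizer_eq_centralizer]
  rfl

theorem class_card_parabolic {g : SL2} (hg : ¬ IsSc g.1) (ht : g.1.trace * g.1.trace = 4) :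
    Nat.card (ConjClasses.mk g).carrier * Nat.card {s : F // s * s = 1} =
      Fintype.card F ^ 2 - 1 := by
  rw [carrier_card]
  have h := Subgroup.card_mul_index (Subgroup.centralizer ({g} : Set SL2))
  rw [card_centralizer g hg, sol_parab ht, card_SL2] at h
  refine Nat.eq_of_mul_eq_mul_left (Fintype.card_pos (α := F)) ?_
  rw [← h]
  ring

/-- In odd characteristic the elements of order `p` form two classes. -/
theorem card_classes_order_p (p : ℕ) [Fact p.Prime] [CharP F p] (hp : p ≠ 2) :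
    Nat.card {C : ConjClasses SL2 // ∃ g : SL2, orderOf g = p ∧ ConjClasses.mk g = C} = 2 := by
  have h2 := two_ne_zero_of_char (F := F) p hp
  obtain ⟨ν, hν0, hν⟩ := exists_nonsquare' h2
  rw [Nat.card_eq_two_iff]
  refine ⟨⟨ConjClasses.mk (epU 1 1 (one_mul 1)), _, orderOf_epU_one p one_ne_zero, rfl⟩,
    ⟨ConjClasses.mk (epU 1 ν (one_mul 1)), _, orderOf_epU_one p hν0, rfl⟩, fun h => hν ?_, ?_⟩
  · have := (epU_conj_iff (one_mul 1) one_ne_zero hν0).mp
      (ConjClasses.mk_eq_mk_iff_isConj.mp (congrArg Subtype.val h))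
    rwa [one_mul] at this
  · rw [Set.eq_univ_iff_forall]
    rintro ⟨C, g, hg, rfl⟩
    obtain ⟨hns, ht⟩ := trace_of_order_p p hg
    obtain ⟨b, hb, hc⟩ := exists_epU hns (one_mul (1 : F)) (by rw [ht, mul_one])
    simp only [Set.mem_insert_iff, Set.mem_singleton_iff, Subtype.mk.injEq]
    by_cases hbs : IsSquare b
    · left
      exact ConjClasses.mk_eq_mk_iff_isConj.mpr
        (hc.trans ((epU_conj_iff _ hb one_ne_zero).mpr (by rwa [mul_one])))
    · right
      exact ConjClasses.mk_eq_mk_iff_isConj.mpr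
        (hc.trans ((epU_conj_iff _ hb hν0).mpr (isSquare_mul_of_not h2 hbs hν)))

omit [Fintype F] in
/-- Upper unitriangular matrices. -/
theorem eq_epU {g : SL2} (h0 : g.1 0 0 = 1) (h1 : g.1 1 1 = 1) (h2 : g.1 1 0 = 0) :
    g = epU 1 (g.1 0 1) (one_mul 1) := by
  apply Subtype.ext
  rw [epU_val]
  ext i j
  fin_cases i <;> fin_cases j <;> simp [h0, h1, h2]

/-- Elements of order `p` in `GL₂` are conjugate. -/
theorem isConj_order_p (p : ℕ) [Fact p.Prime] [CharP F p] {g h : GL (Fin 2) F}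
    (hg : orderOf g = p) (hh : orderOf h = p) : IsConj g h := by
  have key : ∀ x : GL (Fin 2) F, orderOf x = p →
      ¬ IsSc (x : M2) ∧ (x : M2).trace = 2 ∧ (x : M2).det = 1 := by
    intro x hx
    have hpow : x ^ p = 1 := hx ▸ pow_orderOf_eq_one x
    have hd : (x : M2).det = 1 := by
      refine eq_one_of_pow_p p ?_
      rw [← Matrix.det_pow, ← Units.val_pow_eq_pow_val, hpow, Units.val_one, Matrix.det_one]
    have ho : orderOf (mkSL (x : M2) hd) = p := by
      refine orderOf_eq_prime (Subtype.ext ?_) fun h => ?_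
      · rw [Matrix.SpecialLinearGroup.coe_pow, mkSL_val, ← Units.val_pow_eq_pow_val, hpow]
        rfl
      · have h1 : x = 1 := Units.ext (congrArg (fun Y : SL2 => Y.1) h)
        rw [h1, orderOf_one] at hx
        exact (Fact.out : p.Prime).one_lt.ne hx
    obtain ⟨h1, h2⟩ := trace_of_order_p p ho
    exact ⟨h1, h2, hd⟩
  obtain ⟨a1, a2, a3⟩ := key g hg
  obtain ⟨b1, b2, b3⟩ := key h hh
  obtain ⟨P, hP⟩ := exists_conj a1 b1 (a2.trans b2.symm) (a3.trans b3.symm)
  exact isConj_GL hP

/-! ### Centralisers in `GL₂` -/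

theorem roots_eq_zero_of_noEigen {A : M2}
    (h : ∀ (c : F) (v : Fin 2 → F), v ≠ 0 → A *ᵥ v ≠ c • v) : roots A.trace A.det = 0 := by
  rw [roots, Nat.card_eq_zero]
  refine Or.inl ⟨fun k => ?_⟩
  obtain ⟨v, hv, h1⟩ := Matrix.exists_mulVec_eq_zero_iff.mpr
    (show (comb A k.1 1).det = 0 by rw [det_comb, Qf]; linear_combination k.2)
  simp only [comb, one_smul, Matrix.add_mulVec, Matrix.smul_mulVec, Matrix.one_mulVec] at h1
  exact h (-k.1) v hv (by rw [neg_smul]; exact eq_neg_of_add_eq_zero_right h1)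

theorem not_isSc_of_noEigen {A : M2}
    (h : ∀ (c : F) (v : Fin 2 → F), v ≠ 0 → A *ᵥ v ≠ c • v) : ¬ IsSc A := by
  rintro ⟨c, rfl⟩
  exact h c (fun _ => 1) (fun h0 => one_ne_zero (congrFun h0 0))
    (by rw [Matrix.smul_mulVec, Matrix.one_mulVec])

theorem card_centralizer_GL_elliptic (g : GL (Fin 2) F)
    (h : ∀ (c : F) (v : Fin 2 → F), v ≠ 0 → (g : M2) *ᵥ v ≠ c • v) :
    Nat.card (Subgroup.centralizer ({g} : Set (GL (Fin 2) F))) = Fintype.card F ^ 2 - 1 := by
  have := card_centralizer_GL g (not_isSc_of_noEigen h)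
  rw [roots_eq_zero_of_noEigen h, zero_mul, add_zero] at this
  omega

theorem card_centralizer_GL_diag (g : GL (Fin 2) F) (h01 : (g : M2) 0 1 = 0)
    (h10 : (g : M2) 1 0 = 0) (hne : (g : M2) 0 0 ≠ (g : M2) 1 1) :
    Nat.card (Subgroup.centralizer ({g} : Set (GL (Fin 2) F))) = (Fintype.card F - 1) ^ 2 := by
  have hns : ¬ IsSc (g : M2) := fun h => hne ((isSc_iff _).mp h).2.2
  have := card_centralizer_GL g hns
  have hr : roots (g : M2).trace (g : M2).det = 2 := by
    rw [Matrix.trace_fin_two, Matrix.det_fin_two, h01, h10, mul_zero, sub_zero]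
    obtain ⟨a, ha⟩ : ∃ a, a = (g : M2) 0 0 := ⟨_, rfl⟩
    obtain ⟨d, hd⟩ : ∃ d, d = (g : M2) 1 1 := ⟨_, rfl⟩
    rw [← ha, ← hd] at hne ⊢
    have hne' : (a + d) * (a + d) ≠ 4 * (a * d) := fun h =>
      hne (sub_eq_zero.mp (mul_self_eq_zero.mp (by linear_combination h)))
    refine (roots_cases hne').resolve_left fun h0 => ?_
    rw [roots, Nat.card_eq_zero] at h0
    rcases h0 with h0 | h0
    · exact h0.false ⟨-a, by ring⟩
    · exact h0.false
  rw [hr] at this
  obtain ⟨k, hk, -⟩ := q_facts (F := F)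
  rw [hk, show k + 2 - 1 = k + 1 from rfl] at this ⊢
  have e : (k + 2) ^ 2 = (k + 1) ^ 2 + 2 * (k + 1) + 1 := by ring
  omega

end Cfsg.Agent.Small.SL2C
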