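import Mathlib
import Cfsg.Agent.Lib.Small.SL2.Counting

/-!
Tori of `SL₂` over a finite field and their normalisers.
-/

set_option autoImplicit false
set_option linter.unusedSectionVars false

namespace Cfsg.Agent.Small.SL2C

open Matrix

section Abstract

variable {G : Type*} [Group G] [Finite G]

/-- The class number of a group with an inverted abelian subgroup of index two. -/
theorem classes_of_inverting (C : Subgroup G) (hidx : C.index = 2)
    (hcomm : ∀ a ∈ C, ∀ b ∈ C, a * b = b * a) (hinv : ∀ s ∉ C, ∀ a ∈ C, s * a = a⁻¹ * s)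
    (h2 : Nat.card {a : G // a ∈ C ∧ a * a = 1} = 2) :
    2 * Nat.card (ConjClasses G) = Nat.card C + 6 := by
  classical
  have := Fintype.ofFinite G
  obtain ⟨n, hn⟩ : ∃ n, n = Nat.card C := ⟨_, rfl⟩
  have hG : Nat.card G = 2 * n := by rw [← C.card_mul_index, hidx, hn, mul_comm]
  have hself : ∀ a ∈ C, a * a = 1 → a⁻¹ = a := fun a _ h => inv_eq_of_mul_eq_one_right h
  have hxC : ∀ x ∈ C, x * x = 1 → Nat.card {b : G // Commute x b} = 2 * n := by
    intro x hx h
    rw [← hG]
    refine Nat.card_congr (Equiv.subtypeUnivEquiv fun b => ?_)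
    by_cases hb : b ∈ C
    · exact hcomm x hx b hb
    · exact ((hinv b hb x hx).trans (by rw [hself x hx h])).symm
  have hxC' : ∀ x ∈ C, x * x ≠ 1 → Nat.card {b : G // Commute x b} = n := by
    intro x hx h
    rw [hn]
    refine Nat.card_congr (Equiv.subtypeEquivRight fun b => ⟨fun hb => ?_, fun hb => hcomm x hx b hb⟩)
    by_contra hb'
    refine h ?_
    have h1 := hinv b hb' x hx
    rw [← hb.eq] at h1
    nth_rewrite 2 [mul_right_cancel h1]
    rw [mul_inv_cancel]
  have hout : ∀ x, x ∉ C → Nat.card {b : G // Commute x b} = 4 := by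
    intro x hx
    have hK : ∀ a : {a : G // a ∈ C ∧ a * a = 1}, Commute x a.1 := fun a => by
      have := hinv x hx a.1 a.2.1
      rwa [hself a.1 a.2.1 a.2.2] at this
    let f : {a : G // a ∈ C ∧ a * a = 1} ⊕ {a : G // a ∈ C ∧ a * a = 1} → {b : G // Commute x b} :=
      fun i => match i with
        | .inl a => ⟨a.1, hK a⟩
        | .inr a => ⟨a.1 * x, (hK a).mul_right (Commute.refl x)⟩
    have hf : Function.Bijective f := by
      constructor
      · rintro (a | a) (b | b) h <;> have h' := congrArg Subtype.val h <;> simp only [f] at h'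
        · rw [Subtype.ext h']
        · exact absurd (by simpa [h'] using C.mul_mem (C.inv_mem b.2.1) a.2.1) hx
        · exact absurd (by simpa [← h'] using C.mul_mem (C.inv_mem a.2.1) b.2.1) hx
        · rw [Subtype.ext (mul_right_cancel h')]
      · rintro ⟨b, hb⟩
        by_cases hbC : b ∈ C
        · refine ⟨.inl ⟨b, hbC, ?_⟩, rfl⟩
          have h1 := hinv x hx b hbC
          rw [hb.eq] at h1
          nth_rewrite 1 [mul_right_cancel h1]
          rw [inv_mul_cancel]
        · have ha : b * x⁻¹ ∈ C := by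
            rw [Subgroup.mul_mem_iff_of_index_two hidx]
            simp [hbC, hx]
          have hc : Commute x (b * x⁻¹) := hb.mul_right ((Commute.refl x).inv_right)
          refine ⟨.inr ⟨b * x⁻¹, ha, ?_⟩, Subtype.ext (inv_mul_cancel_right b x)⟩
          have h1 := hinv x hx _ ha
          rw [hc.eq] at h1
          nth_rewrite 1 [mul_right_cancel h1]
          rw [inv_mul_cancel]
    rw [← Nat.card_congr (Equiv.ofBijective f hf), Nat.card_sum, h2]
  have key : Nat.card (ConjClasses G) * (2 * n) =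
      ∑ x : G, if x ∈ C then (if x * x = 1 then 2 * n else n) else 4 := by
    rw [← hG, ← card_comm_eq_card_conjClasses_mul_card,
      Nat.card_congr (Equiv.subtypeProdEquivSigmaSubtype fun a b : G => Commute a b), Nat.card_sigma]
    refine Finset.sum_congr rfl fun x _ => ?_
    split_ifs with hx h
    · rw [hG]; exact hxC x hx h
    · exact hxC' x hx h
    · exact hout x hx
  rw [Finset.sum_ite, Finset.sum_ite, Finset.sum_const, Finset.sum_const, Finset.sum_const,
    smul_eq_mul, smul_eq_mul, smul_eq_mul, Finset.filter_filter, Finset.filter_filter] at key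
  rw [Nat.card_eq_fintype_card, Fintype.card_subtype] at h2
  have e1 := Finset.card_filter_add_card_filter_not
    (s := (Finset.univ : Finset G).filter (· ∈ C)) (fun x => x * x = 1)
  rw [Finset.filter_filter, Finset.filter_filter, h2] at e1
  have e2 := Finset.card_filter_add_card_filter_not (s := (Finset.univ : Finset G)) (· ∈ C)
  rw [Finset.card_univ, ← Nat.card_eq_fintype_card, hG] at e2
  have e3 : n = ((Finset.univ : Finset G).filter (· ∈ C)).card := by
    rw [hn, Nat.card_eq_fintype_card, Fintype.card_subtype]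
  rw [h2] at key
  obtain ⟨m, hm⟩ := Nat.le.dest (show 2 ≤ n by omega)
  rw [show ({a | a ∈ C ∧ ¬a * a = 1} : Finset G).card = m by omega,
    show ({a | a ∉ C} : Finset G).card = n by omega, ← hm] at key
  rw [← hn, ← hm]
  exact Nat.eq_of_mul_eq_mul_right (show 0 < 2 + m by omega)
    ((by ring : 2 * Nat.card (ConjClasses G) * (2 + m) = Nat.card (ConjClasses G) * (2 * (2 + m))).trans
      (key.trans (by ring)))

end Abstract

variable {F : Type*} [Field F] [Fintype F]

local notation "M2" => Matrix (Fin 2) (Fin 2) F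
local notation "SL2" => Matrix.SpecialLinearGroup (Fin 2) F

/-- The torus of `g`. -/
abbrev tor (g : SL2) : Subgroup SL2 := Subgroup.centralizer ({g} : Set SL2)

theorem mem_tor {g X : SL2} : X ∈ tor g ↔ X.1 * g.1 = g.1 * X.1 := by
  rw [Subgroup.mem_centralizer_singleton_iff]
  exact ⟨congrArg (fun Y : SL2 => Y.1), fun h => Subtype.ext h⟩

theorem self_mem_tor (g : SL2) : g ∈ tor g := mem_tor.mpr rfl

variable {g : Matrix.SpecialLinearGroup (Fin 2) F}

theorem exists_of_mem_tor (hg : ¬ IsSc g.1) {X : SL2} (hX : X ∈ tor g) :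
    ∃ x y : F, X.1 = comb g.1 x y ∧ x * x + g.1.trace * x * y + y * y = 1 := by
  obtain ⟨x, y, h⟩ := exists_comb hg (mem_tor.mp hX)
  have hd := X.2
  rw [h, det_comb, g.2, Qf, one_mul] at hd
  exact ⟨x, y, h, hd⟩

theorem tor_comm (hg : ¬ IsSc g.1) : ∀ a ∈ tor g, ∀ b ∈ tor g, a * b = b * a := by
  intro a ha b hb
  obtain ⟨x, y, h, -⟩ := exists_of_mem_tor hg ha
  apply Subtype.ext
  rw [val_mul', val_mul', h, comb]
  simp only [Matrix.add_mul, Matrix.mul_add, Matrix.smul_mul, Matrix.mul_smul, Matrix.one_mul,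
    Matrix.mul_one, mem_tor.mp hb]

theorem comb_trace (A : M2) (x y : F) : (comb A x y).trace = 2 * x + y * A.trace := by
  rw [comb, Matrix.trace_add, trace_isSc, Matrix.trace_smul, smul_eq_mul]

/-- A non-central element of a torus has the same torus. -/
theorem tor_eq (ht : g.1.trace * g.1.trace ≠ 4) {X : SL2} (hX : X ∈ tor g) (hns : ¬ IsSc X.1) :
    tor X = tor g ∧ X.1.trace * X.1.trace ≠ 4 := by
  have hg := not_isSc_of_trace ht
  obtain ⟨x, y, h, hd⟩ := exists_of_mem_tor hg hX
  have hy : y ≠ 0 := by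
    rintro rfl
    exact hns ⟨x, by simp [h, comb]⟩
  refine ⟨le_antisymm (fun Z hZ => ?_) fun Z hZ => mem_tor.mpr (congrArg (fun Y : SL2 => Y.1)
    (tor_comm hg Z hZ X hX)), ?_⟩
  · have h1 := mem_tor.mp hZ
    rw [h, comb, Matrix.mul_add, Matrix.add_mul, Matrix.mul_smul, Matrix.smul_mul, Matrix.mul_one,
      Matrix.one_mul, Matrix.mul_smul, Matrix.smul_mul] at h1
    exact mem_tor.mpr (smul_right_injective M2 hy (add_left_cancel h1))
  · rw [h, comb_trace]
    intro h4
    have : y * y * (g.1.trace * g.1.trace - 4) = 0 := by linear_combination h4 - 4 * hd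
    exact ht (sub_eq_zero.mp ((mul_eq_zero.mp this).resolve_left (mul_ne_zero hy hy)))

theorem inv_val (g : SL2) : g⁻¹.1 = g.1.trace • (1 : M2) - g.1 := by
  obtain ⟨h, hh⟩ : ∃ h : SL2, h.1 = g.1.trace • (1 : M2) - g.1 :=
    ⟨mkSL (comb g.1 g.1.trace (-1)) (by rw [det_comb, g.2, Qf]; ring), by
      rw [mkSL_val, comb, neg_one_smul, sub_eq_add_neg]⟩
  have e : g * h = 1 := by
    apply Subtype.ext
    rw [val_mul', hh, Matrix.mul_sub, Matrix.mul_smul, Matrix.mul_one, sq_eq,
      Matrix.SpecialLinearGroup.coe_one, sub_sub_cancel]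
  rw [inv_eq_of_mul_eq_one_right e, hh]

theorem inv_ne_self (ht : g.1.trace * g.1.trace ≠ 4) : g⁻¹ ≠ g := by
  intro h
  have hg := not_isSc_of_trace ht
  have h1 := congrArg (fun Y : SL2 => Y.1) h
  simp only [inv_val] at h1
  have h2 : (2 : F) • g.1 = g.1.trace • (1 : M2) := by linear_combination (norm := module) -h1
  by_cases h20 : (2 : F) = 0
  · rw [h20, zero_smul] at h2
    have h3 := congrFun (congrFun h2 0) 0
    simp at h3
    exact ht (by rw [← h3, mul_zero]; linear_combination (-2 : F) * h20)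
  · exact hg ⟨(2 : F)⁻¹ * g.1.trace, by rw [mul_smul, ← h2, smul_smul, inv_mul_cancel₀ h20, one_smul]⟩

/-- An element inverting `g` inverts the whole torus. -/
theorem inverts (hg : ¬ IsSc g.1) {s : SL2} (hs : s * g = g⁻¹ * s) {a : SL2} (ha : a ∈ tor g) :
    s * a = a⁻¹ * s := by
  obtain ⟨x, y, h, hd⟩ := exists_of_mem_tor hg ha
  have h1 : s.1 * g.1 = g⁻¹.1 * s.1 := congrArg (fun Y : SL2 => Y.1) hs
  have htr : a.1.trace = 2 * x + y * g.1.trace := by rw [h, comb_trace]
  apply Subtype.ext
  rw [val_mul', val_mul', inv_val a, htr, h, comb, Matrix.mul_add, Matrix.mul_smul, Matrix.mul_smul,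
    h1, inv_val g, Matrix.mul_one]
  simp only [Matrix.sub_mul, Matrix.add_mul, Matrix.smul_mul, Matrix.one_mul]
  module

theorem inverter_not_mem (ht : g.1.trace * g.1.trace ≠ 4) {s : SL2} (hs : s * g = g⁻¹ * s) :
    s ∉ tor g := fun h => inv_ne_self ht (by
  rw [Subgroup.mem_centralizer_singleton_iff.mp h] at hs
  exact (mul_right_cancel hs).symm)

theorem exists_inverter (ht : g.1.trace * g.1.trace ≠ 4) : ∃ s : SL2, s * g = g⁻¹ * s := by
  have hg := not_isSc_of_trace ht
  have htr : g⁻¹.1.trace = g.1.trace := by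
    rw [inv_val, Matrix.trace_sub, trace_isSc]; ring
  obtain ⟨c, hc⟩ := isConj_iff.mp (isConj_of_trace hg (not_isSc_of_trace (g := g⁻¹) (by rwa [htr]))
    htr.symm (Or.inr ht))
  exact ⟨c, mul_inv_eq_iff_eq_mul.mp hc⟩

theorem inverter_mem_normalizer (hg : ¬ IsSc g.1) {s : SL2} (hs : s * g = g⁻¹ * s) :
    s ∈ Subgroup.normalizer (tor g : Set SL2) := by
  rw [Subgroup.mem_normalizer_iff]
  intro h
  constructor
  · intro hh
    rw [inverts hg hs hh, mul_inv_cancel_right]
    exact inv_mem hh
  · intro hh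
    have h1 := inverts hg hs (inv_mem hh)
    rw [inv_inv, inv_mul_cancel_right] at h1
    rw [← mul_left_cancel h1]
    exact inv_mem hh

theorem normalizer_cases (ht : g.1.trace * g.1.trace ≠ 4) {s : SL2}
    (hs : s ∈ Subgroup.normalizer (tor g : Set SL2)) : s ∈ tor g ∨ s * g = g⁻¹ * s := by
  have hg := not_isSc_of_trace ht
  have hm : s * g * s⁻¹ ∈ tor g := (Subgroup.mem_normalizer_iff.mp hs g).mp (self_mem_tor g)
  obtain ⟨x, y, h, hd⟩ := exists_of_mem_tor hg hm
  have h1 : g.1.trace = 2 * x + y * g.1.trace := by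
    rw [← comb_trace g.1 x y, ← h]
    exact trace_conj (isConj_iff.mpr ⟨s, rfl⟩)
  have hy : (y * y - 1) * (g.1.trace * g.1.trace - 4) = 0 := by
    linear_combination (-(g.1.trace + 2 * x + y * g.1.trace)) * h1 - 4 * hd
  have hy1 := sub_eq_zero.mp ((mul_eq_zero.mp hy).resolve_right (sub_ne_zero.mpr ht))
  have key : ∀ z : SL2, z.1 = comb g.1 x y → s * g = z * s := fun z hz =>
    mul_inv_eq_iff_eq_mul.mp (Subtype.ext (h.trans hz.symm))
  rcases mul_self_eq_one_iff.mp hy1 with e | e
  · by_cases hx : x = 0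
    · left
      rw [Subgroup.mem_centralizer_singleton_iff]
      exact key g (by simp [comb, hx, e])
    · right
      refine key g⁻¹ ?_
      have h2 : (2 : F) = 0 := (mul_eq_zero.mp (show (2 : F) * x = 0 by
        rw [e] at h1; linear_combination -h1)).resolve_right hx
      have hxt : x * (x + g.1.trace) = 0 := by rw [e] at hd; linear_combination hd
      have hx' : x = g.1.trace := by
        linear_combination (mul_eq_zero.mp hxt).resolve_left hx - g.1.trace * h2
      rw [inv_val, hx', comb, e, one_smul, sub_eq_add_neg]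
      congr 1
      have h2g : (2 : F) • g.1 = 0 := by rw [h2, zero_smul]
      linear_combination (norm := module) -h2g
  · by_cases h2 : (2 : F) = 0
    · have hy' : y = 1 := by linear_combination e - h2
      by_cases hx : x = 0
      · left
        rw [Subgroup.mem_centralizer_singleton_iff]
        exact key g (by simp [comb, hx, hy'])
      · right
        refine key g⁻¹ ?_
        have hxt : x * (x + g.1.trace) = 0 := by rw [hy'] at hd; linear_combination hd
        have hx' : x = g.1.trace := by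
          linear_combination (mul_eq_zero.mp hxt).resolve_left hx - g.1.trace * h2
        rw [inv_val, hx', comb, e, neg_one_smul, sub_eq_add_neg]
    · right
      refine key g⁻¹ ?_
      have hx' : x = g.1.trace := by
        refine mul_left_cancel₀ h2 ?_
        rw [e] at h1; linear_combination -h1
      rw [inv_val, hx', comb, e, neg_one_smul, sub_eq_add_neg]

theorem sq_of_inverter (ht : g.1.trace * g.1.trace ≠ 4) {s : SL2} (hs : s * g = g⁻¹ * s) :
    s.1 * s.1 = -1 := by
  have h0 : s * s * g = g * (s * s) := by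
    have h2 : s * g⁻¹ = g * s := by
      have := inverts (not_isSc_of_trace ht) hs (inv_mem (self_mem_tor g))
      rwa [inv_inv] at this
    rw [mul_assoc, hs, ← mul_assoc, h2, mul_assoc]
  have h1 := congrArg (fun Y : SL2 => Y.1) h0
  simp only [val_mul'] at h1
  rw [sq_eq, Matrix.sub_mul, Matrix.mul_sub, Matrix.smul_mul, Matrix.mul_smul, Matrix.one_mul,
    Matrix.mul_one] at h1
  have h3 : s.1.trace • (s.1 * g.1) = s.1.trace • (g.1 * s.1) := sub_left_injective h1
  have ht0 : s.1.trace = 0 := by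
    by_contra hne
    exact inverter_not_mem ht hs (mem_tor.mpr (smul_right_injective M2 hne h3))
  rw [sq_eq, ht0, zero_smul, zero_sub]

theorem card_normalizer (ht : g.1.trace * g.1.trace ≠ 4) :
    Nat.card (Subgroup.normalizer (tor g : Set SL2)) = 2 * sol g.1.trace 1 ∧
      ((tor g).subgroupOf (Subgroup.normalizer (tor g : Set SL2))).index = 2 := by
  have hg := not_isSc_of_trace ht
  obtain ⟨s, hs⟩ := exists_inverter ht
  have hidx : ((tor g).subgroupOf (Subgroup.normalizer (tor g : Set SL2))).index = 2 := by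
    rw [Subgroup.index_eq_two_iff]
    refine ⟨⟨s, inverter_mem_normalizer hg hs⟩, fun b => ?_⟩
    simp only [Subgroup.mem_subgroupOf, Subgroup.coe_mul]
    by_cases hb : b.1 ∈ tor g
    · exact Or.inr ⟨hb, fun h => inverter_not_mem ht hs (by
        simpa using mul_mem (inv_mem hb) h)⟩
    · refine Or.inl ⟨?_, hb⟩
      rcases normalizer_cases ht b.2 with h | h
      · exact absurd h hb
      have h2 : b.1 * g⁻¹ = g * b.1 := by
        have := inverts hg h (inv_mem (self_mem_tor g))
        rwa [inv_inv] at this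
      rw [Subgroup.mem_centralizer_singleton_iff, mul_assoc, hs, ← mul_assoc, h2, mul_assoc]
  refine ⟨?_, hidx⟩
  have h := Subgroup.card_mul_index ((tor g).subgroupOf (Subgroup.normalizer (tor g : Set SL2)))
  rw [hidx, Nat.card_congr (Subgroup.subgroupOfEquivOfLe Subgroup.le_normalizer).toEquiv,
    card_centralizer g hg] at h
  rw [← h, mul_comm]

theorem classes_normalizer (h2 : (2 : F) ≠ 0) (ht : g.1.trace * g.1.trace ≠ 4) :
    2 * Nat.card (ConjClasses (Subgroup.normalizer (tor g : Set SL2))) = sol g.1.trace 1 + 6 := by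
  have hg := not_isSc_of_trace ht
  obtain ⟨N, hN⟩ : ∃ N, N = Subgroup.normalizer (tor g : Set SL2) := ⟨_, rfl⟩
  have hle : tor g ≤ N := hN ▸ Subgroup.le_normalizer
  have hinv : ∀ s : N, s ∉ (tor g).subgroupOf N → ∀ a ∈ (tor g).subgroupOf N, s * a = a⁻¹ * s := by
    intro s hs a ha
    rcases normalizer_cases ht (by rw [← hN]; exact s.2) with h | h
    · exact absurd h hs
    · exact Subtype.ext (inverts hg h ha)
  have hsq : Nat.card {a : N // a ∈ (tor g).subgroupOf N ∧ a * a = 1} = 2 := by
    have hsc : ∀ (ε : F) (hε : ε * ε = 1), scS ε hε ∈ tor g := fun ε hε => by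
      rw [mem_tor, show (scS ε hε).1 = ε • (1 : M2) from rfl]; simp
    rw [Nat.card_eq_two_iff]
    have h1 : scS (-1 : F) (by ring) * scS (-1 : F) (by ring) = 1 := by
      apply Subtype.ext
      rw [val_mul', show (scS (-1 : F) (by ring)).1 = (-1 : F) • (1 : M2) from rfl]
      simp
    refine ⟨⟨1, one_mem _, mul_one 1⟩, ⟨⟨scS (-1 : F) (by ring), hle (hsc _ (by ring))⟩,
      hsc _ (by ring), Subtype.ext h1⟩, fun h => h2 ?_, ?_⟩
    · have := congrArg (fun a : {a : N // a ∈ (tor g).subgroupOf N ∧ a * a = 1} => a.1.1.1 0 0) h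
      simp [scS, mkSL] at this
      linear_combination this
    · rw [Set.eq_univ_iff_forall]
      rintro ⟨⟨a, haN⟩, ha, ha2⟩
      simp only [Set.mem_insert_iff, Set.mem_singleton_iff, Subtype.mk.injEq]
      have e : a * a = 1 := congrArg Subtype.val ha2
      rcases sq_one_cases h2 e with h | h
      · left; exact Subtype.ext (Subtype.ext h)
      · right; exact Subtype.ext (by rw [h]; simp [scS, mkSL])
  have hidx : ((tor g).subgroupOf N).index = 2 := hN ▸ (card_normalizer ht).2
  have h := classes_of_inverting ((tor g).subgroupOf N) hidx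
    (fun a ha b hb => Subtype.ext (tor_comm hg _ ha _ hb)) hinv hsq
  rw [Nat.card_congr (Subgroup.subgroupOfEquivOfLe hle).toEquiv, card_centralizer g hg, hN] at h
  exact h

theorem sq_outside (ht : g.1.trace * g.1.trace ≠ 4) {s : SL2}
    (hs : s ∈ Subgroup.normalizer (tor g : Set SL2)) (hn : s ∉ tor g) : s.1 * s.1 = -1 :=
  sq_of_inverter ht ((normalizer_cases ht hs).resolve_left hn)

/-- Diagonal elements. -/
theorem diag_torus {d : SL2} (h01 : d.1 0 1 = 0) (h10 : d.1 1 0 = 0) (ha : d.1 0 0 * d.1 0 0 ≠ 1) :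
    d.1.trace * d.1.trace ≠ 4 ∧ sol d.1.trace 1 = Fintype.card F - 1 ∧
      ∀ X : SL2, X ∈ tor d ↔ X.1 0 1 = 0 ∧ X.1 1 0 = 0 := by
  have hd := d.2
  rw [Matrix.det_fin_two, h01, h10, mul_zero, sub_zero] at hd
  have ha0 : d.1 0 0 ≠ 0 := fun h => by rw [h, zero_mul] at hd; exact zero_ne_one hd
  have hdd : d.1 1 1 = (d.1 0 0)⁻¹ := eq_inv_of_mul_eq_one_right hd
  have htr : d.1.trace = d.1 0 0 + (d.1 0 0)⁻¹ := by rw [Matrix.trace_fin_two, hdd]
  obtain ⟨h4, hr⟩ := exists_split ha0 ha
  rw [← htr] at h4 hr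
  refine ⟨h4, ?_, fun X => ?_⟩
  · rcases sol_eq h4 with ⟨-, h⟩ | ⟨h', -⟩
    · exact h
    · omega
  · have hne : d.1 1 1 - d.1 0 0 ≠ 0 := fun h => ha (by linear_combination hd - d.1 0 0 * h)
    rw [mem_tor]
    constructor
    · intro h
      have e1 := congrFun (congrFun h 0) 1
      have e2 := congrFun (congrFun h 1) 0
      simp [Matrix.mul_apply, Fin.sum_univ_two, h01, h10] at e1 e2
      exact ⟨(mul_eq_zero.mp (show X.1 0 1 * (d.1 1 1 - d.1 0 0) = 0 by
          linear_combination e1)).resolve_right hne,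
        (mul_eq_zero.mp (show X.1 1 0 * (d.1 1 1 - d.1 0 0) = 0 by
          linear_combination -e2)).resolve_right hne⟩
    · rintro ⟨e1, e2⟩
      ext i j
      fin_cases i <;> fin_cases j <;>
        simp [Matrix.mul_apply, Fin.sum_univ_two, h01, h10, e1, e2, mul_comm]

theorem not_isSquare_disc {t : F} (h2 : (2 : F) ≠ 0) (h : roots t 1 = 0) :
    ¬ IsSquare (t * t - 4) := by
  rintro ⟨w, hw⟩
  rw [roots, Nat.card_eq_zero] at h
  rcases h with h | h
  · exact h.false ⟨(-t + w) / 2, by field_simp; linear_combination -hw⟩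
  · exact h.false

/-- All elliptic traces occur in one non-split torus. -/
theorem conj_into_tor (h2 : (2 : F) ≠ 0) (hg0 : g.1.trace * g.1.trace ≠ 4)
    (hr : roots g.1.trace 1 = 0) {x : SL2} (hx : roots x.1.trace 1 = 0) (hxns : ¬ IsSc x.1) :
    ∃ h : SL2, h * x * h⁻¹ ∈ tor g := by
  obtain ⟨w, hw⟩ := isSquare_mul_of_not h2 (not_isSquare_disc h2 hx) (not_isSquare_disc h2 hr)
  have hne : g.1.trace * g.1.trace - 4 ≠ 0 := sub_ne_zero.mpr hg0
  obtain ⟨b, hb⟩ : ∃ b : F, b * b * (g.1.trace * g.1.trace - 4) = x.1.trace * x.1.trace - 4 :=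
    ⟨w / (g.1.trace * g.1.trace - 4), by
      rw [div_mul_div_comm, ← hw, div_mul_eq_mul_div, mul_assoc,
        mul_div_assoc, div_self (mul_ne_zero hne hne), mul_one]⟩
  obtain ⟨a, ha⟩ : ∃ a : F, 2 * a + b * g.1.trace = x.1.trace :=
    ⟨(x.1.trace - b * g.1.trace) / 2, by field_simp; ring⟩
  obtain ⟨y, hy⟩ : ∃ y : SL2, y.1 = comb g.1 a b := ⟨mkSL (comb g.1 a b) (by
    rw [det_comb, g.2, Qf]
    refine mul_left_cancel₀ (mul_ne_zero h2 h2) ?_
    linear_combination (2 * a + b * g.1.trace + x.1.trace) * ha - hb), rfl⟩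
  have hym : y ∈ tor g := mem_tor.mpr (by rw [hy]; exact comb_comm _ _ _)
  have hyt : y.1.trace = x.1.trace := by rw [hy, comb_trace]; exact ha
  have hx4 : x.1.trace * x.1.trace ≠ 4 := fun h =>
    not_isSquare_disc h2 hx (by rw [h, sub_self]; exact IsSquare.zero)
  obtain ⟨c, hc⟩ := isConj_iff.mp (isConj_of_trace hxns (not_isSc_of_trace (g := y) (by rwa [hyt]))
    hyt.symm (Or.inr hx4))
  exact ⟨c, by rw [hc]; exact hym⟩

end Cfsg.Agent.Small.SL2C
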