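import Mathlib
import Cfsg.Agent.Lib.Small.SL2.Torus

/-!
Centralisers and normalisers of the Sylow subgroups of `SL₂` over a finite field.
-/

set_option autoImplicit false
set_option linter.unusedSectionVars false

namespace Cfsg.Agent.Small.SL2C

open Matrix

variable {F : Type*} [Field F] [Fintype F]

local notation "M2" => Matrix (Fin 2) (Fin 2) F
local notation "SL2" => Matrix.SpecialLinearGroup (Fin 2) F

theorem q_mul_sq : Nat.card SL2 = Fintype.card F * ((Fintype.card F - 1) * (Fintype.card F + 1)) := by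
  obtain ⟨k, hk, hk'⟩ := q_facts (F := F)
  rw [card_SL2, hk', hk, show k + 2 - 1 = k + 1 from rfl]

/-- A Sylow subgroup for an odd cross-characteristic prime lies in a torus. -/
theorem sylow_torus (ℓ : ℕ) [Fact ℓ.Prime] (hℓ : ℓ ≠ 2)
    (hd : ℓ ∣ Fintype.card F - 1 ∨ ℓ ∣ Fintype.card F + 1) (P : Sylow ℓ SL2) :
    ∃ g : SL2, g.1.trace * g.1.trace ≠ 4 ∧ ℓ ∣ sol g.1.trace 1 ∧
      Subgroup.centralizer ((P : Subgroup SL2) : Set SL2) = tor g ∧
      Subgroup.normalizer ((P : Subgroup SL2) : Set SL2) = Subgroup.normalizer (tor g : Set SL2) := by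
  have hp : ℓ.Prime := Fact.out
  have hdG : ℓ ∣ Nat.card SL2 := by
    rw [q_mul_sq]
    rcases hd with h | h
    · exact dvd_mul_of_dvd_right (dvd_mul_of_dvd_left h _) _
    · exact dvd_mul_of_dvd_right (dvd_mul_of_dvd_right h _) _
  have : Nontrivial (P : Subgroup SL2) :=
    (Subgroup.nontrivial_iff_ne_bot _).mpr (P.ne_bot_of_dvd_card hdG)
  have := IsPGroup.center_nontrivial P.2
  obtain ⟨z, hz1⟩ := exists_ne (1 : Subgroup.center (P : Subgroup SL2))
  obtain ⟨g, hg⟩ : ∃ g : SL2, g = z.1.1 := ⟨_, rfl⟩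
  have hg1 : g ≠ 1 := fun h => hz1 (Subtype.ext (Subtype.ext (by rw [← hg, h]; rfl)))
  obtain ⟨k, hk⟩ := P.2 z.1
  have hgk : g ^ (ℓ ^ k) = 1 := by rw [hg]; exact congrArg Subtype.val hk
  have hodd : ∀ m : ℕ, g ^ m = 1 → ℓ ∣ m := by
    intro m hm
    obtain ⟨j, -, hj⟩ := (Nat.dvd_prime_pow hp).mp (orderOf_dvd_of_pow_eq_one hgk)
    have hj0 : j ≠ 0 := fun h => hg1 (orderOf_eq_one_iff.mp (by rw [hj, h, pow_zero]))
    exact ((dvd_pow_self ℓ hj0).trans hj.symm.dvd).trans (orderOf_dvd_of_pow_eq_one hm)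
  have hns : ¬ IsSc g.1 := fun h => hℓ ((Nat.prime_dvd_prime_iff_eq hp Nat.prime_two).mp
    (hodd 2 (by
      apply Subtype.ext
      rcases isSc_SL h with e | e <;> simp [pow_two, val_mul', e])))
  have ht : g.1.trace * g.1.trace ≠ 4 := by
    intro ht
    obtain ⟨p, hp'⟩ := CharP.exists F
    have : Fact p.Prime := ⟨CharP.char_is_prime F p⟩
    obtain ⟨n, -, hq⟩ := FiniteField.card F p
    obtain ⟨x, -, hc⟩ := exists_pr_uS hns ht
    obtain ⟨c, hc⟩ := isConj_iff.mp hc
    have h1 := pr_uS_pow p x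
    rw [← hc, conj_pow, conj_eq_one_iff, ← map_pow, pr_eq_one_iff] at h1
    have h2 : g ^ (p * 2) = 1 := by
      rw [pow_mul]
      apply Subtype.ext
      rcases isSc_SL h1 with e | e <;> simp [pow_two, val_mul', -Matrix.SpecialLinearGroup.coe_pow, e]
    have h3 := (hp.dvd_mul.mp (hodd _ h2)).resolve_right fun h =>
      hℓ ((Nat.prime_dvd_prime_iff_eq hp Nat.prime_two).mp h)
    have h4 : ℓ ∣ Fintype.card F := hq ▸ h3.trans (dvd_pow_self p n.ne_zero)
    have := Fintype.one_lt_card (α := F)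
    rcases hd with h | h
    · have h5 := Nat.dvd_sub h4 h
      rw [show Fintype.card F - (Fintype.card F - 1) = 1 by omega] at h5
      exact hp.one_lt.ne' (Nat.dvd_one.mp h5)
    · have h5 := Nat.dvd_sub h h4
      rw [show Fintype.card F + 1 - Fintype.card F = 1 by omega] at h5
      exact hp.one_lt.ne' (Nat.dvd_one.mp h5)
  have hgP : g ∈ (P : Subgroup SL2) := hg ▸ z.1.2
  have hPle : (P : Subgroup SL2) ≤ tor g := fun a ha => by
    rw [Subgroup.mem_centralizer_singleton_iff, hg]
    exact congrArg Subtype.val (Subgroup.mem_center_iff.mp z.2 ⟨a, ha⟩)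
  have hcent : Subgroup.centralizer ((P : Subgroup SL2) : Set SL2) = tor g :=
    le_antisymm (Subgroup.centralizer_le (Set.singleton_subset_iff.mpr hgP)) fun h hh =>
      Subgroup.mem_centralizer_iff.mpr fun a ha => tor_comm hns a (hPle ha) h hh
  refine ⟨g, ht, hodd _ (pow_sol g hns), hcent, le_antisymm (fun s hs => ?_) fun s hs => ?_⟩
  · have key : ∀ s' ∈ Subgroup.normalizer ((P : Subgroup SL2) : Set SL2), ∀ h ∈ tor g,
        s' * h * s'⁻¹ ∈ tor g := by
      intro s' hs' h hh
      rw [← hcent] at hh ⊢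
      refine Subgroup.mem_centralizer_iff.mpr fun a ha => ?_
      have h1 := Subgroup.mem_centralizer_iff.mp hh (s'⁻¹ * a * s')
        ((Subgroup.mem_normalizer_iff''.mp hs' a).mp ha)
      calc a * (s' * h * s'⁻¹) = s' * ((s'⁻¹ * a * s') * h) * s'⁻¹ := by group
        _ = s' * (h * (s'⁻¹ * a * s')) * s'⁻¹ := by rw [h1]
        _ = s' * h * s'⁻¹ * a := by group
    rw [Subgroup.mem_normalizer_iff]
    intro h
    refine ⟨key s hs h, fun hh => ?_⟩
    have := key s⁻¹ (inv_mem hs) _ hh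
    simpa [mul_assoc] using this
  · refine Subgroup.mem_normalizer_fintype fun a ha => ?_
    rcases normalizer_cases ht hs with h | h
    · rw [tor_comm hns s h a (hPle ha), mul_inv_cancel_right]; exact ha
    · rw [inverts hns h (hPle ha), mul_inv_cancel_right]; exact inv_mem ha

theorem sylow_odd (ℓ : ℕ) [Fact ℓ.Prime] (hℓ : ℓ ≠ 2) (P : Sylow ℓ SL2) :
    (ℓ ∣ Fintype.card F - 1 →
      Nat.card (Subgroup.centralizer ((P : Subgroup SL2) : Set SL2)) = Fintype.card F - 1 ∧
      IsCyclic (Subgroup.centralizer ((P : Subgroup SL2) : Set SL2)) ∧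
      Nat.card (Subgroup.normalizer ((P : Subgroup SL2) : Set SL2)) = 2 * (Fintype.card F - 1)) ∧
    (ℓ ∣ Fintype.card F + 1 →
      Nat.card (Subgroup.centralizer ((P : Subgroup SL2) : Set SL2)) = Fintype.card F + 1 ∧
      IsCyclic (Subgroup.centralizer ((P : Subgroup SL2) : Set SL2)) ∧
      Nat.card (Subgroup.normalizer ((P : Subgroup SL2) : Set SL2)) = 2 * (Fintype.card F + 1)) := by
  have hp : ℓ.Prime := Fact.out
  have := Fintype.one_lt_card (α := F)
  have two : ℓ ∣ Fintype.card F - 1 → ℓ ∣ Fintype.card F + 1 → False := fun h h' => by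
    have h5 := Nat.dvd_sub h' h
    rw [show Fintype.card F + 1 - (Fintype.card F - 1) = 2 by omega] at h5
    exact hℓ ((Nat.prime_dvd_prime_iff_eq hp Nat.prime_two).mp h5)
  constructor <;> intro hd
  · obtain ⟨g, ht, hsol, hC, hN⟩ := sylow_torus ℓ hℓ (Or.inl hd) P
    rcases sol_eq ht with ⟨-, hs⟩ | ⟨-, hs⟩
    · rw [hC, hN, card_centralizer g (not_isSc_of_trace ht), (card_normalizer ht).1, hs]
      exact ⟨rfl, isCyclic_centralizer ht, rfl⟩
    · exact (two hd (hs ▸ hsol)).elim
  · obtain ⟨g, ht, hsol, hC, hN⟩ := sylow_torus ℓ hℓ (Or.inr hd) P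
    rcases sol_eq ht with ⟨-, hs⟩ | ⟨-, hs⟩
    · exact (two (hs ▸ hsol) hd).elim
    · rw [hC, hN, card_centralizer g (not_isSc_of_trace ht), (card_normalizer ht).1, hs]
      exact ⟨rfl, isCyclic_centralizer ht, rfl⟩

/-! ### The prime two -/

omit [Fintype F] in
theorem norm_of_trace_zero {M : M2} (h : M.trace = 0) : M * M = -(M.det • (1 : M2)) := by
  rw [Matrix.trace_fin_two] at h
  have hd : M 1 1 = -M 0 0 := eq_neg_of_add_eq_zero_right h
  ext i j
  fin_cases i <;> fin_cases j <;>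
    simp [Matrix.mul_apply, Fin.sum_univ_two, Matrix.det_fin_two, hd] <;> ring

/-- The element of order three permuting a quaternion subgroup. -/
theorem exists_triality (h2 : (2 : F) ≠ 0) {x s : SL2} (hx : x.1 * x.1 = -1) (hs : s.1 * s.1 = -1)
    (hxs : s * x = x⁻¹ * s) :
    ∃ w : SL2, orderOf w = 3 ∧ w * x * w⁻¹ = x * s ∧ w * s * w⁻¹ = x := by
  have hxi : x⁻¹.1 = -x.1 := by
    have h' : ∀ y : SL2, y.1 = -x.1 → x⁻¹ = y := fun y hy => inv_eq_of_mul_eq_one_right (Subtype.ext
      (by rw [val_mul', hy, Matrix.mul_neg, hx, neg_neg, Matrix.SpecialLinearGroup.coe_one]))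
    obtain ⟨y, hy⟩ : ∃ y : SL2, y.1 = -x.1 :=
      ⟨mkSL (-x.1) (by rw [Matrix.det_neg, x.2, Fintype.card_fin]; norm_num), rfl⟩
    rw [h' y hy, hy]
  have hsx : s.1 * x.1 = -(x.1 * s.1) := by
    have := congrArg (fun Y : SL2 => Y.1) hxs
    simp only [val_mul', hxi, Matrix.neg_mul] at this
    exact this
  obtain ⟨X, hX⟩ : ∃ X, X = x.1 := ⟨_, rfl⟩
  obtain ⟨S, hS⟩ : ∃ S, S = s.1 := ⟨_, rfl⟩
  rw [← hX] at hx
  rw [← hS] at hs
  rw [← hX, ← hS] at hsx
  obtain ⟨T, hT⟩ : ∃ T, T = X * S := ⟨_, rfl⟩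
  have hXT : X * T = -S := by rw [hT, ← Matrix.mul_assoc, hx, neg_one_mul]
  have hTX : T * X = S := by
    rw [hT, Matrix.mul_assoc, hsx, Matrix.mul_neg, ← Matrix.mul_assoc, hx, neg_one_mul, neg_neg]
  have hST : S * T = X := by
    rw [hT, ← Matrix.mul_assoc, hsx, Matrix.neg_mul, Matrix.mul_assoc, hs, Matrix.mul_neg,
      Matrix.mul_one, neg_neg]
  have hTS : T * S = -X := by rw [hT, Matrix.mul_assoc, hs, Matrix.mul_neg, Matrix.mul_one]
  have hTT : T * T = -1 := by
    nth_rewrite 2 [hT]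
    rw [← Matrix.mul_assoc, hTX, hs]
  have htr : ∀ M : M2, M * M = -1 → M.det = 1 → M.trace = 0 := by
    intro M hM hd
    obtain ⟨m, hm⟩ : ∃ m : SL2, m.1 = M := ⟨mkSL M hd, rfl⟩
    subst hm
    have h1 := sq_eq m
    rw [hM, eq_comm, sub_eq_iff_eq_add, neg_add_cancel] at h1
    refine (smul_eq_zero.mp h1).resolve_right fun h0 => one_ne_zero (α := F) ?_
    rw [← hd, h0, Matrix.det_zero]
  have tX : X.trace = 0 := htr X hx (by rw [hX]; exact x.2)
  have tS : S.trace = 0 := htr S hs (by rw [hS]; exact s.2)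
  have tT : T.trace = 0 := htr T hTT (by rw [hT, Matrix.det_mul, hX, hS, x.2, s.2, mul_one])
  obtain ⟨M, hM⟩ : ∃ M, M = X + S + T := ⟨_, rfl⟩
  have tM : M.trace = 0 := by rw [hM, Matrix.trace_add, Matrix.trace_add, tX, tS, tT]; simp
  have hMM : M * M = -((3 : F) • (1 : M2)) := by
    rw [hM]
    simp only [Matrix.add_mul, Matrix.mul_add, hx, hs, hTT, hsx, hXT, hTX, hST, hTS, ← hT]
    module
  have dM : M.det = 3 := by
    have h := congrFun (congrFun ((norm_of_trace_zero tM).symm.trans hMM) 0) 0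
    simpa using h
  have hdet : ((2 : F)⁻¹ • (M - 1)).det = 1 := by
    rw [Matrix.det_smul, Fintype.card_fin, Matrix.det_fin_two]
    rw [Matrix.det_fin_two] at dM
    rw [Matrix.trace_fin_two] at tM
    simp only [Matrix.sub_apply, Matrix.one_apply_eq, Matrix.one_apply_ne (show (0 : Fin 2) ≠ 1 by decide),
      Matrix.one_apply_ne (show (1 : Fin 2) ≠ 0 by decide), sub_zero]
    field_simp
    linear_combination dM - tM
  obtain ⟨w, hw⟩ : ∃ w : SL2, w.1 = (2 : F)⁻¹ • (M - 1) := ⟨mkSL _ hdet, rfl⟩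
  have tw : w.1.trace = -1 := by
    rw [hw, Matrix.trace_smul, Matrix.trace_sub, tM, Matrix.trace_one, Fintype.card_fin,
      Nat.cast_ofNat, zero_sub, smul_eq_mul, mul_neg, inv_mul_cancel₀ h2]
  have ww : w.1 * w.1 = -w.1 - 1 := by rw [sq_eq, tw, neg_one_smul]
  have hw3 : orderOf w = 3 := by
    have : Fact (Nat.Prime 3) := ⟨Nat.prime_three⟩
    refine orderOf_eq_prime (Subtype.ext ?_) fun h => ?_
    · rw [pow_succ, pow_two, val_mul', val_mul', ww, Matrix.sub_mul, Matrix.neg_mul, ww,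
        Matrix.one_mul, Matrix.SpecialLinearGroup.coe_one]
      abel
    · rw [h, Matrix.SpecialLinearGroup.coe_one, Matrix.trace_one, Fintype.card_fin,
        Nat.cast_ofNat] at tw
      -- `2 = -1` gives characteristic three and `M = 3`
      have h3 : (3 : F) = 0 := by linear_combination tw
      rw [h, Matrix.SpecialLinearGroup.coe_one] at hw
      have e : M = 0 := by
        have := congrArg (fun Y : M2 => (2 : F) • Y) hw
        simp only [smul_smul, mul_inv_cancel₀ h2, one_smul] at this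
        have h3' : (3 : F) • (1 : M2) = 0 := by rw [h3, zero_smul]
        linear_combination (norm := module) -this + h3'
      have hX0 : X * M = 0 := by rw [e, Matrix.mul_zero]
      have hM0 : M * X = 0 := by rw [e, Matrix.zero_mul]
      rw [hM] at hX0 hM0
      simp only [Matrix.mul_add, Matrix.add_mul, hx, hsx, hXT, hTX, ← hT] at hX0 hM0
      have hd0 : (2 : F) • S - (2 : F) • T = 0 := by linear_combination (norm := module) hM0 - hX0
      rw [← smul_sub, smul_eq_zero] at hd0
      have hST' := sub_eq_zero.mp (hd0.resolve_left h2)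
      rw [← hST'] at hST
      rw [hs] at hST
      have := congrArg Matrix.trace hST
      rw [tX, Matrix.trace_neg, Matrix.trace_one, Fintype.card_fin, Nat.cast_ofNat] at this
      exact h2 (by linear_combination -this)
  refine ⟨w, hw3, mul_inv_eq_iff_eq_mul.mpr (Subtype.ext ?_), mul_inv_eq_iff_eq_mul.mpr (Subtype.ext ?_)⟩
  · rw [val_mul', val_mul', val_mul', hw, ← hX, ← hS, ← hT, Matrix.smul_mul, Matrix.mul_smul, hM]
    simp only [Matrix.add_mul, Matrix.mul_add, Matrix.sub_mul, Matrix.mul_sub, Matrix.one_mul,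
      Matrix.mul_one, hx, hsx, hTX, hTS, hTT, ← hT]
    module
  · rw [val_mul', val_mul', hw, ← hX, ← hS, Matrix.smul_mul, Matrix.mul_smul, hM]
    simp only [Matrix.add_mul, Matrix.mul_add, Matrix.sub_mul, Matrix.mul_sub, Matrix.one_mul,
      Matrix.mul_one, hx, hs, hXT, hTS, ← hT]
    module

theorem exists_two_torus (h2 : (2 : F) ≠ 0) :
    ∃ g : SL2, g.1.trace * g.1.trace ≠ 4 ∧ 4 ∣ sol g.1.trace 1 ∧
      ∃ m, Nat.card SL2 = 2 * sol g.1.trace 1 * m ∧ Odd m ∧
        ((8 ∣ sol g.1.trace 1) ↔ (Fintype.card F % 8 = 1 ∨ Fintype.card F % 8 = 7)) := by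
  have hodd := not_two_dvd_iff.mpr h2
  have := Fintype.one_lt_card (α := F)
  have hq : Odd (Fintype.card F) := Nat.not_even_iff_odd.mp fun h => hodd (even_iff_two_dvd.mp h)
  rcases (show Fintype.card F % 4 = 1 ∨ Fintype.card F % 4 = 3 by omega) with h4 | h4
  · obtain ⟨a, ha, ha2⟩ := exists_sq_ne_one (F := F) (by omega)
    obtain ⟨ht, hr⟩ := exists_split ha ha2
    obtain ⟨g, hgt, -⟩ := comp_elt (a + a⁻¹)
    rw [← hgt] at ht hr
    have hs : sol g.1.trace 1 = Fintype.card F - 1 := by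
      rcases sol_eq ht with ⟨-, h⟩ | ⟨h', -⟩
      · exact h
      · omega
    refine ⟨g, ht, by omega, Fintype.card F * ((Fintype.card F + 1) / 2), ?_,
      hq.mul (Nat.odd_iff.mpr (by omega)), by omega⟩
    obtain ⟨j, hj⟩ : 2 ∣ Fintype.card F + 1 := by omega
    rw [q_mul_sq, hs, hj, Nat.mul_div_cancel_left _ two_pos]
    ring
  · obtain ⟨t, ht, hr⟩ := exists_roots_zero (F := F)
    obtain ⟨g, hgt, -⟩ := comp_elt t
    rw [← hgt] at ht hr
    have hs : sol g.1.trace 1 = Fintype.card F + 1 := by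
      rcases sol_eq ht with ⟨h', -⟩ | ⟨-, h⟩
      · omega
      · exact h
    refine ⟨g, ht, by omega, Fintype.card F * ((Fintype.card F - 1) / 2), ?_,
      hq.mul (Nat.odd_iff.mpr (by omega)), by omega⟩
    obtain ⟨j, hj⟩ : 2 ∣ Fintype.card F - 1 := by omega
    rw [q_mul_sq, hs, hj, Nat.mul_div_cancel_left _ two_pos]
    ring

theorem conj_mem_tor {g a c : SL2} (h : c⁻¹ * a * c ∈ tor g) : a ∈ tor (c * g * c⁻¹) := by
  rw [Subgroup.mem_centralizer_singleton_iff] at h ⊢
  calc a * (c * g * c⁻¹) = c * ((c⁻¹ * a * c) * g) * c⁻¹ := by group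
    _ = c * (g * (c⁻¹ * a * c)) * c⁻¹ := by rw [h]
    _ = c * g * c⁻¹ * a := by group

/-- A Sylow `2`-subgroup and its torus. -/
theorem sylow_two_setup (h2 : (2 : F) ≠ 0) (S : Sylow 2 SL2) :
    ∃ (g : SL2) (k : ℕ), g.1.trace * g.1.trace ≠ 4 ∧ 2 ≤ k ∧
      (S : Subgroup SL2) ≤ Subgroup.normalizer (tor g : Set SL2) ∧
      Nat.card S = 2 ^ (k + 1) ∧
      (∃ x : SL2, x ∈ (S : Subgroup SL2) ∧ x ∈ tor g ∧ orderOf x = 2 ^ k) ∧
      (∃ s : SL2, s ∈ (S : Subgroup SL2) ∧ s ∉ tor g) ∧
      (3 ≤ k ↔ (Fintype.card F % 8 = 1 ∨ Fintype.card F % 8 = 7)) := by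
  obtain ⟨g₀, ht₀, h4, m, hcard, hm, h8⟩ := exists_two_torus (F := F) h2
  obtain ⟨n, hn⟩ : ∃ n, n = sol g₀.1.trace 1 := ⟨_, rfl⟩
  rw [← hn] at h4 hcard h8
  have hn0 : n ≠ 0 := by
    rintro rfl
    simp [q_mul_sq] at hcard
    have := Fintype.one_lt_card (α := F)
    omega
  obtain ⟨k, n', hn', hkn⟩ := Nat.exists_eq_pow_mul_and_not_dvd hn0 2 (by norm_num)
  have hk2 : 2 ≤ k := by
    by_contra hk
    interval_cases k <;> omega
  have hSk : Nat.card S = 2 ^ (k + 1) := by
    obtain ⟨j, hj⟩ := IsPGroup.iff_card.mp S.2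
    rw [hj]
    refine congrArg (2 ^ ·) (le_antisymm ?_ ?_)
    · have h1 : 2 ^ j ∣ 2 ^ (k + 1) * (n' * m) := by
        rw [← hj, pow_succ, show 2 ^ k * 2 * (n' * m) = 2 * (2 ^ k * n') * m by ring, ← hkn, ← hcard]
        exact Subgroup.card_subgroup_dvd_card _
      have hco : (2 ^ j).Coprime (n' * m) := (Nat.coprime_two_left.mpr
        ((Nat.not_even_iff_odd.mp fun h => hn' (even_iff_two_dvd.mp h)).mul hm)).pow_left j
      exact (Nat.pow_dvd_pow_iff_le_right (by norm_num)).mp (hco.dvd_of_dvd_mul_right h1)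
    · refine (Nat.pow_dvd_pow_iff_le_right (x := 2) (by norm_num)).mp ?_
      rw [← hj]
      refine S.pow_dvd_card_of_pow_dvd_card ⟨n' * m, ?_⟩
      rw [hcard, hkn, pow_succ]; ring
  obtain ⟨N, hN⟩ : ∃ N, N = Subgroup.normalizer (tor g₀ : Set SL2) := ⟨_, rfl⟩
  have hNc : Nat.card N = 2 ^ (k + 1) * n' := by
    rw [hN, (card_normalizer ht₀).1, ← hn, hkn, pow_succ]; ring
  obtain ⟨T, hT⟩ := IsPGroup.exists_le_sylow ((Classical.arbitrary (Sylow 2 N)).2.map N.subtype)
  have hTle : (T : Subgroup SL2) ≤ N := by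
    have h1 := (Classical.arbitrary (Sylow 2 N)).pow_dvd_card_of_pow_dvd_card (n := k + 1)
      (hNc ▸ dvd_mul_right _ _)
    rw [← Subgroup.card_map_of_injective (f := N.subtype) N.subtype_injective] at h1
    have h2' : Nat.card T = 2 ^ (k + 1) := by
      rw [Nat.card_congr (Sylow.equiv T S).toEquiv, hSk]
    rw [← Subgroup.eq_of_le_of_card_ge hT (h2' ▸ Nat.le_of_dvd Nat.card_pos h1)]
    exact Subgroup.map_subtype_le _
  obtain ⟨c, hc⟩ := MulAction.exists_smul_eq SL2 T S
  obtain ⟨g, hg⟩ : ∃ g, g = c * g₀ * c⁻¹ := ⟨_, rfl⟩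
  have htr : g.1.trace = g₀.1.trace := (trace_conj (isConj_iff.mpr ⟨c, hg.symm⟩)).symm
  have ht : g.1.trace * g.1.trace ≠ 4 := by rwa [htr]
  have hS : (S : Subgroup SL2) ≤ Subgroup.normalizer (tor g : Set SL2) := by
    intro a ha
    have ha' : c⁻¹ * a * c ∈ (T : Subgroup SL2) := by
      rw [← hc, Sylow.coe_subgroup_smul, Subgroup.mem_pointwise_smul_iff_inv_smul_mem] at ha
      simpa [MulAut.smul_def, MulAut.conj_inv_apply] using ha
    rcases normalizer_cases ht₀ (hN ▸ hTle ha') with h | h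
    · exact Subgroup.le_normalizer (hg ▸ conj_mem_tor h)
    · refine inverter_mem_normalizer (not_isSc_of_trace ht) ?_
      rw [hg]
      calc a * (c * g₀ * c⁻¹) = c * ((c⁻¹ * a * c) * g₀) * c⁻¹ := by group
        _ = c * (g₀⁻¹ * (c⁻¹ * a * c)) * c⁻¹ := by rw [h]
        _ = (c * g₀ * c⁻¹)⁻¹ * a := by group
  have hTn : Nat.card (tor g) = 2 ^ k * n' := by
    rw [card_centralizer g (not_isSc_of_trace ht), htr, ← hn, hkn]
  have hs : ∃ s : SL2, s ∈ (S : Subgroup SL2) ∧ s ∉ tor g := by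
    by_contra! hall
    have h1 : 2 ^ k * 2 ∣ 2 ^ k * n' := by
      rw [← pow_succ, ← hSk, ← hTn]
      exact Subgroup.card_dvd_of_le hall
    exact hn' (Nat.dvd_of_mul_dvd_mul_left (by positivity) h1)
  obtain ⟨s, hsS, hst⟩ := hs
  have hA : ((tor g).subgroupOf (S : Subgroup SL2)).index = 2 := by
    rw [Subgroup.index_eq_two_iff]
    refine ⟨⟨s, hsS⟩, fun b => ?_⟩
    simp only [Subgroup.mem_subgroupOf, Subgroup.coe_mul]
    by_cases hb : b.1 ∈ tor g
    · exact Or.inr ⟨hb, fun h => hst (by simpa using mul_mem (inv_mem hb) h)⟩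
    · refine Or.inl ⟨?_, hb⟩
      have h1 := (normalizer_cases ht (hS b.2)).resolve_left hb
      have h2' := (normalizer_cases ht (hS hsS)).resolve_left hst
      have h3 : b.1 * g⁻¹ = g * b.1 := by
        have := inverts (not_isSc_of_trace ht) h1 (inv_mem (self_mem_tor g))
        rwa [inv_inv] at this
      rw [Subgroup.mem_centralizer_singleton_iff, mul_assoc, h2', ← mul_assoc, h3, mul_assoc]
  have := isCyclic_centralizer ht
  have : IsCyclic ((tor g).subgroupOf (S : Subgroup SL2)) :=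
    isCyclic_of_injective
      ({ toFun := fun a => ⟨a.1.1, a.2⟩, map_one' := rfl, map_mul' := fun _ _ => rfl } :
        (tor g).subgroupOf (S : Subgroup SL2) →* tor g)
      fun a b h => Subtype.ext (Subtype.ext (congrArg (fun u : tor g => u.1) h))
  obtain ⟨x, hx⟩ := IsCyclic.exists_generator (α := (tor g).subgroupOf (S : Subgroup SL2))
  have hxo : orderOf (x.1.1 : SL2) = 2 ^ k := by
    have hc' := ((tor g).subgroupOf (S : Subgroup SL2)).card_mul_index
    rw [hA, show Nat.card (S : Subgroup SL2) = Nat.card S from rfl, hSk, pow_succ] at hc'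
    rw [Subgroup.orderOf_coe, Subgroup.orderOf_coe, orderOf_eq_card_of_forall_mem_zpowers hx]
    exact Nat.eq_of_mul_eq_mul_right two_pos hc'
  refine ⟨g, k, ht, hk2, hS, hSk, ⟨x.1.1, x.1.2, x.2, hxo⟩, ⟨s, hsS, hst⟩, ?_⟩
  rw [← h8, hkn]
  constructor
  · intro h
    exact dvd_mul_of_dvd_left (pow_dvd_pow 2 h) _
  · intro h
    by_contra hk
    obtain rfl : k = 2 := by omega
    omega

/-- The Sylow `2`-subgroups. -/
theorem sylow_two (h2 : (2 : F) ≠ 0) (S : Sylow 2 SL2) :
    Subgroup.centralizer ((S : Subgroup SL2) : Set SL2) = Subgroup.center SL2 ∧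
    ((Fintype.card F % 8 = 1 ∨ Fintype.card F % 8 = 7) →
      Subgroup.normalizer ((S : Subgroup SL2) : Set SL2) = (S : Subgroup SL2)) ∧
    ((Fintype.card F % 8 = 3 ∨ Fintype.card F % 8 = 5) →
      Nat.card (Subgroup.normalizer ((S : Subgroup SL2) : Set SL2)) = 3 * Nat.card S) := by
  classical
  obtain ⟨g, k, ht, hk, hS, hSk, ⟨x, hxS, hxt, hxo⟩, ⟨s, hsS, hst⟩, h8⟩ := sylow_two_setup h2 S
  have hg := not_isSc_of_trace ht
  have hsq_sc : ∀ y : SL2, IsSc y.1 → orderOf y ∣ 2 := fun y hy => orderOf_dvd_of_pow_eq_one (by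
    apply Subtype.ext
    rcases isSc_SL hy with e | e <;> simp [pow_two, val_mul', e])
  have hxns : ¬ IsSc x.1 := fun h => by
    have := Nat.le_of_dvd two_pos (hsq_sc x h)
    rw [hxo] at this
    have : 2 ^ 2 ≤ 2 ^ k := Nat.pow_le_pow_right two_pos hk
    omega
  have htx := (tor_eq ht hxt hxns).1
  have hsinv := (normalizer_cases ht (hS hsS)).resolve_left hst
  have hcommute : ∀ z ∈ tor g, s * z = z * s → IsSc z.1 := by
    intro z hz h
    rw [inverts hg hsinv hz] at h
    have e : z * z = 1 := by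
      nth_rewrite 1 [← mul_right_cancel h]
      rw [inv_mul_cancel]
    rcases sq_one_cases h2 e with e | e
    · exact ⟨1, by rw [e, one_smul]⟩
    · exact ⟨-1, by rw [e, neg_one_smul]⟩
  have hcent : ∀ z : SL2, x * z = z * x → s * z = z * s → IsSc z.1 := fun z h1 h2' =>
    hcommute z (htx ▸ Subgroup.mem_centralizer_singleton_iff.mpr h1.symm) h2'
  refine ⟨le_antisymm (fun z hz => mem_center_iff.mpr ?_) (Subgroup.center_le_centralizer _),
    fun hq => ?_, fun hq => ?_⟩
  · exact hcent z (Subgroup.mem_centralizer_iff.mp hz x hxS) (Subgroup.mem_centralizer_iff.mp hz s hsS)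
  · have hk3 := h8.mpr hq
    refine le_antisymm (fun z hz => ?_) Subgroup.le_normalizer
    have hx' : z * x * z⁻¹ ∈ tor g := by
      by_contra h
      have hm := (Subgroup.mem_normalizer_iff.mp hz x).mp hxS
      have e := sq_of_inverter ht ((normalizer_cases ht (hS hm)).resolve_left h)
      have e4 : (z * x * z⁻¹) ^ 4 = 1 := by
        apply Subtype.ext
        rw [show (4 : ℕ) = 2 * 2 from rfl, pow_mul, pow_two, pow_two, val_mul', val_mul', e]
        simp
      rw [conj_pow, conj_eq_one_iff] at e4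
      have := Nat.le_of_dvd (by norm_num) (orderOf_dvd_of_pow_eq_one e4)
      rw [hxo] at this
      have : 2 ^ 3 ≤ 2 ^ k := Nat.pow_le_pow_right two_pos hk3
      omega
    have hns' : ¬ IsSc (z * x * z⁻¹).1 := fun h =>
      hxns (isSc_conj (isConj_iff.mpr ⟨z, rfl⟩).symm h ▸ h)
    have htz : tor (z * x * z⁻¹) = tor x := by rw [(tor_eq ht hx' hns').1, htx]
    have hzN : z ∈ Subgroup.normalizer (tor g : Set SL2) := by
      rw [← htx]
      refine Subgroup.mem_normalizer_fintype fun h hh => ?_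
      show z * h * z⁻¹ ∈ tor x
      rw [← htz, Subgroup.mem_centralizer_singleton_iff]
      have hc := Subgroup.mem_centralizer_singleton_iff.mp hh
      calc z * h * z⁻¹ * (z * x * z⁻¹) = z * (h * x) * z⁻¹ := by group
        _ = z * (x * h) * z⁻¹ := by rw [hc]
        _ = z * x * z⁻¹ * (z * h * z⁻¹) := by group
    have key : ∀ y ∈ tor g, y ∈ Subgroup.normalizer ((S : Subgroup SL2) : Set SL2) →
        y ∈ (S : Subgroup SL2) := by
      intro y hy hyN
      have h1 : y * s * y⁻¹ * s⁻¹ ∈ (S : Subgroup SL2) :=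
        mul_mem ((Subgroup.mem_normalizer_iff.mp hyN s).mp hsS) (inv_mem hsS)
      have h2' : y * s * y⁻¹ * s⁻¹ = y * y := by
        rw [mul_assoc y s, inverts hg hsinv (inv_mem hy), inv_inv]; group
      rw [h2'] at h1
      obtain ⟨j, hj⟩ := S.2 ⟨y * y, h1⟩
      have hpg : IsPGroup 2 (Subgroup.zpowers y) := by
        refine IsPGroup.iff_card.mpr ?_
        rw [Nat.card_zpowers]
        have hy2 : y ^ (2 ^ (j + 1)) = 1 := by
          rw [pow_succ', pow_mul, pow_two]
          exact congrArg Subtype.val hj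
        obtain ⟨i, -, hi⟩ := (Nat.dvd_prime_pow Nat.prime_two).mp (orderOf_dvd_of_pow_eq_one hy2)
        exact ⟨i, hi⟩
      have := hpg.inf_normalizer_sylow S
      exact ((SetLike.ext_iff.mp this y).mp (Subgroup.mem_inf.mpr ⟨Subgroup.mem_zpowers y, hyN⟩)).2
    by_cases hzt : z ∈ tor g
    · exact key z hzt hz
    · have h1 := (normalizer_cases ht hzN).resolve_left hzt
      have hzs : z * s ∈ tor g := by
        have h3 : z * g⁻¹ = g * z := by
          have := inverts hg h1 (inv_mem (self_mem_tor g))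
          rwa [inv_inv] at this
        rw [Subgroup.mem_centralizer_singleton_iff, mul_assoc, hsinv, ← mul_assoc, h3, mul_assoc]
      have h3 := key (z * s) hzs (mul_mem hz (Subgroup.le_normalizer hsS))
      simpa using mul_mem h3 (inv_mem hsS)
  · obtain rfl : k = 2 := by
      by_contra h
      have := h8.mp (by omega)
      omega
    have hs2 := sq_of_inverter ht hsinv
    have hx2 : x.1 * x.1 = -1 := by
      have h4 : (x * x) * (x * x) = 1 := by
        rw [← pow_two, ← pow_two, ← pow_mul, show 2 * 2 = 2 ^ 2 from rfl, ← hxo, pow_orderOf_eq_one]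
      rcases sq_one_cases h2 h4 with e | e
      · exfalso
        have h' : x * x = 1 := Subtype.ext e
        rw [← pow_two] at h'
        have := Nat.le_of_dvd two_pos (orderOf_dvd_of_pow_eq_one h')
        omega
      · exact e
    obtain ⟨w, hw3, hwx, hws⟩ := exists_triality h2 hx2 hs2 (inverts hg hsinv hxt)
    -- the elements of `S`
    obtain ⟨H, hH⟩ : ∃ H, H = Subgroup.closure ({x, s} : Set SL2) := ⟨_, rfl⟩
    have hHS : H = (S : Subgroup SL2) := by
      refine Subgroup.eq_of_le_of_card_ge ?_ ?_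
      · rw [hH, Subgroup.closure_le]
        rintro y (rfl | rfl) <;> assumption
      · have hlt : Subgroup.zpowers x < H := by
          refine lt_of_le_of_ne (by rw [hH, Subgroup.zpowers_le]; exact Subgroup.subset_closure (Or.inl rfl))
            fun h => hst ?_
          have : s ∈ Subgroup.zpowers x := by rw [h, hH]; exact Subgroup.subset_closure (Or.inr rfl)
          exact (Subgroup.zpowers_le.mpr hxt) this
        obtain ⟨d, hd⟩ := Subgroup.card_dvd_of_le hlt.le
        have hd1 : d ≠ 1 := fun h => hlt.ne (Subgroup.eq_of_le_of_card_ge hlt.le (by rw [hd, h, mul_one]))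
        have hd0 : d ≠ 0 := fun h => by
          rw [h, mul_zero] at hd; exact (Nat.card_pos).ne' hd
        rw [Nat.card_zpowers, hxo] at hd
        show Nat.card (S : Subgroup SL2) ≤ Nat.card H
        rw [show Nat.card (S : Subgroup SL2) = Nat.card S from rfl, hSk, hd]
        have : 2 ≤ d := by omega
        calc 2 ^ (2 + 1) = 2 ^ 2 * 2 := rfl
          _ ≤ 2 ^ 2 * d := Nat.mul_le_mul_left _ this
    have hwN : w ∈ Subgroup.normalizer ((S : Subgroup SL2) : Set SL2) := by
      refine Subgroup.mem_normalizer_fintype fun h hh => ?_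
      have hh' : h ∈ H := hHS ▸ hh
      rw [hH] at hh'
      show w * h * w⁻¹ ∈ (S : Subgroup SL2)
      induction hh' using Subgroup.closure_induction with
      | mem y hy =>
        rcases hy with rfl | rfl
        · rw [hwx]; exact mul_mem hxS hsS
        · rw [hws]; exact hxS
      | one => simp
      | mul a b ha hb iha ihb =>
        rw [show w * (a * b) * w⁻¹ = (w * a * w⁻¹) * (w * b * w⁻¹) by group]
        exact mul_mem (iha (hHS ▸ hH ▸ ha)) (ihb (hHS ▸ hH ▸ hb))
      | inv a ha iha =>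
        rw [show w * a⁻¹ * w⁻¹ = (w * a * w⁻¹)⁻¹ by group]
        exact inv_mem (iha (hHS ▸ hH ▸ ha))
    obtain ⟨N, hN⟩ : ∃ N, N = Subgroup.normalizer ((S : Subgroup SL2) : Set SL2) := ⟨_, rfl⟩
    rw [← hN] at hwN ⊢
    have h3N : 3 ∣ Nat.card N := hw3 ▸ Subgroup.orderOf_dvd_natCard N hwN
    have hSN : (S : Subgroup SL2) ≤ N := hN ▸ Subgroup.le_normalizer
    obtain ⟨j, hj⟩ := Subgroup.card_dvd_of_le hSN
    have hjodd : ¬ 2 ∣ j := by
      intro hd
      obtain ⟨e, he⟩ := Subgroup.card_subgroup_dvd_card N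
      have h1 := (S : Subgroup SL2).card_mul_index
      rw [he, hj] at h1
      refine S.not_dvd_index ?_
      rw [Nat.eq_of_mul_eq_mul_left Nat.card_pos (h1.trans (mul_assoc _ _ _))]
      exact dvd_mul_of_dvd_left hd _
    have hbound : Nat.card N ≤ 2 * 24 := by
      have := Fintype.ofFinite (S : Subgroup SL2)
      have hz : ∀ z : N, z.1 ∈ Subgroup.normalizer ((S : Subgroup SL2) : Set SL2) :=
        fun z => hN ▸ z.2
      let Φ : N → ↥(S : Subgroup SL2) × ↥(S : Subgroup SL2) := fun z =>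
        ((⟨z.1 * x * z.1⁻¹, (Subgroup.mem_normalizer_iff.mp (hz z) x).mp hxS⟩ : (S : Subgroup SL2)),
          (⟨z.1 * s * z.1⁻¹, (Subgroup.mem_normalizer_iff.mp (hz z) s).mp hsS⟩ : (S : Subgroup SL2)))
      obtain ⟨U, hU⟩ : ∃ U, U = ((Finset.univ : Finset (S : Subgroup SL2)).filter
        fun u => ¬ IsSc u.1.1) := ⟨_, rfl⟩
      have := Fintype.ofFinite N
      have himg : (Finset.univ.image Φ) ⊆
          (U ×ˢ U).filter fun p => p.2 ≠ p.1 ∧ p.2.1.1 ≠ -p.1.1.1 := by
        intro p hp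
        obtain ⟨z, -, rfl⟩ := Finset.mem_image.mp hp
        have hnsz : ∀ y : SL2, ¬ IsSc y.1 → ¬ IsSc (z.1 * y * z.1⁻¹).1 := fun y hy h =>
          hy (isSc_conj (isConj_iff.mpr ⟨z.1, rfl⟩).symm h ▸ h)
        have hsns : ¬ IsSc s.1 := fun h => hst (mem_tor.mpr (by
          obtain ⟨c, hc⟩ := h; rw [hc]; simp))
        simp only [Finset.mem_filter, Finset.mem_product, hU, Finset.mem_univ, true_and]
        refine ⟨⟨hnsz x hxns, hnsz s hsns⟩, fun h => hst ?_, fun h => hst ?_⟩
        · have h' : z.1 * s * z.1⁻¹ = z.1 * x * z.1⁻¹ := congrArg Subtype.val h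
          rw [mul_left_cancel (mul_right_cancel h')]
          exact hxt
        · have h1 : z.1.1 * s.1 * z.1⁻¹.1 = -(z.1.1 * x.1 * z.1⁻¹.1) := h
          have h2' : z.1 * s * z.1⁻¹ = z.1 * (x * (x * x)) * z.1⁻¹ := by
            apply Subtype.ext
            simp only [val_mul'] at h1 ⊢
            rw [h1, hx2, Matrix.mul_neg, Matrix.mul_one, Matrix.mul_neg, Matrix.neg_mul]
          rw [mul_left_cancel (mul_right_cancel h2')]
          exact mul_mem hxt (mul_mem hxt hxt)
      have hfib : ∀ p ∈ Finset.univ.image Φ, (Finset.univ.filter fun z => Φ z = p).card ≤ 2 := by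
        intro p hp
        obtain ⟨z, -, rfl⟩ := Finset.mem_image.mp hp
        rw [← Fintype.card_subtype, ← Nat.card_eq_fintype_card]
        refine le_trans (Nat.card_le_card_of_injective
          (fun y => (⟨z.1⁻¹ * y.1.1, ?_⟩ : {u : SL2 // IsSc u.1})) fun a b h => ?_) ?_
        · have e1 : y.1.1 * x * y.1.1⁻¹ = z.1 * x * z.1⁻¹ := congrArg (fun p => p.1.1) y.2
          have e2 : y.1.1 * s * y.1.1⁻¹ = z.1 * s * z.1⁻¹ := congrArg (fun p => p.2.1) y.2
          refine hcent _ ?_ ?_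
          · calc x * (z.1⁻¹ * y.1.1) = z.1⁻¹ * (z.1 * x * z.1⁻¹) * y.1.1 := by group
              _ = z.1⁻¹ * y.1.1 * x := by rw [← e1]; group
          · calc s * (z.1⁻¹ * y.1.1) = z.1⁻¹ * (z.1 * s * z.1⁻¹) * y.1.1 := by group
              _ = z.1⁻¹ * y.1.1 * s := by rw [← e2]; group
        · exact Subtype.ext (Subtype.ext (mul_left_cancel (congrArg Subtype.val h)))
        · exact le_of_eq ((Nat.card_congr (Equiv.subtypeEquivRight fun u => mem_center_iff.symm)).trans
            (center_card_odd (F := F) h2))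
      have hUc : U.card = 6 := by
        have h1 := Finset.card_filter_add_card_filter_not
          (s := (Finset.univ : Finset (S : Subgroup SL2))) (fun u => IsSc u.1.1)
        rw [← hU, Finset.card_univ, ← Nat.card_eq_fintype_card,
          show Nat.card (S : Subgroup SL2) = Nat.card S from rfl, hSk, ← Fintype.card_subtype,
          ← Nat.card_eq_fintype_card] at h1
        have h2' : Nat.card {u : (S : Subgroup SL2) // IsSc u.1.1} = 2 := by
          refine Eq.trans ?_ (center_card_odd (F := F) h2)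
          exact Nat.card_congr
            { toFun := fun u => ⟨u.1.1, mem_center_iff.mpr u.2⟩
              invFun := fun u => ⟨⟨u.1, by
                have : u.1 = 1 ∨ u.1 = x * x := (isSc_SL (mem_center_iff.mp u.2)).imp
                  (fun e => Subtype.ext e) fun e => Subtype.ext (by rw [val_mul', hx2, e])
                rcases this with e | e <;> rw [e]
                · exact one_mem _
                · exact mul_mem hxS hxS⟩, mem_center_iff.mp u.2⟩
              left_inv := fun u => rfl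
              right_inv := fun u => rfl }
        omega
      have hpairs : ((U ×ˢ U).filter fun p => p.2 ≠ p.1 ∧ p.2.1.1 ≠ -p.1.1.1).card ≤ 24 := by
        refine le_trans (Finset.card_le_mul_card_image (f := Prod.fst) _ 4 fun u hu => ?_) ?_
        · obtain ⟨p, hp, rfl⟩ := Finset.mem_image.mp hu
          simp only [Finset.mem_filter, Finset.mem_product] at hp
          have hu' : ¬ IsSc p.1.1.1 := by
            have := hp.1.1; rw [hU, Finset.mem_filter] at this; exact this.2
          obtain ⟨m, hm⟩ : ∃ m : (S : Subgroup SL2), m.1.1 = -p.1.1.1 :=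
            ⟨⟨p.1.1 * (x * x), mul_mem p.1.2 (mul_mem hxS hxS)⟩, by
              rw [val_mul', val_mul', hx2, Matrix.mul_neg, Matrix.mul_one]⟩
          have hmU : m ∈ U := by
            rw [hU, Finset.mem_filter]
            exact ⟨Finset.mem_univ _, fun ⟨c, hc⟩ => hu' ⟨-c, by rw [neg_smul, ← hc, hm, neg_neg]⟩⟩
          have hne : m ≠ p.1 := fun h => by
            rw [h] at hm
            have hz : (2 : F) • p.1.1.1 = 0 := by linear_combination (norm := module) hm
            exact hu' ⟨0, by rw [zero_smul]; exact (smul_eq_zero.mp hz).resolve_left h2⟩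
          refine le_trans (Finset.card_le_card_of_injOn Prod.snd
            (t := (U.erase p.1).erase m) (fun r hr => ?_) fun a ha b hb h => ?_) ?_
          · simp only [Finset.mem_coe, Finset.mem_filter, Finset.mem_product] at hr
            simp only [Finset.mem_coe, Finset.mem_erase]
            exact ⟨fun h => hr.1.2.2 (by rw [h, hm, hr.2]), hr.2 ▸ hr.1.2.1, hr.1.1.2⟩
          · simp only [Finset.mem_coe, Finset.mem_filter] at ha hb
            exact Prod.ext (ha.2.trans hb.2.symm) h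
          · rw [Finset.card_erase_of_mem (Finset.mem_erase.mpr ⟨hne, hmU⟩),
              Finset.card_erase_of_mem hp.1.1, hUc]
        · refine le_trans (Nat.mul_le_mul_left 4 (Finset.card_le_card (t := U) fun u hu => ?_)) (by rw [hUc])
          obtain ⟨p, hp, rfl⟩ := Finset.mem_image.mp hu
          simp only [Finset.mem_filter, Finset.mem_product] at hp
          exact hp.1.1
      have := Finset.card_le_mul_card_image (f := Φ) (Finset.univ : Finset N) 2 hfib
      rw [Finset.card_univ, ← Nat.card_eq_fintype_card] at this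
      have := (Finset.card_le_card himg).trans hpairs
      omega
    rw [hj, show Nat.card (S : Subgroup SL2) = Nat.card S from rfl, hSk] at h3N hbound ⊢
    have h3j : 3 ∣ j := (Nat.Coprime.dvd_mul_left (by norm_num)).mp h3N
    obtain rfl : j = 3 := by omega
    rw [mul_comm]

end Cfsg.Agent.Small.SL2C
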