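import Mathlib
import Cfsg.Prelude.Def_ParabolicCharacters
import Cfsg.Agent.Lib.Small.SL2.Counting

/-!
The classes of the Borel subgroup of `SL₂` over a finite field of odd characteristic.
-/

set_option autoImplicit false
set_option linter.unusedSectionVars false

namespace Cfsg.Agent.Small.SL2C

open Matrix

variable {F : Type*} [Field F] [Fintype F]

local notation "M2" => Matrix (Fin 2) (Fin 2) F
local notation "SL2" => Matrix.SpecialLinearGroup (Fin 2) F
/-- The Borel subgroup. -/
abbrev borelSL (F : Type*) [Field F] : Subgroup (Matrix.SpecialLinearGroup (Fin 2) F) :=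
  (Cfsg.upperTriangularGL 2 F).comap Matrix.SpecialLinearGroup.toGL

local notation "BB" => borelSL F

theorem mem_borelSL {g : SL2} : g ∈ BB ↔ g.1 1 0 = 0 := by
  constructor
  · intro h
    exact h (show id (0 : Fin 2) < id 1 by decide)
  · intro h i j hij
    fin_cases i <;> fin_cases j <;> first | exact absurd hij (by decide) | exact h

theorem card_classes_borel (h2 : (2 : F) ≠ 0) :
    Nat.card (ConjClasses BB) = Fintype.card F + 3 := by
  classical
  obtain ⟨ν, hν0, hν⟩ := exists_nonsquare' h2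
  let E := {s : F // s * s = 1}
  let D := {a : Fˣ // (a : F) * a ≠ 1}
  let el : D ⊕ (E ⊕ E ⊕ E) → SL2 := fun i => match i with
    | .inl a => PSL2.hS a.1
    | .inr (.inl e) => scS e.1 e.2
    | .inr (.inr (.inl e)) => epU e.1 1 e.2
    | .inr (.inr (.inr e)) => epU e.1 ν e.2
  have hel : ∀ i, el i ∈ BB := fun i => mem_borelSL.mpr (by
    rcases i with a | e | e | e <;> simp [el, PSL2.hS, scS, mkSL, epU])
  let f : D ⊕ (E ⊕ E ⊕ E) → ConjClasses BB := fun i => ConjClasses.mk ⟨el i, hel i⟩
  have inv : ∀ {x y : BB}, IsConj x y → IsConj (x : SL2) (y : SL2) ∧ x.1.1 0 0 = y.1.1 0 0 := by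
    intro x y h
    obtain ⟨c, rfl⟩ := isConj_iff.mp h
    refine ⟨isConj_iff.mpr ⟨c.1, rfl⟩, ?_⟩
    have hc := mem_borelSL.mp c.2
    have hx := mem_borelSL.mp x.2
    have hd := c.1.2
    rw [Matrix.det_fin_two, hc, mul_zero, sub_zero] at hd
    simp only [Subgroup.coe_mul, InvMemClass.coe_inv, val_mul', Matrix.SpecialLinearGroup.coe_inv,
      Matrix.adjugate_fin_two]
    simp [Matrix.mul_apply, Fin.sum_univ_two, hc, hx]
    linear_combination (-(x.1.1 0 0)) * hd
  have h00 : ∀ e : E, ∀ b : F, (epU e.1 b e.2).1 0 0 = e.1 ∧ (scS e.1 e.2).1 0 0 = e.1 := fun e b => by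
    simp [scS, mkSL, epU]
  have hbij : Function.Bijective f := by
    constructor
    · intro i j h
      obtain ⟨hc, h0⟩ := inv (ConjClasses.mk_eq_mk_iff_isConj.mp h)
      rcases i with a | e | e | e <;> rcases j with a' | e' | e' | e'
      · simp [el, PSL2.hS] at h0
        exact congrArg Sum.inl (Subtype.ext (Units.ext h0))
      · exact absurd (by simp [el, PSL2.hS, (h00 e' 0).2] at h0; rw [h0]; exact e'.2) a.2
      · exact absurd (by simp [el, PSL2.hS, (h00 e' 1).1] at h0; rw [h0]; exact e'.2) a.2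
      · exact absurd (by simp [el, PSL2.hS, (h00 e' ν).1] at h0; rw [h0]; exact e'.2) a.2
      · exact absurd (by simp [el, PSL2.hS, (h00 e 0).2] at h0; rw [← h0]; exact e.2) a'.2
      · simp [el, (h00 e 0).2, (h00 e' 0).2] at h0
        rw [Subtype.ext h0]
      · exact (not_conj_sc (scS_isSc e.1 e.2) (epU_not_isSc e'.2 one_ne_zero) hc).elim
      · exact (not_conj_sc (scS_isSc e.1 e.2) (epU_not_isSc e'.2 hν0) hc).elim
      · exact absurd (by simp [el, PSL2.hS, (h00 e 1).1] at h0; rw [← h0]; exact e.2) a'.2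
      · exact (not_conj_sc (scS_isSc e'.1 e'.2) (epU_not_isSc e.2 one_ne_zero) hc.symm).elim
      · simp [el, (h00 e 1).1, (h00 e' 1).1] at h0
        rw [Subtype.ext h0]
      · simp [el, (h00 e 1).1, (h00 e' ν).1] at h0
        obtain rfl := Subtype.ext h0
        exact absurd ((epU_conj_iff e.2 one_ne_zero hν0).mp hc) (by rwa [one_mul])
      · exact absurd (by simp [el, PSL2.hS, (h00 e ν).1] at h0; rw [← h0]; exact e.2) a'.2
      · exact (not_conj_sc (scS_isSc e'.1 e'.2) (epU_not_isSc e.2 hν0) hc.symm).elim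
      · simp [el, (h00 e ν).1, (h00 e' 1).1] at h0
        obtain rfl := Subtype.ext h0
        exact absurd ((epU_conj_iff e.2 hν0 one_ne_zero).mp hc) (by rwa [mul_one])
      · simp [el, (h00 e ν).1, (h00 e' ν).1] at h0
        rw [Subtype.ext h0]
    · intro C
      obtain ⟨⟨g, hg⟩, rfl⟩ := ConjClasses.mk_surjective C
      have h10 := mem_borelSL.mp hg
      have hd := g.2
      rw [Matrix.det_fin_two, h10, mul_zero, sub_zero] at hd
      have mkc : ∀ i, ∀ S : SL2, S.1 1 0 = 0 → S.1 * g.1 = (el i).1 * S.1 → f i = ConjClasses.mk ⟨g, hg⟩ := by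
        intro i S hS e
        refine (ConjClasses.mk_eq_mk_iff_isConj.mpr (isConj_iff.mpr ⟨⟨S, mem_borelSL.mpr hS⟩, ?_⟩)).symm
        apply Subtype.ext
        have e' : S * g = el i * S := Subtype.ext e
        simp [Subgroup.coe_mul, e']
      by_cases ha : g.1 0 0 * g.1 0 0 = 1
      · have hdd : g.1 1 1 = g.1 0 0 := mul_left_cancel₀ (fun h => by simp [h] at ha) (hd.trans ha.symm)
        have hge : g = epU (g.1 0 0) (g.1 0 1) ha := by
          apply Subtype.ext
          rw [epU_val]
          ext i j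
          fin_cases i <;> fin_cases j <;> simp [h10, hdd]
        by_cases hb : g.1 0 1 = 0
        · refine ⟨.inr (.inl ⟨_, ha⟩), mkc (.inr (.inl ⟨_, ha⟩)) 1 (by simp) ?_⟩
          rw [Matrix.SpecialLinearGroup.coe_one, Matrix.one_mul, Matrix.mul_one]
          ext i j
          fin_cases i <;> fin_cases j <;> simp [el, scS, mkSL, hb, h10, hdd]
        obtain ⟨b, hbd⟩ : ∃ b, b = g.1 0 1 := ⟨_, rfl⟩
        rw [← hbd] at hge hb
        have go : ∀ c u : F, u ≠ 0 → u * u * b = c →
            ∃ S : SL2, S.1 1 0 = 0 ∧ S.1 * g.1 = (epU (g.1 0 0) c ha).1 * S.1 := fun c u hu h =>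
          ⟨PSL2.hS (Units.mk0 u hu), by simp [PSL2.hS], by
            conv_lhs => rw [hge]
            rw [epU_val, epU_val]
            ext i j
            fin_cases i <;> fin_cases j <;>
              simp [PSL2.hS, Matrix.mul_apply, Fin.sum_univ_two, mul_comm]
            field_simp
            linear_combination h⟩
        by_cases hbs : IsSquare b
        · obtain ⟨s, hs⟩ := hbs
          have hs0 : s ≠ 0 := fun h => hb (by rw [hs, h, mul_zero])
          obtain ⟨S, hS, e⟩ := go 1 s⁻¹ (inv_ne_zero hs0) (by rw [hs]; field_simp)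
          exact ⟨.inr (.inr (.inl ⟨_, ha⟩)), mkc (.inr (.inr (.inl ⟨_, ha⟩))) S hS e⟩
        · obtain ⟨w, hw⟩ := isSquare_mul_of_not h2 hbs hν
          have hw0 : w ≠ 0 := fun h => mul_ne_zero hb hν0 (by rw [hw, h, mul_zero])
          obtain ⟨S, hS, e⟩ := go ν (ν / w) (div_ne_zero hν0 hw0) (by
            field_simp; linear_combination hw)
          exact ⟨.inr (.inr (.inr ⟨_, ha⟩)), mkc (.inr (.inr (.inr ⟨_, ha⟩))) S hS e⟩
      · have hne : g.1 0 0 - g.1 1 1 ≠ 0 := fun h => ha (by linear_combination hd + g.1 0 0 * h)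
        have ha0 : g.1 0 0 ≠ 0 := fun h => by rw [h, zero_mul] at hd; exact zero_ne_one hd
        refine ⟨.inl ⟨Units.mk0 _ ha0, ha⟩, mkc (.inl ⟨Units.mk0 _ ha0, ha⟩) (PSL2.uS (g.1 0 1 / (g.1 0 0 - g.1 1 1))) (by simp [PSL2.uS]) ?_⟩
        have hdi : (g.1 0 0)⁻¹ = g.1 1 1 := inv_eq_of_mul_eq_one_right hd
        ext i j
        fin_cases i <;> fin_cases j <;>
          simp [el, PSL2.uS, PSL2.hS, Matrix.mul_apply, Fin.sum_univ_two, h10, hdi]
        field_simp
        ring
  rw [← Nat.card_congr (Equiv.ofBijective f hbij), Nat.card_sum, Nat.card_sum, Nat.card_sum]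
  have hE : Nat.card E = 2 := card_sq_one_odd h2
  have hD : Nat.card {a : Fˣ // (a : F) * a = 1} = 2 := Eq.trans (Nat.card_congr
    { toFun := fun a => (⟨(a.1 : F), a.2⟩ : E)
      invFun := fun e => ⟨Units.mk0 e.1 (fun h => by simpa [h] using e.2), e.2⟩
      left_inv := fun a => Subtype.ext (Units.ext rfl)
      right_inv := fun e => rfl }) hE
  have hsum : Nat.card {a : Fˣ // (a : F) * a = 1} + Nat.card D = Fintype.card F - 1 := by
    rw [← Nat.card_sum, Nat.card_congr (Equiv.sumCompl _), Cfsg.Agent.Lead.GLBasic.card_units_eq]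
  have := Fintype.one_lt_card (α := F)
  omega

end Cfsg.Agent.Small.SL2C
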