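import Mathlib
import Cfsg.Agent.Lib.Small.SL2.Torus

/-!
The decomposition `PSL₂ = ABA` in characteristic two.
-/

set_option autoImplicit false
set_option linter.unusedSectionVars false

namespace Cfsg.Agent.Small.SL2C

open Matrix

variable {F : Type*} [Field F] [Fintype F]

local notation "M2" => Matrix (Fin 2) (Fin 2) F
local notation "SL2" => Matrix.SpecialLinearGroup (Fin 2) F
local notation "P2" => Matrix.ProjectiveSpecialLinearGroup (Fin 2) F

theorem Qf_anisotropic {t x y : F} (hr : roots t 1 = 0) (h : Qf t 1 x y = 0) : x = 0 ∧ y = 0 := by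
  rw [Qf] at h
  by_cases hy : y = 0
  · subst hy; exact ⟨mul_self_eq_zero.mp (by linear_combination h), rfl⟩
  · rw [roots, Nat.card_eq_zero] at hr
    exfalso
    rcases hr with hr | hr
    · exact hr.false ⟨x / y, by field_simp; linear_combination h⟩
    · exact hr.false

theorem exists_equal_norm (h2 : (2 : F) = 0) {t : F} (hr : roots t 1 = 0) (g : SL2) :
    ∃ x y : F, Qf t 1 x y = 1 ∧
      Qf t 1 (g.1 0 0 * x + g.1 0 1 * y) (g.1 1 0 * x + g.1 1 1 * y) = 1 := by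
  have hd := g.2
  rw [Matrix.det_fin_two] at hd
  obtain ⟨α, hα⟩ := isSquare_of_two h2 (Qf t 1 (g.1 0 0) (g.1 1 0) - 1)
  obtain ⟨γ, hγ⟩ := isSquare_of_two h2 (Qf t 1 (g.1 0 1) (g.1 1 1) - 1)
  have key : ∀ x y : F, Qf t 1 (g.1 0 0 * x + g.1 0 1 * y) (g.1 1 0 * x + g.1 1 1 * y) - Qf t 1 x y =
      (α * x + γ * y) * (α * x + γ * y) := by
    intro x y
    simp only [Qf] at hα hγ ⊢
    linear_combination (-(x * x)) * hα + (-(y * y)) * hγ + t * x * y * hd +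
      (g.1 0 0 * g.1 0 1 + t * g.1 0 1 * g.1 1 0 + g.1 1 0 * g.1 1 1 - α * γ) * (x * y) * h2
  obtain ⟨x, y, hne, h0⟩ : ∃ x y : F, (x ≠ 0 ∨ y ≠ 0) ∧ α * x + γ * y = 0 := by
    by_cases hα0 : α = 0
    · exact ⟨1, 0, Or.inl one_ne_zero, by rw [hα0]; ring⟩
    · exact ⟨γ, α, Or.inr hα0, by linear_combination (α * γ) * h2⟩
  have hN : Qf t 1 x y ≠ 0 := fun h => by
    obtain ⟨h1, h1'⟩ := Qf_anisotropic hr h
    exact hne.elim (fun h => h h1) fun h => h h1'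
  obtain ⟨s, hs⟩ := isSquare_of_two h2 (Qf t 1 x y)⁻¹
  refine ⟨s * x, s * y, ?_, ?_⟩
  · rw [show Qf t 1 (s * x) (s * y) = s * s * Qf t 1 x y by rw [Qf, Qf]; ring, hs, inv_mul_cancel₀ hN]
  · have h := key (s * x) (s * y)
    rw [show Qf t 1 (s * x) (s * y) = s * s * Qf t 1 x y by rw [Qf, Qf]; ring, hs, inv_mul_cancel₀ hN,
      show α * (s * x) + γ * (s * y) = s * (α * x + γ * y) by ring, h0] at h
    linear_combination h

theorem aba (h2 : (2 : F) = 0) :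
    ∃ A B : Subgroup P2, IsCyclic A ∧ Nat.card A = Fintype.card F + 1 ∧ IsMulCommutative B ∧
      (∀ b ∈ B, b * b = 1) ∧ Nat.card B = Fintype.card F ∧
      ∀ g : P2, ∃ a ∈ A, ∃ b ∈ B, ∃ c ∈ A, g = a * b * c := by
  obtain ⟨t, ht, hr⟩ := exists_roots_zero (F := F)
  obtain ⟨g₀, hg₀⟩ : ∃ g : SL2, g.1 = comp t 1 := ⟨mkSL (comp t 1) (comp_det t 1), rfl⟩
  have htr : g₀.1.trace = t := by rw [hg₀, comp_trace]
  rw [← htr] at ht hr
  have hs : sol g₀.1.trace 1 = Fintype.card F + 1 := by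
    rcases sol_eq ht with ⟨h', -⟩ | ⟨-, h'⟩
    · omega
    · exact h'
  have hinj : Function.Injective (PSL2.pr : SL2 → P2) := by
    refine (injective_iff_map_eq_one _).mpr fun a ha => ?_
    have : Subsingleton (Subgroup.center SL2) :=
      (Nat.card_eq_one_iff_unique.mp (center_card_even h2)).1
    exact congrArg Subtype.val
      (Subsingleton.elim (⟨a, mem_center_iff.mpr (pr_eq_one_iff.mp ha)⟩ : Subgroup.center SL2) 1)
  have := isCyclic_centralizer ht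
  refine ⟨(tor g₀).map PSL2.pr, PSL2.U,
    isCyclic_of_surjective _ ((PSL2.pr (F := F)).subgroupMap_surjective (tor g₀)), ?_, ?_, ?_, ?_, ?_⟩
  · rw [Subgroup.card_map_of_injective hinj, card_centralizer g₀ (not_isSc_of_trace ht), hs]
  · refine ⟨⟨fun a b => Subtype.ext ?_⟩⟩
    obtain ⟨x, hx⟩ := (PSL2.mem_U _).mp a.2
    obtain ⟨y, hy⟩ := (PSL2.mem_U _).mp b.2
    simp only [Subgroup.coe_mul, ← hx, ← hy, ← map_mul, ← PSL2.uS_add, add_comm]
  · intro b hb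
    obtain ⟨x, rfl⟩ := (PSL2.mem_U b).mp hb
    rw [← map_mul, ← PSL2.uS_add, show x + x = 0 by linear_combination x * h2, pr_eq_one_iff]
    exact ⟨1, by simp [PSL2.uS, Matrix.one_fin_two]⟩
  · refine (Nat.card_congr (Equiv.ofBijective (fun x : F => (⟨_, PSL2.uS_mem x⟩ : PSL2.U))
      ⟨fun x y h => PSL2.pr_uS_inj (congrArg Subtype.val h), fun u => ?_⟩)).symm.trans
      Nat.card_eq_fintype_card
    obtain ⟨x, hx⟩ := (PSL2.mem_U _).mp u.2
    exact ⟨x, Subtype.ext hx⟩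
  intro q
  obtain ⟨g, rfl⟩ := PSL2.pr_surjective q
  obtain ⟨x, y, h1, h1'⟩ := exists_equal_norm h2 (t := t) (htr ▸ hr) g
  have mk : ∀ a b : F, Qf t 1 a b = 1 → ∃ A ∈ tor g₀, A.1 0 0 = a ∧ A.1 1 0 = b := by
    intro a b hab
    obtain ⟨A, hA⟩ : ∃ A : SL2, A.1 = comb g₀.1 a b :=
      ⟨mkSL (comb g₀.1 a b) (by rw [det_comb, g₀.2, htr]; exact hab), rfl⟩
    refine ⟨A, mem_tor.mpr (by rw [hA]; exact comb_comm _ _ _), ?_, ?_⟩ <;>
      rw [hA, hg₀, comb, comp] <;> simp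
  obtain ⟨c, hc, c0, c1⟩ := mk x y h1
  obtain ⟨a, ha, a0, a1⟩ := mk _ _ h1'
  obtain ⟨m, hm⟩ : ∃ m, m = (a⁻¹ * (g * c)) := ⟨_, rfl⟩
  have hd := a.2
  rw [Matrix.det_fin_two] at hd
  have hgc : (g * c).1 0 0 = a.1 0 0 ∧ (g * c).1 1 0 = a.1 1 0 := by
    simp [val_mul', Matrix.mul_apply, Fin.sum_univ_two, c0, c1, a0, a1]
  have m00 : m.1 0 0 = 1 := by
    rw [hm, val_mul', Matrix.SpecialLinearGroup.coe_inv, Matrix.adjugate_fin_two, Matrix.mul_apply,
      Fin.sum_univ_two, hgc.1, hgc.2]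
    simp
    linear_combination hd
  have m10 : m.1 1 0 = 0 := by
    rw [hm, val_mul', Matrix.SpecialLinearGroup.coe_inv, Matrix.adjugate_fin_two, Matrix.mul_apply,
      Fin.sum_univ_two, hgc.1, hgc.2]
    simp
    ring
  have m11 : m.1 1 1 = 1 := by
    have := m.2
    rw [Matrix.det_fin_two, m00, m10, one_mul, mul_zero, sub_zero] at this
    exact this
  have hmu : m = PSL2.uS (m.1 0 1) := by
    apply Subtype.ext
    ext i j
    fin_cases i <;> fin_cases j <;> simp [PSL2.uS, m00, m10, m11]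
  refine ⟨PSL2.pr a, Subgroup.mem_map_of_mem _ ha, _, PSL2.uS_mem (m.1 0 1), PSL2.pr c⁻¹,
    Subgroup.mem_map_of_mem _ (inv_mem hc), ?_⟩
  rw [← hmu, hm, ← map_mul, ← map_mul]
  congr 1
  group

end Cfsg.Agent.Small.SL2C
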