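import Mathlib
import Cfsg.Prelude.Def_ParabolicCharacters
import Cfsg.Agent.Lib.Lead.GL2Class

/-!
The permutation character of `GL₂` on lines as a principal series character.
-/

set_option autoImplicit false
set_option linter.unusedSectionVars false

namespace Cfsg.Agent.Small.SL2C

open Matrix Cfsg Cfsg.Agent.Lead.GL2

universe u

theorem fixedPointCharacter_eq_indFun {G : Type u} [Group G] [Fintype G] {ι : Type*} [Fintype ι]
    (H : Subgroup G) (r : ι → G) (hr : Function.Bijective fun i => (r i : G ⧸ H)) (g : G) :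
    fixedPointCharacter H g = indFun H (fun _ => 1) g := by
  classical
  rw [indFun_eq_sum_reps H _ (fun _ _ => rfl) r hr, fixedPointCharacter]
  have e : Nat.card (MulAction.fixedBy (G ⧸ H) g) = Nat.card {i : ι // (r i)⁻¹ * g * r i ∈ H} := by
    refine (Nat.card_congr ((Equiv.ofBijective _ hr).subtypeEquiv fun i => ?_)).symm
    rw [MulAction.mem_fixedBy, Equiv.ofBijective_apply, MulAction.Quotient.smul_coe,
      QuotientGroup.eq, smul_eq_mul, _root_.mul_inv_rev, ← inv_mem_iff]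
    simp [mul_assoc]
  rw [e, Nat.card_eq_fintype_card, Fintype.card_subtype, Finset.natCast_card_filter]
  refine Finset.sum_congr rfl fun i _ => ?_
  split_ifs with h
  · rw [Char.extendByZero_mem _ _ h]
  · rw [Char.extendByZero_not_mem _ _ h]

variable {F : Type u} [Field F] [Fintype F] [DecidableEq F]

theorem lam_one_one :
    lam (1 : MulChar F ℂ) 1 = fun _ : upperTriangularGL 2 F => (1 : ℂ) := by
  funext b
  obtain ⟨h0, h1⟩ := borel_diag_ne (g := b.1) b.2
  rw [lam, MulChar.one_apply (isUnit_iff_ne_zero.2 h0), MulChar.one_apply (isUnit_iff_ne_zero.2 h1),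
    one_mul]

theorem fixedPointCharacter_eq_ps (g : GL (Fin 2) F) :
    fixedPointCharacter (upperTriangularGL 2 F) g = ps (1 : MulChar F ℂ) 1 g := by
  rw [fixedPointCharacter_eq_indFun _ rep rep_bijective, ps, lam_one_one]

theorem eq_up {g : GL (Fin 2) F} (h : (g : Matrix (Fin 2) (Fin 2) F) 1 0 = 0) :
    ∃ a d : Fˣ, g = up a d ((g : Matrix (Fin 2) (Fin 2) F) 0 1) ∧
      (a : F) = (g : Matrix (Fin 2) (Fin 2) F) 0 0 ∧ (d : F) = (g : Matrix (Fin 2) (Fin 2) F) 1 1 := by
  obtain ⟨h0, h1⟩ := borel_diag_ne (g := g) (mem_borel.2 h)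
  refine ⟨Units.mk0 _ h0, Units.mk0 _ h1, Units.ext ?_, rfl, rfl⟩
  ext i j
  fin_cases i <;> fin_cases j <;> simp [up, h]

/-- The number of fixed lines. -/
theorem fixed_lines (g : GL (Fin 2) F) :
    ((∃ a : F, (g : Matrix (Fin 2) (Fin 2) F) = a • (1 : Matrix (Fin 2) (Fin 2) F)) →
      fixedPointCharacter (upperTriangularGL 2 F) g = Fintype.card F + 1) ∧
    ((g : Matrix (Fin 2) (Fin 2) F) 0 1 = 0 → (g : Matrix (Fin 2) (Fin 2) F) 1 0 = 0 →
      (g : Matrix (Fin 2) (Fin 2) F) 0 0 ≠ (g : Matrix (Fin 2) (Fin 2) F) 1 1 →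
      fixedPointCharacter (upperTriangularGL 2 F) g = 2) ∧
    ((∀ (c : F) (v : Fin 2 → F), v ≠ 0 → (g : Matrix (Fin 2) (Fin 2) F).mulVec v ≠ c • v) →
      fixedPointCharacter (upperTriangularGL 2 F) g = 0) ∧
    ((g : Matrix (Fin 2) (Fin 2) F) 1 0 = 0 →
      (g : Matrix (Fin 2) (Fin 2) F) 0 0 = (g : Matrix (Fin 2) (Fin 2) F) 1 1 →
      (g : Matrix (Fin 2) (Fin 2) F) 0 1 ≠ 0 →
      fixedPointCharacter (upperTriangularGL 2 F) g = 1) := by
  rw [fixedPointCharacter_eq_ps]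
  refine ⟨?_, fun h01 h10 hne => ?_, fun h => ps_elliptic _ _ h, fun h10 heq hne => ?_⟩
  · rintro ⟨c, hc⟩
    have h10 : (g : Matrix (Fin 2) (Fin 2) F) 1 0 = 0 := by simp [hc]
    obtain ⟨a, d, e, ha, hd⟩ := eq_up h10
    have had : a = d := Units.ext (by rw [ha, hd]; simp [hc])
    rw [e, ps_borel, had]
    simp [hc, add_comm]
  · obtain ⟨a, d, e, ha, hd⟩ := eq_up h10
    rw [h01] at e
    rw [e, ps_diag _ _ _ _ (by rw [ha, hd]; exact hne)]
    simp [one_add_one_eq_two]
  · obtain ⟨a, d, e, ha, hd⟩ := eq_up h10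
    have had : a = d := Units.ext (by rw [ha, hd, heq])
    rw [e, ps_borel, had]
    simp [hne]

end Cfsg.Agent.Small.SL2C
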