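import Mathlib
import Cfsg.Agent.Lib.Small.SL2.Orders

/-!
Products of two conjugacy classes in `PSL₂` over a finite field.
-/

set_option autoImplicit false
set_option linter.unusedSectionVars false

namespace Cfsg.Agent.Small.SL2C

open Matrix

variable {F : Type*} [Field F] [Fintype F]

local notation "M2" => Matrix (Fin 2) (Fin 2) F
local notation "SL2" => Matrix.SpecialLinearGroup (Fin 2) F
local notation "P2" => Matrix.ProjectiveSpecialLinearGroup (Fin 2) F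

/-- The traces of products of a conjugate of `A` with `B`. -/
def Att (A B : SL2) (τ : F) : Prop := ∃ X : SL2, IsConj A X ∧ (X * B).1.trace = τ

theorem trace_mul_comm' (A B : SL2) : (A * B).1.trace = (B * A).1.trace := by
  rw [val_mul', val_mul', Matrix.trace_mul_comm]

theorem att_conj {A B B' : SL2} (h : IsConj B B') {τ : F} (ha : Att A B' τ) : Att A B τ := by
  obtain ⟨c, rfl⟩ := isConj_iff.mp h
  obtain ⟨X, hX, hτ⟩ := ha
  refine ⟨c⁻¹ * X * c, hX.trans (isConj_iff.mpr ⟨c⁻¹, by rw [inv_inv]⟩), ?_⟩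
  rw [← hτ]
  refine trace_conj (isConj_iff.mpr ⟨c, ?_⟩)
  group

theorem att_of_trace {A B : SL2} (hA : A.1.trace * A.1.trace ≠ 4) {M : M2} (hd : M.det = 1)
    (ht : M.trace = A.1.trace) : Att A B (M * B.1).trace := by
  obtain ⟨X, hX⟩ : ∃ X : SL2, X.1 = M := ⟨mkSL M hd, rfl⟩
  refine ⟨X, ?_, by rw [val_mul', hX]⟩
  refine isConj_of_trace (not_isSc_of_trace hA) (not_isSc_of_trace ?_) (by rw [hX, ht]) (Or.inr hA)
  rwa [hX, ht]

/-- Semisimple times semisimple reaches every trace. -/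
theorem att_semisimple {A B : SL2} (hA : A.1.trace * A.1.trace ≠ 4)
    (hB : B.1.trace * B.1.trace ≠ 4) (τ : F) : Att A B τ := by
  obtain ⟨b, hb⟩ : ∃ b, b = B.1.trace := ⟨_, rfl⟩
  obtain ⟨B', hB'⟩ : ∃ B' : SL2, B'.1 = comp b 1 := ⟨mkSL (comp b 1) (comp_det b 1), rfl⟩
  refine att_conj (isConj_of_trace (h := B') (not_isSc_of_trace hB)
    (hB' ▸ comp_not_isSc b 1) (by rw [hB', comp_trace, hb]) (Or.inr hB)) ?_
  obtain ⟨a, ha⟩ : ∃ a, a = A.1.trace := ⟨_, rfl⟩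
  rw [← hb] at hB
  obtain ⟨c, hc⟩ : ∃ c, c = a * b - τ := ⟨_, rfl⟩
  have hne : (4 : F) - b * b ≠ 0 := sub_ne_zero.mpr (Ne.symm hB)
  obtain ⟨p0, hp0⟩ : ∃ p0, p0 * (4 - b * b) = 2 * a - b * c := ⟨_, div_mul_cancel₀ _ hne⟩
  obtain ⟨r0, hr0⟩ : ∃ r0, r0 * (4 - b * b) = a * b - 2 * c := ⟨_, div_mul_cancel₀ _ hne⟩
  have e1 : 2 * p0 - b * r0 = a := by
    refine mul_right_cancel₀ hne ?_
    linear_combination 2 * hp0 - b * hr0
  have e2 : 2 * r0 - b * p0 = -c := by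
    refine mul_right_cancel₀ hne ?_
    linear_combination 2 * hr0 - b * hp0
  obtain ⟨x, y, hxy⟩ := Qf_surjective (t := -b) (d := 1)
    (Or.inr (by rw [neg_mul_neg, mul_one]; exact hB))
    (-(p0 * p0 - b * p0 * r0 + r0 * r0 - a * p0 + c * r0 + 1))
  obtain ⟨p, hp⟩ : ∃ p, p = p0 + x := ⟨_, rfl⟩
  obtain ⟨r, hr⟩ : ∃ r, r = r0 + y := ⟨_, rfl⟩
  have key : p * p - b * p * r + r * r - a * p + c * r + 1 = 0 := by
    rw [Qf] at hxy
    rw [hp, hr]
    linear_combination hxy + x * e1 + y * e2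
  have h := att_of_trace (B := B') hA (M := !![p, r; r + b * (a - p) - τ, a - p])
    (by rw [Matrix.det_fin_two]; simp; linear_combination -key + r * hc)
    (by rw [Matrix.trace_fin_two, ← ha]; simp)
  convert h using 1
  rw [hB', comp, Matrix.trace_fin_two]
  simp [Matrix.mul_apply, Fin.sum_univ_two]
  ring

/-- Semisimple times parabolic reaches every trace but possibly one. -/
theorem att_parabolic {A : SL2} (hA : A.1.trace * A.1.trace ≠ 4) {ε β : F} (hε : ε * ε = 1)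
    (hβ : β ≠ 0) {τ : F} (hτ : τ ≠ ε * A.1.trace ∨ roots A.1.trace 1 ≠ 0) :
    Att A (epU ε β hε) τ := by
  obtain ⟨a, ha⟩ : ∃ a, a = A.1.trace := ⟨_, rfl⟩
  rw [← ha] at hτ
  obtain ⟨u, hu⟩ : ∃ u, u * β = τ - ε * a := ⟨_, div_mul_cancel₀ _ hβ⟩
  have hex : ∃ p r, p * (a - p) - r * u = 1 := by
    by_cases hu0 : u = 0
    · have h := hτ.resolve_left (fun h => h (by rw [hu0, zero_mul] at hu; linear_combination -hu))
      rw [roots] at h
      obtain ⟨⟨k, hk⟩⟩ := (Nat.card_ne_zero.mp h).1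
      exact ⟨-k, 0, by linear_combination -hk⟩
    · exact ⟨0, -u⁻¹, by simp [hu0]⟩
  obtain ⟨p, r, hpr⟩ := hex
  have h := att_of_trace (B := epU ε β hε) hA (M := !![p, r; u, a - p])
    (by rw [Matrix.det_fin_two]; simpa using hpr)
    (by rw [Matrix.trace_fin_two, ← ha]; simp)
  convert h using 1
  rw [epU_val, Matrix.trace_fin_two]
  simp [Matrix.mul_apply, Fin.sum_univ_two]
  linear_combination -hu

theorem att_unipotent {δ α ε β : F} (hδ : δ * δ = 1) (hε : ε * ε = 1) (n : F) :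
    Att (epU δ α hδ) (epU ε β hε) (2 * δ * ε - α * β * (n * n)) := by
  obtain ⟨S, hS⟩ : ∃ S : SL2, S.1 = !![1, 0; n, 1] := ⟨PSL2.vS n, rfl⟩
  obtain ⟨S', hS'⟩ : ∃ S' : SL2, S'.1 = !![1, 0; -n, 1] := ⟨PSL2.vS (-n), rfl⟩
  have hinv : S⁻¹ = S' := inv_eq_of_mul_eq_one_right (Subtype.ext (by
    rw [val_mul', hS, hS', Matrix.SpecialLinearGroup.coe_one]
    ext i j
    fin_cases i <;> fin_cases j <;> simp [Matrix.mul_apply, Fin.sum_univ_two]))
  refine ⟨S * epU δ α hδ * S⁻¹, isConj_iff.mpr ⟨S, rfl⟩, ?_⟩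
  rw [hinv, val_mul', val_mul', val_mul', hS, hS', epU_val, epU_val, Matrix.trace_fin_two]
  simp [Matrix.mul_apply, Fin.sum_univ_two]
  ring

theorem exists_three_nonzero (h4 : 4 ≤ Fintype.card F) :
    ∃ u v w : F, (u ≠ 0 ∧ v ≠ 0 ∧ w ≠ 0) ∧ u ≠ v ∧ u ≠ w ∧ v ≠ w := by
  classical
  have h : 2 < ((Finset.univ : Finset F).erase 0).card := by
    rw [Finset.card_erase_of_mem (Finset.mem_univ _), Finset.card_univ]; omega
  obtain ⟨u, v, w, hu, hv, hw, h1, h2, h3⟩ := Finset.two_lt_card_iff.mp h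
  simp only [Finset.mem_erase] at hu hv hw
  exact ⟨u, v, w, ⟨hu.1, hv.1, hw.1⟩, h1, h2, h3⟩

/-- Three distinct traces are always attained. -/
theorem att_three (h4 : 4 ≤ Fintype.card F) {A B : SL2} (hA : ¬ IsSc A.1) (hB : ¬ IsSc B.1) :
    ∃ τ₁ τ₂ τ₃ : F, τ₁ ≠ τ₂ ∧ τ₁ ≠ τ₃ ∧ τ₂ ≠ τ₃ ∧ ∀ τ, (τ = τ₁ ∨ τ = τ₂ ∨ τ = τ₃) →
      Att A B τ ∨ Att B A τ := by
  obtain ⟨u, v, w, ⟨hu, hv, hw⟩, huv, huw, hvw⟩ := exists_three_nonzero h4
  have par : ∀ A B : SL2, A.1.trace * A.1.trace ≠ 4 → ¬ IsSc B.1 →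
      ∃ c : F, ∀ τ, τ ≠ c → Att A B τ := by
    intro A B hA hB
    by_cases hb : B.1.trace * B.1.trace = 4
    · obtain ⟨ε, hε, hte⟩ := exists_eps hb
      obtain ⟨β, hβ, hc⟩ := exists_epU hB hε hte
      exact ⟨ε * A.1.trace, fun τ hτ => att_conj hc (att_parabolic hA hε hβ (Or.inl hτ))⟩
    · exact ⟨0, fun τ _ => att_semisimple hA hb τ⟩
  by_cases ha : A.1.trace * A.1.trace = 4
  · by_cases hb : B.1.trace * B.1.trace = 4
    · obtain ⟨δ, hδ, hta⟩ := exists_eps ha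
      obtain ⟨ε, hε, hte⟩ := exists_eps hb
      obtain ⟨α, hα, hca⟩ := exists_epU hA hδ hta
      obtain ⟨β, hβ, hcb⟩ := exists_epU hB hε hte
      obtain ⟨s, hs0, hs1⟩ := exists_sq_ne_one h4
      have hatt : ∀ n : F, Att A B (2 * δ * ε - α * β * (n * n)) := fun n => by
        refine att_conj hcb ?_
        obtain ⟨X, hX, hτ⟩ := att_unipotent (α := α) (β := β) hδ hε n
        exact ⟨X, hca.trans hX, hτ⟩
      have hab : α * β ≠ 0 := mul_ne_zero hα hβ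
      refine ⟨2 * δ * ε - α * β * (0 * 0), 2 * δ * ε - α * β * (1 * 1), 2 * δ * ε - α * β * (s * s),
        fun h => hab ?_, fun h => mul_ne_zero hab (mul_ne_zero hs0 hs0) ?_,
        fun h => mul_ne_zero hab (sub_ne_zero.mpr hs1) ?_, fun τ hτ => Or.inl ?_⟩
      · linear_combination h
      · linear_combination h
      · linear_combination h
      · rcases hτ with rfl | rfl | rfl
        exacts [hatt 0, hatt 1, hatt s]
    · obtain ⟨c, hc⟩ := par B A hb hA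
      exact ⟨c + u, c + v, c + w, by simpa using huv, by simpa using huw, by simpa using hvw,
        fun τ hτ => Or.inr (hc τ (by rcases hτ with rfl | rfl | rfl <;> simpa))⟩
  · obtain ⟨c, hc⟩ := par A B ha hB
    exact ⟨c + u, c + v, c + w, by simpa using huv, by simpa using huw, by simpa using hvw,
      fun τ hτ => Or.inl (hc τ (by rcases hτ with rfl | rfl | rfl <;> simpa))⟩

theorem trace_of_pr_conj {g h : SL2} (e : IsConj (PSL2.pr g) (PSL2.pr h)) :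
    ∃ ε : F, ε * ε = 1 ∧ h.1.trace = ε * g.1.trace := by
  obtain ⟨c, hc⟩ := isConj_iff.mp e
  obtain ⟨S, rfl⟩ := PSL2.pr_surjective c
  rw [← map_inv, ← map_mul, ← map_mul, PSL2.pr_eq_iff] at hc
  obtain ⟨ε, hε, h1⟩ := hc
  refine ⟨ε, hε, ?_⟩
  have h2 := congrArg Matrix.trace h1
  rw [← trace_conj (g := g) (isConj_iff.mpr ⟨S, rfl⟩), Matrix.trace_smul, smul_eq_mul] at h2
  rw [h2, ← mul_assoc, hε, one_mul]

/-- The product of two classes of `PSL₂` is never a single class. -/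
theorem product_not_class (h4 : 4 ≤ Fintype.card F) (a b : P2) (ha : a ≠ 1) (hb : b ≠ 1) (c : P2) :
    {g : P2 | ∃ u v : P2, g = (u * a * u⁻¹) * (v * b * v⁻¹)} ≠ {g | IsConj c g} := by
  intro h
  obtain ⟨A, rfl⟩ := PSL2.pr_surjective a
  obtain ⟨B, rfl⟩ := PSL2.pr_surjective b
  obtain ⟨C, rfl⟩ := PSL2.pr_surjective c
  obtain ⟨τ₁, τ₂, τ₃, h12, h13, h23, hatt⟩ := att_three h4 (A := A) (B := B)
    (fun h => ha (pr_eq_one_iff.mpr h)) (fun h => hb (pr_eq_one_iff.mpr h))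
  have key : ∀ τ, (τ = τ₁ ∨ τ = τ₂ ∨ τ = τ₃) → τ = C.1.trace ∨ τ = -C.1.trace := by
    intro τ hτ
    obtain ⟨u, v, X, hX, ht⟩ : ∃ (u v : P2) (X : SL2),
        PSL2.pr X = (u * PSL2.pr A * u⁻¹) * (v * PSL2.pr B * v⁻¹) ∧ X.1.trace = τ := by
      rcases hatt τ hτ with ⟨Y, hY, ht⟩ | ⟨Y, hY, ht⟩
      · obtain ⟨S, hS⟩ := isConj_iff.mp hY
        exact ⟨PSL2.pr S, 1, Y * B, by rw [map_mul, ← hS]; simp, ht⟩
      · obtain ⟨S, hS⟩ := isConj_iff.mp hY
        exact ⟨1, PSL2.pr S, A * Y, by rw [map_mul, ← hS]; simp, by rw [trace_mul_comm', ht]⟩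
    have hm : PSL2.pr X ∈ {g : P2 | IsConj (PSL2.pr C) g} := h ▸ ⟨u, v, hX⟩
    obtain ⟨ε, hε, he⟩ := trace_of_pr_conj (g := C) (h := X) hm
    rw [ht] at he
    rcases mul_self_eq_one_iff.mp hε with rfl | rfl
    · left; rw [he, one_mul]
    · right; rw [he, neg_one_mul]
  rcases key τ₁ (Or.inl rfl) with e1 | e1 <;> rcases key τ₂ (Or.inr (Or.inl rfl)) with e2 | e2 <;>
    rcases key τ₃ (Or.inr (Or.inr rfl)) with e3 | e3 <;>
    first
      | exact h12 (e1.trans e2.symm)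
      | exact h13 (e1.trans e3.symm)
      | exact h23 (e2.trans e3.symm)

/-- A non-identity element is a product of two conjugates of a semisimple element. -/
theorem cover {A G : SL2} (hA : A.1.trace * A.1.trace ≠ 4) (hG : ¬ IsSc G.1)
    (hneg : (2 : F) ≠ 0 ∧ A.1.trace ≠ 0 ∨ roots A.1.trace 1 ≠ 0) :
    ∃ u v : P2, PSL2.pr G = (u * PSL2.pr A * u⁻¹) * (v * PSL2.pr A * v⁻¹) := by
  obtain ⟨G', hG', hatt⟩ : ∃ G' : SL2, PSL2.pr G' = PSL2.pr G ∧ Att A G' A.1.trace := by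
    by_cases hb : G.1.trace * G.1.trace = 4
    · obtain ⟨ε, hε, hte⟩ := exists_eps hb
      obtain ⟨β, hβ, hc⟩ := exists_epU hG hε hte
      by_cases hr : roots A.1.trace 1 ≠ 0
      · exact ⟨G, rfl, att_conj hc (att_parabolic hA hε hβ (Or.inr hr))⟩
      · obtain ⟨h2, h0⟩ := hneg.resolve_right hr
        rcases mul_self_eq_one_iff.mp hε with e | e
        · obtain ⟨G', hG'⟩ : ∃ G' : SL2, G'.1 = -G.1 :=
            ⟨mkSL (-G.1) (by rw [Matrix.det_neg, G.2, Fintype.card_fin]; norm_num), rfl⟩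
          have hns : ¬ IsSc G'.1 := fun ⟨c, hc⟩ => hG ⟨-c, by rw [neg_smul, ← hc, hG', neg_neg]⟩
          obtain ⟨β', hβ', hc'⟩ := exists_epU hns (ε := -1) (by ring)
            (by rw [hG', Matrix.trace_neg, hte, e]; ring)
          refine ⟨G', (PSL2.pr_eq_iff _ _).mpr ⟨-1, by ring, by rw [hG', neg_one_smul]⟩,
            att_conj hc' (att_parabolic hA (by ring) hβ' (Or.inl fun h => h0 ?_))⟩
          exact (mul_eq_zero.mp (show (2 : F) * A.1.trace = 0 by linear_combination h)).resolve_left h2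
        · refine ⟨G, rfl, att_conj hc (att_parabolic hA hε hβ (Or.inl fun h => h0 ?_))⟩
          rw [e] at h
          exact (mul_eq_zero.mp (show (2 : F) * A.1.trace = 0 by linear_combination h)).resolve_left h2
    · exact ⟨G, rfl, att_semisimple hA hb _⟩
  obtain ⟨X, hX, ht⟩ := hatt
  have hXt : X⁻¹.1.trace = A.1.trace := by
    rw [Matrix.SpecialLinearGroup.coe_inv, Matrix.adjugate_fin_two, trace_conj hX,
      Matrix.trace_fin_two, Matrix.trace_fin_two]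
    simp
    ring
  have hXi : IsConj A X⁻¹ :=
    isConj_of_trace (not_isSc_of_trace hA) (not_isSc_of_trace (by rwa [hXt])) hXt.symm (Or.inr hA)
  have hY : IsConj A (X * G') := isConj_of_trace (not_isSc_of_trace hA)
    (not_isSc_of_trace (by rwa [ht])) ht.symm (Or.inr hA)
  obtain ⟨S, hS⟩ := isConj_iff.mp hXi
  obtain ⟨T, hT⟩ := isConj_iff.mp hY
  refine ⟨PSL2.pr S, PSL2.pr T, ?_⟩
  rw [← hG', ← map_inv, ← map_inv, ← map_mul, ← map_mul, ← map_mul, ← map_mul, ← map_mul, hS, hT,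
    inv_mul_cancel_left]

theorem trace_ne_zero_of_order {A : SL2} (h : 2 < orderOf (PSL2.pr A)) : A.1.trace ≠ 0 := by
  intro h0
  have h1 : PSL2.pr A ^ 2 = 1 := by
    rw [← map_pow, pr_eq_one_iff, pow_two, val_mul', sq_eq, h0, zero_smul, zero_sub]
    exact ⟨-1, (neg_one_smul F _).symm⟩
  have := Nat.le_of_dvd two_pos (orderOf_dvd_of_pow_eq_one h1)
  omega

theorem cover_odd (p : ℕ) [Fact p.Prime] [CharP F p] (hp : p ≠ 2) (x : P2) (hx2 : 2 < orderOf x)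
    (hxp : ¬ p ∣ orderOf x) (g : P2) (hg : g ≠ 1) :
    ∃ u v : P2, g = (u * x * u⁻¹) * (v * x * v⁻¹) := by
  obtain ⟨A, rfl⟩ := PSL2.pr_surjective x
  obtain ⟨G, rfl⟩ := PSL2.pr_surjective g
  have hns : ¬ IsSc A.1 := fun h => by rw [pr_eq_one_iff.mpr h, orderOf_one] at hx2; omega
  have hA : A.1.trace * A.1.trace ≠ 4 := fun h => by
    obtain ⟨z, hz, hc⟩ := exists_pr_uS hns h
    obtain ⟨c, hc⟩ := isConj_iff.mp hc
    apply hxp
    have e : orderOf (c * PSL2.pr A * c⁻¹) = orderOf (PSL2.pr A) :=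
      orderOf_eq_orderOf_iff.mpr fun n => by rw [conj_pow, conj_eq_one_iff]
    rw [← orderOf_pr_uS p hz, ← hc, e]
  exact cover hA (fun h => hg (pr_eq_one_iff.mpr h))
    (Or.inl ⟨two_ne_zero_of_char p hp, trace_ne_zero_of_order hx2⟩)

theorem cover_even (h2 : (2 : F) = 0) (x : P2) (hx2 : 2 < orderOf x)
    (hxq : ¬ orderOf x ∣ Fintype.card F + 1) (g : P2) (hg : g ≠ 1) :
    ∃ u v : P2, g = (u * x * u⁻¹) * (v * x * v⁻¹) := by
  obtain ⟨A, rfl⟩ := PSL2.pr_surjective x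
  obtain ⟨G, rfl⟩ := PSL2.pr_surjective g
  have h0 := trace_ne_zero_of_order hx2
  have hA : A.1.trace * A.1.trace ≠ 4 := fun h => h0 (mul_self_eq_zero.mp (by linear_combination h + 2 * h2))
  refine cover hA (fun h => hg (pr_eq_one_iff.mpr h)) (Or.inr fun hr => hxq ?_)
  have h := orderOf_dvd_of_pow_eq_one (pr_pow_sol hA)
  rw [center_card_even h2, Nat.div_one] at h
  rcases sol_eq hA with ⟨h', -⟩ | ⟨-, hs⟩
  · omega
  · rwa [hs] at h

end Cfsg.Agent.Small.SL2C
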