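import Cfsg.Agent.Lib.Small.SL2.Torus
import Cfsg.Agent.Lib.Small.SL2.Borel
import Cfsg.Agent.Lib.Small.SL2.Orders
import Cfsg.Agent.Lib.Perm.NoFixConj.Solvable
import Cfsg.Agent.Lib.Lie.OddGraphPSL2

/-!
Pairs of elements generating a solvable subgroup of `SL₂(2ⁿ)`.
-/

set_option autoImplicit false
set_option linter.unusedSectionVars false

namespace Cfsg.Agent.Small.SolvPairs

open Matrix Cfsg.Agent.Small Cfsg.Agent.Small.SL2C

variable {F : Type*} [Field F] [Fintype F]

local notation "M2" => Matrix (Fin 2) (Fin 2) F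
local notation "SL2" => Matrix.SpecialLinearGroup (Fin 2) F

/-- The two elements generate a solvable group. -/
def SPair {G : Type*} [Group G] (x y : G) : Prop := Group.IsSolvable (Subgroup.closure ({x, y} : Set G))

/-- A group with a cyclic normal subgroup inverted by a generator is solvable. -/
theorem solvable_two {G : Type*} [Group G] {u v : G} (hu : u * u = 1) (hv : v * v = 1) : SPair u v := by
  obtain ⟨H, hH⟩ : ∃ H : Subgroup G, H = Subgroup.closure {u, v} := ⟨_, rfl⟩
  have huH : u ∈ H := hH ▸ Subgroup.subset_closure (by simp)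
  have hvH : v ∈ H := hH ▸ Subgroup.subset_closure (by simp)
  obtain ⟨U, hU⟩ : ∃ U : H, U = ⟨u, huH⟩ := ⟨_, rfl⟩
  obtain ⟨V, hV⟩ : ∃ V : H, V = ⟨v, hvH⟩ := ⟨_, rfl⟩
  have hUU : U⁻¹ = U := inv_eq_of_mul_eq_one_left (hU ▸ Subtype.ext hu)
  have hVV : V⁻¹ = V := inv_eq_of_mul_eq_one_left (hV ▸ Subtype.ext hv)
  have htop : Subgroup.closure ({U, V} : Set H) = ⊤ := by
    refine (Subgroup.map_injective H.subtype_injective) ?_
    rw [MonoidHom.map_closure, ← MonoidHom.range_eq_map, Subgroup.range_subtype, Set.image_pair, hU, hV]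
    exact hH.symm
  have hgen : ∀ z ∈ Subgroup.zpowers (U * V), ∀ w ∈ ({U, V} : Set H), w * z * w⁻¹ ∈ Subgroup.zpowers (U * V) := by
    intro z hz w hw
    obtain ⟨i, rfl⟩ := Subgroup.mem_zpowers_iff.1 hz
    have e : w * (U * V) * w⁻¹ = (U * V)⁻¹ := by
      rw [_root_.mul_inv_rev, hUU, hVV]
      rcases hw with rfl | hw
      · rw [hUU, ← mul_assoc, show w * w = 1 from inv_eq_iff_mul_eq_one.1 hUU, one_mul]
      · obtain rfl : w = V := hw
        rw [hVV, mul_assoc, mul_assoc, show w * w = 1 from inv_eq_iff_mul_eq_one.1 hVV, mul_one]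
    rw [← conj_zpow, e]
    exact zpow_mem (inv_mem (Subgroup.mem_zpowers _)) i
  haveI hN : (Subgroup.zpowers (U * V)).Normal := by
    refine ⟨fun z hz w => ?_⟩
    have hw : w ∈ Subgroup.closure ({U, V} : Set H) := htop ▸ Subgroup.mem_top w
    induction hw using Subgroup.closure_induction generalizing z with
    | mem w hw => exact hgen z hz w hw
    | one => simpa using hz
    | mul a b _ _ iha ihb =>
      rw [show a * b * z * (a * b)⁻¹ = a * (b * z * b⁻¹) * a⁻¹ by group]
      exact iha _ (ihb z hz)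
    | inv a _ iha =>
      have hfin : ∀ g ∈ Subgroup.zpowers (U * V), a * g * a⁻¹ ∈ Subgroup.zpowers (U * V) := iha
      obtain ⟨i, hi⟩ := Subgroup.mem_zpowers_iff.1 (hfin _ (Subgroup.mem_zpowers (U * V)))
      obtain ⟨j, rfl⟩ := Subgroup.mem_zpowers_iff.1 hz
      have hw2 : ∀ w ∈ ({U, V} : Set H), w * (U * V) * w⁻¹ ∈ ({U * V, (U * V)⁻¹} : Set H) := by
        intro w hw
        have : w * (U * V) * w⁻¹ = (U * V)⁻¹ := by
          rw [_root_.mul_inv_rev, hUU, hVV]
          rcases hw with rfl | hw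
          · rw [hUU, ← mul_assoc, show w * w = 1 from inv_eq_iff_mul_eq_one.1 hUU, one_mul]
          · obtain rfl : w = V := hw
            rw [hVV, mul_assoc, mul_assoc, show w * w = 1 from inv_eq_iff_mul_eq_one.1 hVV, mul_one]
        rw [this]; exact Or.inr rfl
      have hall : ∀ w ∈ Subgroup.closure ({U, V} : Set H),
          w * (U * V) * w⁻¹ = U * V ∨ w * (U * V) * w⁻¹ = (U * V)⁻¹ := by
        intro w hw
        induction hw using Subgroup.closure_induction with
        | mem w hw => exact hw2 w hw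
        | one => left; simp
        | mul p q _ _ hp hq =>
          have e : p * q * (U * V) * (p * q)⁻¹ = p * (q * (U * V) * q⁻¹) * p⁻¹ := by group
          rw [e]
          rcases hq with hq | hq <;> rw [hq]
          · exact hp
          · rcases hp with hp | hp
            · right; rw [← conj_inv, hp]
            · left; rw [← conj_inv, hp, inv_inv]
        | inv p _ hp =>
          rcases hp with hp | hp
          · left
            calc p⁻¹ * (U * V) * p⁻¹⁻¹ = p⁻¹ * (p * (U * V) * p⁻¹) * p := by rw [hp]; group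
              _ = U * V := by group
          · right
            calc p⁻¹ * (U * V) * p⁻¹⁻¹ = p⁻¹ * (U * V) * p := by group
              _ = p⁻¹ * (p * (U * V) * p⁻¹)⁻¹ * p := by rw [hp, inv_inv]
              _ = (U * V)⁻¹ := by group
      rcases hall a⁻¹ (htop ▸ Subgroup.mem_top _) with h | h
      · rw [← conj_zpow, h]; exact zpow_mem (Subgroup.mem_zpowers _) j
      · rw [← conj_zpow, h]; exact zpow_mem (inv_mem (Subgroup.mem_zpowers _)) j
  have hcomm : ∀ a b : H ⧸ Subgroup.zpowers (U * V), a * b = b * a := by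
    have himg : ∀ a : H ⧸ Subgroup.zpowers (U * V), a ∈ Subgroup.zpowers (U : H ⧸ Subgroup.zpowers (U * V)) := by
      intro a
      obtain ⟨w, rfl⟩ := QuotientGroup.mk'_surjective _ a
      have hw : w ∈ Subgroup.closure ({U, V} : Set H) := htop ▸ Subgroup.mem_top w
      induction hw using Subgroup.closure_induction with
      | mem w hw =>
        rcases hw with rfl | hw
        · exact Subgroup.mem_zpowers _
        · obtain rfl : w = V := hw
          refine ⟨-1, ?_⟩
          show (U : H ⧸ Subgroup.zpowers (U * w)) ^ (-1 : ℤ) = _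
          rw [_root_.zpow_neg_one, QuotientGroup.mk'_apply, ← QuotientGroup.mk_inv, QuotientGroup.eq, inv_inv]
          exact Subgroup.mem_zpowers _
      | one => exact one_mem _
      | mul a b _ _ ha hb => rw [map_mul]; exact mul_mem ha hb
      | inv a _ ha => rw [map_inv]; exact inv_mem ha
    intro a b
    obtain ⟨i, rfl⟩ := Subgroup.mem_zpowers_iff.1 (himg a)
    obtain ⟨j, rfl⟩ := Subgroup.mem_zpowers_iff.1 (himg b)
    exact zpow_mul_comm _ i j
  haveI : Group.IsSolvable (Subgroup.zpowers (U * V)) := Group.isSolvable_of_comm fun a b => by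
    letI := (inferInstance : IsCyclic (Subgroup.zpowers (U * V)))
    exact IsCyclic.commGroup.mul_comm a b
  haveI : Group.IsSolvable (H ⧸ Subgroup.zpowers (U * V)) := Group.isSolvable_of_comm hcomm
  have hs : Group.IsSolvable H := Group.isSolvable_of_ker_le_range (Subgroup.zpowers (U * V)).subtype
    (QuotientGroup.mk' (Subgroup.zpowers (U * V))) (by rw [QuotientGroup.ker_mk', Subgroup.range_subtype])
  rw [SPair, ← hH]
  exact hs

theorem SPair.mul_left {G : Type*} [Group G] {x y : G} (h : SPair x (x * y)) : SPair x y := by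
  have hle : Subgroup.closure ({x, y} : Set G) ≤ Subgroup.closure {x, x * y} := by
    rw [Subgroup.closure_le]
    intro a ha
    rcases ha with ha | ha <;> rw [ha]
    · exact Subgroup.subset_closure (by simp)
    · have := mul_mem (inv_mem (Subgroup.subset_closure (show x ∈ ({x, x * y} : Set G) by simp)))
        (Subgroup.subset_closure (show x * y ∈ ({x, x * y} : Set G) by simp))
      rwa [inv_mul_cancel_left] at this
  haveI : Group.IsSolvable (Subgroup.closure ({x, x * y} : Set G)) := h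
  exact Group.isSolvable_of_isSolvable_injective (Subgroup.inclusion_injective hle)

theorem SPair.of_commute {G : Type*} [Group G] {x y : G} (h : x * y = y * x) : SPair x y := by
  letI : CommGroup (Subgroup.closure ({x, y} : Set G)) :=
    Subgroup.closureCommGroupOfComm (by
      rintro a (rfl | rfl) b (rfl | rfl) <;> first | rfl | exact h | exact h.symm)
  exact Group.isSolvable_of_comm fun a b => mul_comm a b

theorem SPair.of_le {G : Type*} [Group G] {x y : G} (L : Subgroup G) [Group.IsSolvable L] (hx : x ∈ L) (hy : y ∈ L) :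
    SPair x y :=
  Group.isSolvable_of_isSolvable_injective (Subgroup.inclusion_injective
    ((Subgroup.closure_le L).2 (by rintro a (rfl | rfl) <;> assumption) : Subgroup.closure ({x, y} : Set G) ≤ L))

instance borel_solvable : Group.IsSolvable (borelSL F) := by
  let χ : borelSL F →* Fˣ :=
    MonoidHom.mk' (fun g => Units.mk0 (g.1.1 0 0) (fun h => by
      have hd : g.1.1 0 0 * g.1.1 1 1 - g.1.1 0 1 * g.1.1 1 0 = 1 := by rw [← Matrix.det_fin_two]; exact g.1.2
      rw [h, mem_borelSL.1 g.2] at hd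
      simp at hd)) fun g k => Units.ext (by
      show (g.1.1 * k.1.1) 0 0 = g.1.1 0 0 * k.1.1 0 0
      rw [Matrix.mul_apply, Fin.sum_univ_two, mem_borelSL.1 k.2]
      ring)
  haveI : Group.IsSolvable χ.ker := by
    have hker : ∀ a : χ.ker, a.1.1.1 0 0 = 1 ∧ a.1.1.1 1 0 = 0 ∧ a.1.1.1 1 1 = 1 := by
      intro a
      have h1 : a.1.1.1 0 0 = 1 := congrArg Units.val a.2
      have h2 : a.1.1.1 1 0 = 0 := mem_borelSL.1 a.1.2
      have hd : a.1.1.1 0 0 * a.1.1.1 1 1 - a.1.1.1 0 1 * a.1.1.1 1 0 = 1 := by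
        rw [← Matrix.det_fin_two]; exact a.1.1.2
      rw [h1, h2] at hd
      exact ⟨h1, h2, by linear_combination hd⟩
    refine Group.isSolvable_of_comm fun a b => Subtype.ext (Subtype.ext (Subtype.ext ?_))
    show a.1.1.1 * b.1.1.1 = b.1.1.1 * a.1.1.1
    obtain ⟨a1, a2, a3⟩ := hker a
    obtain ⟨b1, b2, b3⟩ := hker b
    ext i j
    fin_cases i <;> fin_cases j <;> simp [Matrix.mul_apply, Fin.sum_univ_two, a1, a2, a3, b1, b2, b3] <;> ring
  exact Group.isSolvable_of_ker_le_range χ.ker.subtype χ (by rw [Subgroup.range_subtype])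

/-- In characteristic two the elements of trace zero are those of square one. -/
theorem sq_iff (h2 : (2 : F) = 0) (g : SL2) : g * g = 1 ↔ g.1.trace = 0 := by
  constructor
  · intro h
    have h1 : g.1.trace • g.1 = (2 : F) • (1 : M2) := by
      have := congrArg (fun Y : SL2 => Y.1) h
      simp only [val_mul', sq_eq, Matrix.SpecialLinearGroup.coe_one] at this
      linear_combination (norm := module) this
    rw [h2, zero_smul] at h1
    rcases smul_eq_zero.1 h1 with h0 | h0
    · exact h0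
    · rw [h0, Matrix.trace_zero]
  · intro h
    apply Subtype.ext
    rw [val_mul', sq_eq, h, zero_smul, zero_sub, Matrix.SpecialLinearGroup.coe_one]
    have h11 : (1 : F) + 1 = 0 := by rw [one_add_one_eq_two]; exact h2
    rw [← neg_one_smul F (1 : M2), ← eq_neg_of_add_eq_zero_left h11, one_smul]

theorem not_sc_of_ne_one (h2 : (2 : F) = 0) {g : SL2} (h : g ≠ 1) : ¬ IsSc g.1 := by
  rintro ⟨c, hc⟩
  refine h (Subtype.ext ?_)
  have hd := g.2
  rw [hc, Matrix.det_smul, Matrix.det_one, mul_one, Fintype.card_fin, pow_two] at hd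
  have : (c - 1) * (c - 1) = 0 := by linear_combination hd + (1 - c) * h2
  rw [hc, sub_eq_zero.1 (mul_self_eq_zero.1 this), one_smul, Matrix.SpecialLinearGroup.coe_one]

theorem trace_conj' (h g : SL2) : (h * g * h⁻¹).1.trace = g.1.trace :=
  (trace_conj (isConj_iff.2 ⟨h, rfl⟩)).symm

/-- The three cases of a solvable pair. -/
theorem cases_of_spair (h2 : (2 : F) = 0) {X Y : SL2} (hX : X ≠ 1) (h : SPair X Y) :
    X * Y = Y * X ∨ (∃ v : Fin 2 → F, v ≠ 0 ∧ (∃ a : F, X.1 *ᵥ v = a • v) ∧ ∃ b : F, Y.1 *ᵥ v = b • v) ∨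
      (Y * Y = 1 ∧ X * Y * (X * Y) = 1) ∨ (X * X = 1 ∧ (Y * Y = 1 ∨ X * Y * (X * Y) = 1)) := by
  obtain ⟨H, hH⟩ : ∃ H : Subgroup SL2, H = Subgroup.closure {X, Y} := ⟨_, rfl⟩
  have hXH : X ∈ H := hH ▸ Subgroup.subset_closure (by simp)
  have hYH : Y ∈ H := hH ▸ Subgroup.subset_closure (by simp)
  haveI : Nontrivial H := ⟨⟨⟨X, hXH⟩, 1, fun e => hX (congrArg Subtype.val e)⟩⟩
  obtain ⟨A, hAn, hA1, hAc⟩ := Cfsg.Agent.Perm.NoFixConj.exists_abelian_normal_ne_bot
    (show Group.IsSolvable H from hH ▸ h)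
  obtain ⟨g', hg', hgne⟩ := A.bot_or_exists_ne_one.resolve_left hA1
  obtain ⟨g, hg⟩ : ∃ g : SL2, g = g' := ⟨_, rfl⟩
  have hg1 : g ≠ 1 := fun e => hgne (Subtype.ext (hg ▸ e))
  have hgs := not_sc_of_ne_one h2 hg1
  have hcg : ∀ k ∈ H, (k * g * k⁻¹) * g = g * (k * g * k⁻¹) := fun k hk => by
    have := hAc _ (hAn.conj_mem g' hg' ⟨k, hk⟩) _ hg'
    rw [hg]
    exact congrArg Subtype.val this.eq
  by_cases ht : g.1.trace = 0
  · -- a unipotent normal subgroup
    right; left
    obtain ⟨v, c, hv, hvg⟩ : ∃ (v : Fin 2 → F) (c : F), v ≠ 0 ∧ g.1 *ᵥ v = c • v := by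
      obtain ⟨v, hv, h1⟩ := Matrix.exists_mulVec_eq_zero_iff.mpr
        (show (comb g.1 1 1).det = 0 by rw [det_comb, g.2, Qf, ht]; linear_combination h2)
      refine ⟨v, -1, hv, ?_⟩
      simp only [comb, one_smul, Matrix.add_mulVec, Matrix.one_mulVec] at h1
      rw [neg_smul, one_smul]
      exact eq_neg_of_add_eq_zero_right h1
    have hline : ∀ k ∈ H, ∃ b : F, k.1 *ᵥ v = b • v := by
      intro k hk
      obtain ⟨u, w, hkg⟩ := exists_comb hgs (congrArg (fun Y : SL2 => Y.1) (hcg k hk))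
      have hw : w ≠ 0 := by
        rintro rfl
        refine not_sc_of_ne_one h2 (g := k * g * k⁻¹) (fun e => hg1 ?_) ⟨u, by simp [hkg, comb]⟩
        exact conj_eq_one_iff.1 e
      have hfix : (k * g * k⁻¹).1 *ᵥ (k.1 *ᵥ v) = c • (k.1 *ᵥ v) := by
        rw [Matrix.mulVec_mulVec, ← val_mul', inv_mul_cancel_right, val_mul', ← Matrix.mulVec_mulVec, hvg,
          Matrix.mulVec_smul]
      rw [hkg, comb, Matrix.add_mulVec, Matrix.smul_mulVec, Matrix.smul_mulVec, Matrix.one_mulVec] at hfix
      -- `k v` is an eigenvector of `g`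
      obtain ⟨d, hgd⟩ : ∃ d : F, g.1 *ᵥ (k.1 *ᵥ v) = d • (k.1 *ᵥ v) := ⟨(c - u) / w, by
        apply smul_right_injective (Fin 2 → F) hw
        show w • (g.1 *ᵥ (k.1 *ᵥ v)) = w • (((c - u) / w) • (k.1 *ᵥ v))
        rw [smul_smul, mul_div_cancel₀ _ hw, sub_smul, eq_sub_iff_add_eq, add_comm]
        exact hfix⟩
      by_contra hb
      push Not at hb
      -- two independent eigenvectors make `g` scalar
      have hdet : v 0 * (k.1 *ᵥ v) 1 - v 1 * (k.1 *ᵥ v) 0 ≠ 0 := by
        intro h0
        by_cases hv0 : v 0 = 0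
        · have hv1 : v 1 ≠ 0 := fun e => hv (funext fun i => by fin_cases i <;> assumption)
          rw [hv0, zero_mul, zero_sub, neg_eq_zero] at h0
          refine hb ((k.1 *ᵥ v) 1 / v 1) (funext fun i => ?_)
          fin_cases i
          · show (k.1 *ᵥ v) 0 = (k.1 *ᵥ v) 1 / v 1 * v 0
            rw [hv0, mul_zero]; exact (mul_eq_zero.1 h0).resolve_left hv1
          · show (k.1 *ᵥ v) 1 = (k.1 *ᵥ v) 1 / v 1 * v 1
            rw [div_mul_cancel₀ _ hv1]
        · refine hb ((k.1 *ᵥ v) 0 / v 0) (funext fun i => ?_)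
          fin_cases i
          · show (k.1 *ᵥ v) 0 = (k.1 *ᵥ v) 0 / v 0 * v 0
            rw [div_mul_cancel₀ _ hv0]
          · show (k.1 *ᵥ v) 1 = (k.1 *ᵥ v) 0 / v 0 * v 1
            rw [div_mul_eq_mul_div, eq_div_iff hv0]
            linear_combination h0
      obtain ⟨z, hz⟩ : ∃ z, z = k.1 *ᵥ v := ⟨_, rfl⟩
      rw [← hz] at hgd hdet
      have a0 : g.1 0 0 * v 0 + g.1 0 1 * v 1 = c * v 0 := by
        simpa [Matrix.mulVec, dotProduct, Fin.sum_univ_two] using congrFun hvg 0
      have a1 : g.1 1 0 * v 0 + g.1 1 1 * v 1 = c * v 1 := by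
        simpa [Matrix.mulVec, dotProduct, Fin.sum_univ_two] using congrFun hvg 1
      have b0 : g.1 0 0 * z 0 + g.1 0 1 * z 1 = d * z 0 := by
        simpa [Matrix.mulVec, dotProduct, Fin.sum_univ_two] using congrFun hgd 0
      have b1 : g.1 1 0 * z 0 + g.1 1 1 * z 1 = d * z 1 := by
        simpa [Matrix.mulVec, dotProduct, Fin.sum_univ_two] using congrFun hgd 1
      have hcd : c + d = 0 ∧ c * d = 1 := by
        have e1 : (g.1 0 0 + g.1 1 1 - c - d) * (v 0 * z 1 - v 1 * z 0) = 0 := by
          linear_combination z 1 * a0 - z 0 * a1 - v 1 * b0 + v 0 * b1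
        have e2 : (g.1 0 0 * g.1 1 1 - g.1 0 1 * g.1 1 0 - c * d) * (v 0 * z 1 - v 1 * z 0) = 0 := by
          linear_combination (g.1 1 0 * z 0 + g.1 1 1 * z 1) * a0 - (g.1 0 0 * z 0 + g.1 0 1 * z 1) * a1
            + c * v 0 * b1 - c * v 1 * b0
        have e1' := (mul_eq_zero.1 e1).resolve_right hdet
        have e2' := (mul_eq_zero.1 e2).resolve_right hdet
        rw [Matrix.trace_fin_two] at ht
        have hd : g.1 0 0 * g.1 1 1 - g.1 0 1 * g.1 1 0 = 1 := by rw [← Matrix.det_fin_two]; exact g.2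
        exact ⟨by linear_combination ht - e1', by linear_combination hd - e2'⟩
      have hcd' : c = d := by linear_combination hcd.1 - d * h2
      subst hcd'
      refine hgs ((isSc_iff _).2 ⟨?_, ?_, ?_⟩)
      · exact (mul_eq_zero.1 (show g.1 0 1 * (v 0 * z 1 - v 1 * z 0) = 0 by
          linear_combination v 0 * b0 - z 0 * a0)).resolve_right hdet
      · exact (mul_eq_zero.1 (show g.1 1 0 * (v 0 * z 1 - v 1 * z 0) = 0 by
          linear_combination z 1 * a1 - v 1 * b1)).resolve_right hdet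
      · have e00 : (g.1 0 0 - c) * (v 0 * z 1 - v 1 * z 0) = 0 := by linear_combination z 1 * a0 - v 1 * b0
        have e11 : (g.1 1 1 - c) * (v 0 * z 1 - v 1 * z 0) = 0 := by linear_combination v 0 * b1 - z 0 * a1
        rw [sub_eq_zero.1 ((mul_eq_zero.1 e00).resolve_right hdet),
          sub_eq_zero.1 ((mul_eq_zero.1 e11).resolve_right hdet)]
    exact ⟨v, hv, hline X hXH, hline Y hYH⟩
  · -- a torus
    have hcase : ∀ k ∈ H, k * g = g * k ∨ (k * k = 1 ∧ k * g = g⁻¹ * k) := by
      intro k hk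
      obtain ⟨u, w, hkg⟩ := exists_comb hgs (congrArg (fun Y : SL2 => Y.1) (hcg k hk))
      have h1 := trace_conj' k g
      rw [hkg, comb_trace, h2, zero_mul, zero_add] at h1
      have hw : w = 1 := mul_right_cancel₀ ht (h1.trans (one_mul _).symm)
      subst hw
      have hd := (k * g * k⁻¹).2
      rw [hkg, det_comb, g.2, Qf] at hd
      have hu : u * (u + g.1.trace) = 0 := by linear_combination hd
      rcases mul_eq_zero.1 hu with hu | hu
      · left
        have e : k * g * k⁻¹ = g := Subtype.ext (by rw [hkg, hu]; simp [comb])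
        calc k * g = k * g * k⁻¹ * k := by group
          _ = g * k := by rw [e]
      · right
        have hu' : u = g.1.trace := by linear_combination hu - g.1.trace * h2
        have e : k * g * k⁻¹ = g⁻¹ := Subtype.ext (by
          rw [hkg, hu', inv_val, comb, one_smul, sub_eq_add_neg]
          have h11 : (1 : F) + 1 = 0 := by rw [one_add_one_eq_two]; exact h2
          rw [show -g.1 = (-1 : F) • g.1 by rw [neg_one_smul], ← eq_neg_of_add_eq_zero_left h11, one_smul])
        have e' : k * g = g⁻¹ * k := by rw [← e]; group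
        refine ⟨(sq_iff h2 k).2 ?_, e'⟩
        have h3 := congrArg (fun Y : SL2 => Y.1.trace) e'
        simp only [val_mul', inv_val, Matrix.sub_mul, Matrix.smul_mul, Matrix.one_mul, Matrix.trace_sub,
          Matrix.trace_smul, smul_eq_mul, Matrix.trace_mul_comm g.1 k.1] at h3
        refine (mul_eq_zero.1 (show g.1.trace * k.1.trace = 0 from ?_)).resolve_left ht
        linear_combination (k.1 * g.1).trace * h2 - h3
    have hinv : ∀ k₁ ∈ H, ∀ k₂ ∈ H, k₁ * g = g * k₁ → k₂ * g = g⁻¹ * k₂ → k₁ * k₂ * (k₁ * k₂) = 1 := by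
      intro k₁ h₁ k₂ h₂ e₁ e₂
      have e1' : k₁ * g⁻¹ = g⁻¹ * k₁ := (Commute.inv_right e₁).eq
      have e3 : k₁ * k₂ * g = g⁻¹ * (k₁ * k₂) := by rw [mul_assoc, e₂, ← mul_assoc, e1', mul_assoc]
      rcases hcase _ (mul_mem h₁ h₂) with h | h
      · exfalso
        refine inv_ne_self (g := g) (fun e => ht ?_) (mul_right_cancel (e3.symm.trans h))
        exact mul_self_eq_zero.1 (by linear_combination e + 2 * h2)
      · exact h.1
    rcases hcase X hXH with hx | ⟨hx, hx'⟩ <;> rcases hcase Y hYH with hy | ⟨hy, hy'⟩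
    · left
      exact (tor_comm hgs X (Subgroup.mem_centralizer_singleton_iff.2 hx) Y
        (Subgroup.mem_centralizer_singleton_iff.2 hy))
    · exact Or.inr (Or.inr (Or.inl ⟨hy, hinv X hXH Y hYH hx hy'⟩))
    · refine Or.inr (Or.inr (Or.inr ⟨hx, Or.inr ?_⟩))
      have h := hinv Y hYH X hXH hy hx'
      calc X * Y * (X * Y) = X * (Y * X * (Y * X)) * X⁻¹ := by group
        _ = 1 := by rw [h]; group
    · exact Or.inr (Or.inr (Or.inr ⟨hx, Or.inl hy⟩))

end Cfsg.Agent.Small.SolvPairs
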