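import Cfsg.Agent.Lib.Small.SL2.SolvablePairs

/-!
Counting the partners of an element in a solvable pair in `SL₂(2ⁿ)`.
-/

set_option autoImplicit false
set_option linter.unusedSectionVars false

namespace Cfsg.Agent.Small.SolvPairs

open Matrix Cfsg.Agent.Small Cfsg.Agent.Small.SL2C

variable {F : Type*} [Field F] [Fintype F]

local notation "M2" => Matrix (Fin 2) (Fin 2) F
local notation "SL2" => Matrix.SpecialLinearGroup (Fin 2) F

theorem det_eq (g : SL2) : g.1 0 0 * g.1 1 1 - g.1 0 1 * g.1 1 0 = 1 := by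
  rw [← Matrix.det_fin_two]; exact g.2

theorem ext4 {g k : SL2} (h00 : g.1 0 0 = k.1 0 0) (h01 : g.1 0 1 = k.1 0 1) (h10 : g.1 1 0 = k.1 1 0)
    (h11 : g.1 1 1 = k.1 1 1) : g = k := by
  refine Subtype.ext (Matrix.ext fun i j => ?_)
  fin_cases i <;> fin_cases j <;> assumption

theorem spair_symm_map {G : Type*} [Group G] {x y : G} (e : G ≃* G) : SPair (e x) (e y) ↔ SPair x y := by
  have hm : Subgroup.closure ({e x, e y} : Set G) = (Subgroup.closure ({x, y} : Set G)).map e.toMonoidHom := by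
    rw [MonoidHom.map_closure, Set.image_pair]; rfl
  obtain ⟨H, hH⟩ : ∃ H : Subgroup G, H = Subgroup.closure {x, y} := ⟨_, rfl⟩
  rw [SPair, SPair, hm, ← hH]
  have e' := H.equivMapOfInjective e.toMonoidHom e.injective
  constructor <;> intro h <;> haveI := h
  · exact Group.isSolvable_of_isSolvable_injective (f := e'.toMonoidHom) e'.injective
  · exact Group.isSolvable_of_isSolvable_injective (f := e'.symm.toMonoidHom) e'.symm.injective

/-- The number of partners is a class invariant. -/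
theorem count_conj {X X' : SL2} (h : IsConj X X') :
    Nat.card {Y : SL2 // SPair X Y} = Nat.card {Y : SL2 // SPair X' Y} := by
  obtain ⟨S, rfl⟩ := isConj_iff.1 h
  exact Nat.card_congr (Equiv.subtypeEquiv (MulAut.conj S).toEquiv fun Y =>
    (spair_symm_map (x := X) (y := Y) (MulAut.conj S)).symm)

theorem ncard_eq {α β : Type*} {s : Set α} {t : Set β} (e : s ≃ t) : s.ncard = t.ncard := Nat.card_congr e

section lower

/-- Elements of trace zero, by their off-diagonal entries. -/
theorem card_trace_zero (h2 : (2 : F) = 0) :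
    {Y : SL2 | Y.1.trace = 0}.ncard = Fintype.card F * Fintype.card F := by
  have hsurj : ∀ v : F × F, ∃ s : F, s * s = 1 + v.1 * v.2 := fun v => isSquare_of_two h2 _
  choose r hr using hsurj
  have hsq : ∀ s t : F, s * s = t * t → s = t := fun s t h =>
    sub_eq_zero.1 (mul_self_eq_zero.1 (show (s - t) * (s - t) = 0 by linear_combination h + (t * t - s * t) * h2))
  rw [← Nat.card_coe_set_eq, ← Fintype.card_prod, ← Nat.card_eq_fintype_card]
  refine Nat.card_congr
    { toFun := fun Y => (Y.1.1 0 1, Y.1.1 1 0)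
      invFun := fun v => ⟨mkSL !![r v, v.1; v.2, r v] (by rw [Matrix.det_fin_two_of]; linear_combination hr v), by
        show Matrix.trace !![r v, v.1; v.2, r v] = 0
        rw [Matrix.trace_fin_two_of]; linear_combination r v * h2⟩
      left_inv := fun Y => ?_
      right_inv := fun v => rfl }
  have ht : Y.1.1 0 0 + Y.1.1 1 1 = 0 := by rw [← Matrix.trace_fin_two]; exact Y.2
  have h11 : Y.1.1 1 1 = Y.1.1 0 0 := by linear_combination ht - Y.1.1 0 0 * h2
  have hd := det_eq Y.1
  rw [h11] at hd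
  have e : r (Y.1.1 0 1, Y.1.1 1 0) = Y.1.1 0 0 := hsq _ _ (by rw [hr]; linear_combination -hd)
  exact Subtype.ext (ext4 e rfl rfl (e.trans h11.symm))

theorem card_lower :
    {Y : SL2 | Y.1 1 0 = 0}.ncard = (Fintype.card F - 1) * Fintype.card F := by
  classical
  rw [← Nat.card_coe_set_eq, ← Fintype.card_units, ← Fintype.card_prod, ← Nat.card_eq_fintype_card]
  refine Nat.card_congr
    { toFun := fun Y => (Units.mk0 (Y.1.1 0 0) (fun h => by
          have hd := det_eq Y.1
          rw [h, show Y.1.1 1 0 = 0 from Y.2] at hd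
          simp at hd), Y.1.1 0 1)
      invFun := fun v => ⟨mkSL !![(v.1 : F), v.2; 0, ((v.1⁻¹ : Fˣ) : F)] (by
        rw [Matrix.det_fin_two_of, mul_zero, sub_zero, Units.mul_inv]), rfl⟩
      left_inv := fun Y => ?_
      right_inv := fun v => Prod.ext (Units.ext rfl) rfl }
  refine Subtype.ext (ext4 rfl rfl (show Y.1.1 1 0 = 0 from Y.2).symm ?_)
  have hd := det_eq Y.1
  rw [show Y.1.1 1 0 = 0 from Y.2, mul_zero, sub_zero] at hd
  show ((_ : Fˣ)⁻¹ : Fˣ).val = Y.1.1 1 1
  rw [Units.val_inv_eq_inv_val]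
  exact inv_eq_of_mul_eq_one_right hd

/-- Partners of a transvection. -/
theorem count_invol (h2 : (2 : F) = 0) :
    Nat.card {Y : SL2 // SPair (mkSL !![(1 : F), 1; 0, 1] (by rw [Matrix.det_fin_two_of]; ring)) Y} =
      3 * Fintype.card F * (Fintype.card F - 1) := by
  obtain ⟨U, hU⟩ : ∃ U : SL2, U = mkSL !![(1 : F), 1; 0, 1] (by rw [Matrix.det_fin_two_of]; ring) := ⟨_, rfl⟩
  rw [← hU]
  have hUv : U.1 = !![(1 : F), 1; 0, 1] := hU ▸ rfl
  have hU1 : U ≠ 1 := fun h => by
    have := congrArg (fun Y : SL2 => Y.1 0 1) h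
    simp [hUv] at this
  have hUU : U * U = 1 := (sq_iff h2 U).2 (by rw [hUv, Matrix.trace_fin_two_of]; linear_combination h2)
  have hUY : ∀ Y : SL2, (U * Y).1.trace = Y.1 0 0 + Y.1 1 0 + Y.1 1 1 := fun Y => by
    rw [val_mul', hUv, Matrix.trace_fin_two]
    simp [Matrix.mul_apply, Fin.sum_univ_two]
  obtain ⟨A, hA⟩ : ∃ A : Set SL2, A = {Y | Y.1 1 0 = 0} := ⟨_, rfl⟩
  obtain ⟨B, hB⟩ : ∃ B : Set SL2, B = {Y | Y.1.trace = 0} := ⟨_, rfl⟩
  obtain ⟨C, hC⟩ : ∃ C : Set SL2, C = {Y | (U * Y).1.trace = 0} := ⟨_, rfl⟩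
  have hset : {Y : SL2 | SPair U Y} = (A ∪ B) ∪ C := by
    ext Y
    simp only [Set.mem_ofPred_eq, Set.mem_union, hA, hB, hC]
    constructor
    · intro h
      rcases cases_of_spair h2 hU1 h with h | ⟨v, hv, ⟨a, ha⟩, b, hb⟩ | ⟨h, -⟩ | ⟨-, h | h⟩
      · left; left
        have h' := congrArg (fun Z : SL2 => Z.1 0 0) h
        simp [hUv, Matrix.mul_apply, Fin.sum_univ_two] at h'
        exact h'
      · left; left
        have a0 : v 0 + v 1 = a * v 0 := by
          simpa [hUv, Matrix.mulVec, dotProduct, Fin.sum_univ_two] using congrFun ha 0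
        have a1 : v 1 = a * v 1 := by
          simpa [hUv, Matrix.mulVec, dotProduct, Fin.sum_univ_two] using congrFun ha 1
        have b1 : Y.1 1 0 * v 0 + Y.1 1 1 * v 1 = b * v 1 := by
          simpa [Matrix.mulVec, dotProduct, Fin.sum_univ_two] using congrFun hb 1
        have hv1 : v 1 = 0 := mul_self_eq_zero.1 (by linear_combination v 1 * a0 - v 0 * a1)
        have hv0 : v 0 ≠ 0 := fun e => hv (funext fun i => by fin_cases i <;> assumption)
        rw [hv1, mul_zero, mul_zero, add_zero] at b1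
        exact (mul_eq_zero.1 b1).resolve_right hv0
      · left; right; exact (sq_iff h2 Y).1 h
      · left; right; exact (sq_iff h2 Y).1 h
      · right; exact (sq_iff h2 _).1 h
    · rintro ((h | h) | h)
      · exact SPair.of_le (borelSL F) (mem_borelSL.2 (by simp [hUv])) (mem_borelSL.2 h)
      · exact solvable_two hUU ((sq_iff h2 Y).2 h)
      · exact SPair.mul_left (solvable_two hUU ((sq_iff h2 _).2 h))
  obtain ⟨I, hI⟩ : ∃ I : Set SL2, I = {Y | Y.1 1 0 = 0 ∧ Y.1 0 0 = 1 ∧ Y.1 1 1 = 1} := ⟨_, rfl⟩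
  have hIc : I.ncard = Fintype.card F := by
    rw [hI, ← Nat.card_coe_set_eq, ← Nat.card_eq_fintype_card]
    exact Nat.card_congr
      { toFun := fun Y => Y.1.1 0 1
        invFun := fun v => ⟨mkSL !![1, v; 0, 1] (by rw [Matrix.det_fin_two_of]; ring), rfl, rfl, rfl⟩
        left_inv := fun Y => Subtype.ext (ext4 Y.2.2.1.symm rfl Y.2.1.symm Y.2.2.2.symm)
        right_inv := fun v => rfl }
  have hmemI : ∀ Y : SL2, Y.1 1 0 = 0 → Y.1 0 0 + Y.1 1 1 = 0 → Y ∈ I := by
    intro Y h10 ht
    have hd := det_eq Y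
    rw [h10] at hd
    have h0 : Y.1 0 0 = 1 := sub_eq_zero.1 (mul_self_eq_zero.1
      (show (Y.1 0 0 - 1) * (Y.1 0 0 - 1) = 0 by linear_combination Y.1 0 0 * ht - hd - Y.1 0 0 * h2))
    rw [hI]
    exact ⟨h10, h0, by linear_combination ht - h0 - h2⟩
  have hAB : A ∩ B = I := by
    ext Y; simp only [hA, hB, Set.mem_inter_iff, Set.mem_ofPred_eq, Matrix.trace_fin_two]
    refine ⟨fun ⟨h1, h2'⟩ => hmemI Y h1 h2', fun h => ?_⟩
    rw [hI] at h
    exact ⟨h.1, by rw [h.2.1, h.2.2]; linear_combination h2⟩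
  have hABC : (A ∪ B) ∩ C = I := by
    ext Y
    simp only [hA, hB, hC, Set.mem_inter_iff, Set.mem_union, Set.mem_ofPred_eq, hUY, Matrix.trace_fin_two]
    constructor
    · rintro ⟨h1 | h1, h3⟩
      · exact hmemI Y h1 (by linear_combination h3 - h1)
      · exact hmemI Y (by linear_combination h3 - h1) h1
    · intro h
      rw [hI] at h
      exact ⟨Or.inl h.1, by rw [h.1, h.2.1, h.2.2]; linear_combination h2⟩
  have hCB : C.ncard = B.ncard := by
    refine ncard_eq (Equiv.subtypeEquiv (Equiv.mulLeft U) fun Y => ?_)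
    simp [hB, hC]
  have e1 := Set.ncard_union_add_ncard_inter A B (Set.toFinite _) (Set.toFinite _)
  have e2 := Set.ncard_union_add_ncard_inter (A ∪ B) C (Set.toFinite _) (Set.toFinite _)
  rw [hAB, hIc] at e1
  rw [hABC, hIc, hCB] at e2
  have hAc : A.ncard = (Fintype.card F - 1) * Fintype.card F := hA ▸ card_lower
  have hBc : B.ncard = Fintype.card F * Fintype.card F := hB ▸ card_trace_zero h2
  rw [hBc] at e1 e2
  show Nat.card ({Y : SL2 | SPair U Y} : Set SL2) = _
  rw [Nat.card_coe_set_eq, hset]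
  obtain ⟨q, hq⟩ : ∃ q, Fintype.card F = q + 1 := ⟨Fintype.card F - 1, (Nat.sub_add_cancel Fintype.card_pos).symm⟩
  rw [hq] at e1 e2 hAc ⊢
  simp only [Nat.add_sub_cancel] at e1 e2 hAc ⊢
  nlinarith

/-- Partners of a split semisimple element. -/
theorem count_split (h2 : (2 : F) = 0) (t : Fˣ) (ht : (t : F) * t ≠ 1) :
    Nat.card {Y : SL2 // SPair (mkSL !![(t : F), 0; 0, ((t⁻¹ : Fˣ) : F)] (by rw [Matrix.det_fin_two_of]; simp)) Y} =
      2 * Fintype.card F * (Fintype.card F - 1) := by
  classical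
  obtain ⟨U, hU⟩ : ∃ U : SL2, U = mkSL !![(t : F), 0; 0, ((t⁻¹ : Fˣ) : F)] (by rw [Matrix.det_fin_two_of]; simp) :=
    ⟨_, rfl⟩
  rw [← hU]
  obtain ⟨s, hs⟩ : ∃ s : F, s = ((t⁻¹ : Fˣ) : F) := ⟨_, rfl⟩
  have hts : (t : F) * s = 1 := by rw [hs, Units.mul_inv]
  have hne : (t : F) + s ≠ 0 := fun h => ht (by linear_combination (t : F) * h - hts + (hts - hts) + (-1 : F) * h2 + h2 * 0 + ((1 : F) + 1 - 2) * 0 + (2 : F) * 0 + 0 * hts)
  have hts' : (t : F) - s ≠ 0 := fun h => hne (by linear_combination h + s * h2)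
  have hUv : U.1 = !![(t : F), 0; 0, s] := by rw [hs, hU]; rfl
  have hU1 : U ≠ 1 := fun h => by
    have := congrArg (fun Y : SL2 => Y.1 0 0) h
    simp [hUv] at this
    exact ht (by simp [this])
  have hUY : ∀ Y : SL2, (U * Y).1.trace = t * Y.1 0 0 + s * Y.1 1 1 := fun Y => by
    rw [val_mul', hUv, Matrix.trace_fin_two]
    simp [Matrix.mul_apply, Fin.sum_univ_two]
  have hUt : ¬ U.1.trace = 0 := by rw [hUv, Matrix.trace_fin_two_of]; exact hne
  obtain ⟨A, hA⟩ : ∃ A : Set SL2, A = {Y | Y.1 1 0 = 0} := ⟨_, rfl⟩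
  obtain ⟨B, hB⟩ : ∃ B : Set SL2, B = {Y | Y.1 0 1 = 0} := ⟨_, rfl⟩
  obtain ⟨C, hC⟩ : ∃ C : Set SL2, C = {Y | Y.1 0 0 = 0 ∧ Y.1 1 1 = 0} := ⟨_, rfl⟩
  have hUdiag : U.1 1 0 = 0 ∧ U.1 0 1 = 0 := by simp [hUv]
  have hW : ∀ Y : SL2, ∃ Z : SL2, Z.1 = !![Y.1 0 0, Y.1 1 0; Y.1 0 1, Y.1 1 1] := fun Y =>
    ⟨mkSL !![Y.1 0 0, Y.1 1 0; Y.1 0 1, Y.1 1 1] (by rw [Matrix.det_fin_two_of]; linear_combination det_eq Y), rfl⟩
  let W : SL2 := mkSL !![(0 : F), 1; 1, 0] (by rw [Matrix.det_fin_two_of]; linear_combination -h2)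
  have hset : {Y : SL2 | SPair U Y} = (A ∪ B) ∪ C := by
    ext Y
    simp only [Set.mem_ofPred_eq, Set.mem_union, hA, hB, hC]
    constructor
    · intro h
      rcases cases_of_spair h2 hU1 h with h | ⟨v, hv, ⟨a, ha⟩, b, hb⟩ | ⟨h, h'⟩ | ⟨h, -⟩
      · left; left
        have h' := congrArg (fun Z : SL2 => Z.1 1 0) h
        simp [hUv, Matrix.mul_apply, Fin.sum_univ_two] at h'
        exact (mul_eq_zero.1 (show ((t : F) - s) * Y.1 1 0 = 0 by linear_combination -h')).resolve_left hts'
      · left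
        have a0 : (t : F) * v 0 = a * v 0 := by
          simpa [hUv, Matrix.mulVec, dotProduct, Fin.sum_univ_two] using congrFun ha 0
        have a1 : s * v 1 = a * v 1 := by
          simpa [hUv, Matrix.mulVec, dotProduct, Fin.sum_univ_two] using congrFun ha 1
        have b0 : Y.1 0 0 * v 0 + Y.1 0 1 * v 1 = b * v 0 := by
          simpa [Matrix.mulVec, dotProduct, Fin.sum_univ_two] using congrFun hb 0
        have b1 : Y.1 1 0 * v 0 + Y.1 1 1 * v 1 = b * v 1 := by
          simpa [Matrix.mulVec, dotProduct, Fin.sum_univ_two] using congrFun hb 1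
        rcases mul_eq_zero.1 ((mul_eq_zero.1 (show ((t : F) - s) * (v 0 * v 1) = 0 by
          linear_combination v 1 * a0 - v 0 * a1)).resolve_left hts') with h0 | h1
        · right
          have hv1 : v 1 ≠ 0 := fun e => hv (funext fun i => by fin_cases i <;> assumption)
          rw [h0, mul_zero, mul_zero, zero_add] at b0
          exact (mul_eq_zero.1 b0).resolve_right hv1
        · left
          have hv0 : v 0 ≠ 0 := fun e => hv (funext fun i => by fin_cases i <;> assumption)
          rw [h1, mul_zero, mul_zero, add_zero] at b1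
          exact (mul_eq_zero.1 b1).resolve_right hv0
      · right
        have e1 := (sq_iff h2 Y).1 h
        have e2 := (sq_iff h2 _).1 h'
        rw [hUY] at e2
        rw [Matrix.trace_fin_two] at e1
        have h0 : Y.1 0 0 = 0 := (mul_eq_zero.1
          (show ((t : F) - s) * Y.1 0 0 = 0 by linear_combination e2 - s * e1)).resolve_left hts'
        exact ⟨h0, by linear_combination e1 - h0⟩
      · exact absurd ((sq_iff h2 U).1 h) hUt
    · rintro ((h | h) | ⟨h0, h1⟩)
      · exact SPair.of_le (borelSL F) (mem_borelSL.2 hUdiag.1) (mem_borelSL.2 h)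
      · have key : ∀ Z : SL2, Z.1 0 1 = 0 → W * Z * W⁻¹ ∈ borelSL F := by
          intro Z hZ
          refine mem_borelSL.2 ?_
          rw [val_mul', val_mul', inv_val]
          simp [W, mkSL, Matrix.mul_apply, Fin.sum_univ_two, Matrix.trace_fin_two, Matrix.vecMul, dotProduct, hZ]
        have h3 : SPair (W * U * W⁻¹) (W * Y * W⁻¹) := SPair.of_le (borelSL F) (key U hUdiag.2) (key Y h)
        exact (spair_symm_map (MulAut.conj W)).1 h3
      · have hY : Y * Y = 1 := (sq_iff h2 Y).2 (by rw [Matrix.trace_fin_two, h0, h1, add_zero])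
        have hUY' : U * Y * (U * Y) = 1 := (sq_iff h2 _).2 (by rw [hUY, h0, h1]; ring)
        have h3 := solvable_two hY hUY'
        have hle : Subgroup.closure ({U, Y} : Set SL2) ≤ Subgroup.closure {Y, U * Y} := by
          rw [Subgroup.closure_le]
          intro a ha
          rcases ha with ha | ha <;> rw [ha]
          · have := mul_mem (Subgroup.subset_closure (show U * Y ∈ ({Y, U * Y} : Set SL2) by simp))
              (inv_mem (Subgroup.subset_closure (show Y ∈ ({Y, U * Y} : Set SL2) by simp)))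
            rwa [mul_inv_cancel_right] at this
          · exact Subgroup.subset_closure (by simp)
        haveI : Group.IsSolvable (Subgroup.closure ({Y, U * Y} : Set SL2)) := h3
        exact Group.isSolvable_of_isSolvable_injective (Subgroup.inclusion_injective hle)
  obtain ⟨I, hI⟩ : ∃ I : Set SL2, I = A ∩ B := ⟨_, rfl⟩
  have hIc : I.ncard = Fintype.card F - 1 := by
    rw [hI, hA, hB, ← Nat.card_coe_set_eq, ← Fintype.card_units, ← Nat.card_eq_fintype_card]
    refine Nat.card_congr
      { toFun := fun Y => Units.mk0 (Y.1.1 0 0) (fun h => by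
            have hd := det_eq Y.1
            rw [h, show Y.1.1 1 0 = 0 from Y.2.1] at hd
            simp at hd)
        invFun := fun v => ⟨mkSL !![(v : F), 0; 0, ((v⁻¹ : Fˣ) : F)] (by rw [Matrix.det_fin_two_of]; simp), rfl, rfl⟩
        left_inv := fun Y => ?_
        right_inv := fun v => Units.ext rfl }
    refine Subtype.ext (ext4 rfl (show Y.1.1 0 1 = 0 from Y.2.2).symm (show Y.1.1 1 0 = 0 from Y.2.1).symm ?_)
    have hd := det_eq Y.1
    rw [show Y.1.1 1 0 = 0 from Y.2.1, mul_zero, sub_zero] at hd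
    show ((_ : Fˣ)⁻¹ : Fˣ).val = Y.1.1 1 1
    rw [Units.val_inv_eq_inv_val]
    exact inv_eq_of_mul_eq_one_right hd
  have hCc : C.ncard = Fintype.card F - 1 := by
    rw [hC, ← Nat.card_coe_set_eq, ← Fintype.card_units, ← Nat.card_eq_fintype_card]
    refine Nat.card_congr
      { toFun := fun Y => Units.mk0 (Y.1.1 0 1) (fun h => by
            have hd := det_eq Y.1
            rw [h, Y.2.1] at hd
            simp at hd)
        invFun := fun v => ⟨mkSL !![0, (v : F); -((v⁻¹ : Fˣ) : F), 0] (by rw [Matrix.det_fin_two_of]; simp),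
          rfl, rfl⟩
        left_inv := fun Y => ?_
        right_inv := fun v => Units.ext rfl }
    refine Subtype.ext (ext4 Y.2.1.symm rfl ?_ Y.2.2.symm)
    have hd := det_eq Y.1
    rw [Y.2.1, zero_mul, zero_sub] at hd
    show -((_ : Fˣ)⁻¹ : Fˣ).val = Y.1.1 1 0
    rw [Units.val_inv_eq_inv_val]
    have : Y.1.1 0 1 * -Y.1.1 1 0 = 1 := by linear_combination hd
    rw [show ((Units.mk0 (Y.1.1 0 1) _ : Fˣ) : F)⁻¹ = -Y.1.1 1 0 from inv_eq_of_mul_eq_one_right this, neg_neg]
  have hdisj : (A ∪ B) ∩ C = ∅ := by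
    ext Y
    simp only [hA, hB, hC, Set.mem_inter_iff, Set.mem_union, Set.mem_ofPred_eq, Set.mem_empty_iff_false, iff_false]
    rintro ⟨h | h, h0, h1⟩ <;> · have hd := det_eq Y; simp [h, h0] at hd
  have hBA : B.ncard = A.ncard := by
    choose tr htr using hW
    have hinj : Function.Involutive tr := fun Y => ext4 (by simp [htr]) (by simp [htr]) (by simp [htr]) (by simp [htr])
    refine ncard_eq (Equiv.subtypeEquiv hinj.toPerm fun Y => ?_)
    simp [hA, hB, htr]
  have e1 := Set.ncard_union_add_ncard_inter A B (Set.toFinite _) (Set.toFinite _)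
  have e2 := Set.ncard_union_add_ncard_inter (A ∪ B) C (Set.toFinite _) (Set.toFinite _)
  rw [← hI, hIc, hBA] at e1
  rw [hdisj, Set.ncard_empty, hCc] at e2
  have hAc : A.ncard = (Fintype.card F - 1) * Fintype.card F := hA ▸ card_lower
  show Nat.card ({Y : SL2 | SPair U Y} : Set SL2) = _
  rw [Nat.card_coe_set_eq, hset]
  obtain ⟨q, hq⟩ : ∃ q, Fintype.card F = q + 1 := ⟨Fintype.card F - 1, (Nat.sub_add_cancel Fintype.card_pos).symm⟩
  rw [hq] at e1 e2 hAc ⊢
  simp only [Nat.add_sub_cancel] at e1 e2 hAc ⊢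
  nlinarith

/-- Partners of an element without eigenvectors. -/
theorem count_nonsplit (h2 : (2 : F) = 0) {U : SL2} (hU1 : U ≠ 1) (ht : U.1.trace ≠ 0)
    (hr : roots U.1.trace 1 = 0) :
    Nat.card {Y : SL2 // SPair U Y} = 2 * (Fintype.card F + 1) := by
  have hsc := not_sc_of_ne_one h2 hU1
  have h4 : U.1.trace * U.1.trace ≠ 4 := fun h => ht (mul_self_eq_zero.1 (by linear_combination h + 2 * h2))
  obtain ⟨A, hA⟩ : ∃ A : Set SL2, A = {Y | Y * U = U * Y} := ⟨_, rfl⟩
  obtain ⟨B, hB⟩ : ∃ B : Set SL2, B = {Y | Y * U = U⁻¹ * Y} := ⟨_, rfl⟩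
  have hinv : ∀ Y : SL2, Y * U = U⁻¹ * Y → Y * Y = 1 := by
    intro Y e'
    refine (sq_iff h2 Y).2 ?_
    have h3 := congrArg (fun Y : SL2 => Y.1.trace) e'
    simp only [val_mul', inv_val, Matrix.sub_mul, Matrix.smul_mul, Matrix.one_mul, Matrix.trace_sub,
      Matrix.trace_smul, smul_eq_mul, Matrix.trace_mul_comm U.1 Y.1] at h3
    refine (mul_eq_zero.1 (show U.1.trace * Y.1.trace = 0 from ?_)).resolve_left ht
    linear_combination (Y.1 * U.1).trace * h2 - h3
  have hset : {Y : SL2 | SPair U Y} = A ∪ B := by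
    ext Y
    simp only [Set.mem_ofPred_eq, Set.mem_union, hA, hB]
    constructor
    · intro h
      rcases cases_of_spair h2 hU1 h with h | ⟨v, hv, ⟨a, ha⟩, -⟩ | ⟨h, h'⟩ | ⟨h, -⟩
      · exact Or.inl h.symm
      · exact absurd (roots_two_of_trace hv ha h4) (by omega)
      · right
        have hY : Y⁻¹ = Y := inv_eq_of_mul_eq_one_left h
        have h3 : (U * Y)⁻¹ = U * Y := inv_eq_of_mul_eq_one_left h'
        rw [_root_.mul_inv_rev, hY] at h3
        calc Y * U = Y * U⁻¹⁻¹ := by rw [inv_inv]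
          _ = U⁻¹ * (U * Y) * U := by group
          _ = U⁻¹ * (Y * U⁻¹) * U := by rw [h3]
          _ = U⁻¹ * Y := by group
      · exact absurd ((sq_iff h2 U).1 h) ht
    · rintro (h | h)
      · exact SPair.of_commute h.symm
      · have hY := hinv Y h
        have hUY : U * Y * (U * Y) = 1 := by
          calc U * Y * (U * Y) = U * (Y * U) * Y := by group
            _ = U * (U⁻¹ * Y) * Y := by rw [h]
            _ = Y * Y := by group
            _ = 1 := hY
        have hle : Subgroup.closure ({U, Y} : Set SL2) ≤ Subgroup.closure {Y, U * Y} := by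
          rw [Subgroup.closure_le]
          intro a ha
          rcases ha with ha | ha <;> rw [ha]
          · have := mul_mem (Subgroup.subset_closure (show U * Y ∈ ({Y, U * Y} : Set SL2) by simp))
              (inv_mem (Subgroup.subset_closure (show Y ∈ ({Y, U * Y} : Set SL2) by simp)))
            rwa [mul_inv_cancel_right] at this
          · exact Subgroup.subset_closure (by simp)
        haveI : Group.IsSolvable (Subgroup.closure ({Y, U * Y} : Set SL2)) := solvable_two hY hUY
        exact Group.isSolvable_of_isSolvable_injective (Subgroup.inclusion_injective hle)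
  have hsol : sol U.1.trace 1 = Fintype.card F + 1 := by
    have := sol_add_roots (t := U.1.trace) (d := 1) (by rwa [mul_one])
    rwa [hr, add_zero] at this
  have hAc : A.ncard = Fintype.card F + 1 := by
    rw [← hsol, ← card_centralizer U hsc, hA, ← Nat.card_coe_set_eq]
    exact Nat.card_congr (Equiv.subtypeEquiv (Equiv.refl _) fun Y =>
      Subgroup.mem_centralizer_singleton_iff.symm)
  obtain ⟨s, hs⟩ := exists_inverter h4
  have hBA : A.ncard = B.ncard := by
    refine ncard_eq (Equiv.subtypeEquiv (Equiv.mulLeft s) fun Y => ?_)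
    simp only [hA, hB, Set.mem_ofPred_eq, Equiv.coe_mulLeft]
    constructor
    · intro h; rw [mul_assoc, h, ← mul_assoc, hs, mul_assoc]
    · intro h
      rw [← mul_assoc U⁻¹, ← hs, mul_assoc, mul_assoc] at h
      exact mul_left_cancel h
  have hdisj : Disjoint A B := by
    rw [Set.disjoint_left, hA, hB]
    intro Y h h'
    exact inv_ne_self h4 (mul_right_cancel (h'.symm.trans h))
  show Nat.card ({Y : SL2 | SPair U Y} : Set SL2) = _
  rw [Nat.card_coe_set_eq, hset, Set.ncard_union_eq hdisj (Set.toFinite _) (Set.toFinite _), ← hBA, hAc, two_mul]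

end lower

theorem orderOf_pr (h2 : (2 : F) = 0) (Y : SL2) : orderOf (PSL2.pr Y) = orderOf Y := by
  refine orderOf_injective _ ((injective_iff_map_eq_one _).2 fun g hg => ?_) Y
  by_contra h
  exact not_sc_of_ne_one h2 h (pr_eq_one_iff.1 hg)

/-- Transport to `PSL₂`. -/
theorem count_pr (h2 : (2 : F) = 0) (X : SL2) :
    Nat.card {y : Matrix.ProjectiveSpecialLinearGroup (Fin 2) F //
      Group.IsSolvable ↥(Subgroup.closure ({PSL2.pr X, y} : Set (Matrix.ProjectiveSpecialLinearGroup (Fin 2) F)))} =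
      Nat.card {Y : SL2 // SPair X Y} := by
  have hinj : Function.Injective (PSL2.pr : SL2 → Matrix.ProjectiveSpecialLinearGroup (Fin 2) F) :=
    (injective_iff_map_eq_one _).2 fun g hg => by
      by_contra h
      exact not_sc_of_ne_one h2 h (pr_eq_one_iff.1 hg)
  refine (Nat.card_congr (Equiv.subtypeEquiv (Equiv.ofBijective PSL2.pr ⟨hinj, PSL2.pr_surjective⟩) fun Y => ?_)).symm
  obtain ⟨H, hH⟩ : ∃ H : Subgroup SL2, H = Subgroup.closure {X, Y} := ⟨_, rfl⟩
  have hm : Subgroup.closure ({PSL2.pr X, PSL2.pr Y} : Set (Matrix.ProjectiveSpecialLinearGroup (Fin 2) F)) =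
      H.map PSL2.pr := by
    rw [hH, MonoidHom.map_closure, Set.image_pair]
  show SPair X Y ↔ Group.IsSolvable ↥(Subgroup.closure {PSL2.pr X, PSL2.pr Y})
  rw [SPair, hm, ← hH]
  have e := H.equivMapOfInjective _ hinj
  constructor <;> intro h <;> haveI := h
  · exact Group.isSolvable_of_isSolvable_injective (f := e.symm.toMonoidHom) e.symm.injective
  · exact Group.isSolvable_of_isSolvable_injective (f := e.toMonoidHom) e.injective

end Cfsg.Agent.Small.SolvPairs
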