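import Cfsg.Agent.Lib.Small.SL2.SolvablePairsCount
import Cfsg.Agent.Lib.Small.SL2.ClassSize

/-!
Pairs of elements generating a solvable subgroup of `PSL₂(3ⁿ)`, `n` odd.
-/

set_option autoImplicit false
set_option linter.unusedSectionVars false

namespace Cfsg.Agent.Small.SolvPairsThree

open Matrix Cfsg.Agent.Small Cfsg.Agent.Small.SL2C Cfsg.Agent.Small.SolvPairs

variable {F : Type*} [Field F] [Fintype F]

local notation "M2" => Matrix (Fin 2) (Fin 2) F
local notation "SL2" => Matrix.SpecialLinearGroup (Fin 2) F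
local notation "P2" => Matrix.ProjectiveSpecialLinearGroup (Fin 2) F

/-- The hypotheses on the field. -/
structure Fld (F : Type*) [Field F] : Prop where
  three : (3 : F) = 0
  two : (2 : F) ≠ 0
  nonsq : ∀ z : F, z * z ≠ -1

/-- The trace lies in the prime field. -/
def Sm (t : F) : Prop := t * (t * t - 1) = 0

theorem SPair.symm {G : Type*} [Group G] {x y : G} (h : SPair x y) : SPair y x := by
  have e : ({y, x} : Set G) = {x, y} := Set.pair_comm y x
  unfold SPair at h ⊢
  rw [e]; exact h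

theorem SPair.mono {G : Type*} [Group G] {x y u v : G} (h : SPair u v)
    (hx : x ∈ Subgroup.closure ({u, v} : Set G)) (hy : y ∈ Subgroup.closure ({u, v} : Set G)) : SPair x y := by
  haveI : Group.IsSolvable (Subgroup.closure ({u, v} : Set G)) := h
  exact SPair.of_le _ hx hy

/-- The relations of `A₄`. -/
theorem solvable_tet {G : Type*} [Group G] {x y : G} (hx : x * x = 1) (hy : y * y * y = 1)
    (hxy : x * y * (x * y) * (x * y) = 1) : SPair x y := by
  obtain ⟨u, hu⟩ : ∃ u, u = y * x * y⁻¹ := ⟨_, rfl⟩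
  obtain ⟨w, hw⟩ : ∃ w, w = y * u * y⁻¹ := ⟨_, rfl⟩
  have hxuw : x * u * w = 1 := by
    calc x * u * w = x * y * (x * y) * (x * y) * (y * y * y)⁻¹ := by rw [hw, hu]; group
      _ = 1 := by rw [hxy, hy]; group
  have huu : u * u = 1 := by
    calc u * u = y * (x * x) * y⁻¹ := by rw [hu]; group
      _ = 1 := by rw [hx]; group
  have hww : w * w = 1 := by
    calc w * w = y * (u * u) * y⁻¹ := by rw [hw]; group
      _ = 1 := by rw [huu]; group
  have hw' : w = (x * u)⁻¹ := eq_inv_of_mul_eq_one_right hxuw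
  have hsq : x * u * (x * u) = 1 := by
    have h3 := hww
    rw [hw', ← _root_.mul_inv_rev, inv_eq_one] at h3
    exact h3
  have hxu : w = x * u := hw'.trans (inv_eq_of_mul_eq_one_left hsq)
  have hcomm : u * x = x * u := by
    calc u * x = u⁻¹ * x⁻¹ := by rw [inv_eq_of_mul_eq_one_left hx, inv_eq_of_mul_eq_one_left huu]
      _ = (x * u)⁻¹ := (_root_.mul_inv_rev x u).symm
      _ = x * u := inv_eq_of_mul_eq_one_left hsq
  obtain ⟨N, hN⟩ : ∃ N : Subgroup G, N = Subgroup.closure {x, u} := ⟨_, rfl⟩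
  haveI hNc : Group.IsSolvable N := by
    rw [hN]; exact SPair.of_commute hcomm.symm
  have hxN : x ∈ N := hN ▸ Subgroup.subset_closure (by simp)
  have huN : u ∈ N := hN ▸ Subgroup.subset_closure (by simp)
  have hy1 : ∀ n ∈ N, y * n * y⁻¹ ∈ N := by
    intro n hn
    have hle : N ≤ N.comap (MulAut.conj y).toMonoidHom := by
      conv_lhs => rw [hN]
      rw [Subgroup.closure_le]
      rintro a (rfl | rfl)
      · show y * a * y⁻¹ ∈ N
        rw [← hu]; exact huN
      · show y * a * y⁻¹ ∈ N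
        rw [← hw, hxu]; exact mul_mem hxN huN
    exact hle hn
  have hnorm : Subgroup.zpowers y ≤ Subgroup.normalizer (N : Set G) := by
    rw [Subgroup.zpowers_le, Subgroup.mem_normalizer_iff]
    intro n
    refine ⟨hy1 n, fun h => ?_⟩
    have h2 := hy1 _ (hy1 _ h)
    rw [show y * (y * (y * n * y⁻¹) * y⁻¹) * y⁻¹ = y * y * y * n * (y * y * y)⁻¹ by group, hy] at h2
    simpa using h2
  obtain ⟨T, hT⟩ : ∃ T : Subgroup G, T = N ⊔ Subgroup.zpowers y := ⟨_, rfl⟩
  have hTN : N ≤ T := hT ▸ le_sup_left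
  have hTn : T ≤ Subgroup.normalizer (N : Set G) := hT ▸ sup_le Subgroup.le_normalizer hnorm
  haveI : (N.subgroupOf T).Normal := Subgroup.normal_subgroupOf_iff_le_normalizer hTN |>.2 hTn
  have hgen : ∀ q : T ⧸ N.subgroupOf T,
      q ∈ Subgroup.zpowers (((⟨y, hT ▸ Subgroup.mem_sup_right (Subgroup.mem_zpowers y)⟩ : T) : T ⧸ N.subgroupOf T)) := by
    intro q
    obtain ⟨t, rfl⟩ := QuotientGroup.mk'_surjective _ q
    have ht : (t : G) ∈ (↑(N ⊔ Subgroup.zpowers y) : Set G) := hT ▸ t.2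
    rw [Subgroup.coe_mul_of_right_le_normalizer_left N (Subgroup.zpowers y) hnorm, Set.mem_mul] at ht
    obtain ⟨n, hn, _, ⟨k, rfl⟩, e⟩ := ht
    refine ⟨k, ?_⟩
    show ((_ : T) : T ⧸ N.subgroupOf T) ^ k = ((t : T) : T ⧸ N.subgroupOf T)
    rw [← QuotientGroup.mk_zpow, QuotientGroup.eq]
    have hc : (t : G) = n * y ^ k := e.symm
    rw [Subgroup.mem_subgroupOf, Subgroup.coe_mul, Subgroup.coe_inv, Subgroup.coe_zpow, hc]
    show (y ^ k)⁻¹ * (n * y ^ k) ∈ N
    have h4 := (Subgroup.mem_normalizer_iff.1 (hnorm (Subgroup.zpow_mem _ (Subgroup.mem_zpowers y) (-k))) n).1 hn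
    rw [_root_.zpow_neg, inv_inv, mul_assoc] at h4
    exact h4
  haveI : Group.IsSolvable (N.subgroupOf T) :=
    Group.isSolvable_of_isSolvable_injective (f := (Subgroup.subgroupOfEquivOfLe hTN).toMonoidHom)
      (Subgroup.subgroupOfEquivOfLe hTN).injective
  haveI : Group.IsSolvable (T ⧸ N.subgroupOf T) := Group.isSolvable_of_comm fun a b => by
    obtain ⟨i, rfl⟩ := Subgroup.mem_zpowers_iff.1 (hgen a)
    obtain ⟨j, rfl⟩ := Subgroup.mem_zpowers_iff.1 (hgen b)
    exact zpow_mul_comm _ i j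
  haveI : Group.IsSolvable T := Group.isSolvable_of_ker_le_range (N.subgroupOf T).subtype
    (QuotientGroup.mk' (N.subgroupOf T)) (by rw [QuotientGroup.ker_mk', Subgroup.range_subtype])
  exact SPair.of_le T (hTN hxN) (hT ▸ Subgroup.mem_sup_right (Subgroup.mem_zpowers y))

variable (hF : Fld F)

theorem pr_eq {a b : SL2} (h : PSL2.pr a = PSL2.pr b) : a.1 = b.1 ∨ a.1 = -b.1 := by
  obtain ⟨ε, hε, e⟩ := (PSL2.pr_eq_iff a b).1 h
  rcases mul_self_eq_one_iff.1 hε with h | h <;> rw [h] at e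
  · exact Or.inl (by rw [e, one_smul])
  · exact Or.inr (by rw [e, neg_one_smul])

theorem pr_eq_of {a b : SL2} (h : a.1 = b.1 ∨ a.1 = -b.1) : PSL2.pr a = PSL2.pr b := by
  rw [PSL2.pr_eq_iff]
  rcases h with h | h
  · exact ⟨1, one_mul 1, by rw [h, one_smul]⟩
  · exact ⟨-1, by ring, by rw [h, neg_one_smul]⟩

theorem pr_sq {g : SL2} (h : g.1.trace = 0) : PSL2.pr g * PSL2.pr g = 1 := by
  rw [← map_mul, ← map_one (PSL2.pr (F := F))]
  exact pr_eq_of (Or.inr (by rw [val_mul', sq_eq, h, zero_smul, zero_sub, Matrix.SpecialLinearGroup.coe_one]))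

theorem pr_cube {g : SL2} (h : g.1.trace * g.1.trace = 1) : PSL2.pr g * PSL2.pr g * PSL2.pr g = 1 := by
  rw [← map_mul, ← map_mul, ← map_one (PSL2.pr (F := F))]
  refine pr_eq_of ?_
  have e : (g * g * g).1 = -g.1.trace • (1 : M2) := by
    rw [val_mul', val_mul', sq_eq, Matrix.sub_mul, Matrix.smul_mul, Matrix.one_mul, sq_eq, smul_sub, smul_smul, h,
      one_smul, neg_smul]
    abel
  rw [e, Matrix.SpecialLinearGroup.coe_one]
  rcases mul_self_eq_one_iff.1 h with h' | h' <;> rw [h']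
  · right; rw [neg_one_smul]
  · left; rw [neg_neg, one_smul]

theorem sm_cases {t : F} (h : Sm t) : t = 0 ∨ t * t = 1 :=
  (mul_eq_zero.1 h).imp id fun h => sub_eq_zero.1 h

/-- An element commuting up to sign either commutes or anticommutes. -/
theorem signs {a b : SL2} (h : PSL2.pr a * PSL2.pr b = PSL2.pr b * PSL2.pr a) :
    a.1 * b.1 = b.1 * a.1 ∨ a.1 * b.1 = -(b.1 * a.1) := by
  have := pr_eq (show PSL2.pr (a * b) = PSL2.pr (b * a) by rw [map_mul, map_mul, h])
  rwa [val_mul', val_mul'] at this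

theorem anti_trace (h2 : (2 : F) ≠ 0) {k n : SL2} (hn : ¬ IsSc n.1) (h : k.1 * n.1 = -(n.1 * k.1)) :
    k.1.trace = 0 := by
  by_contra ht
  have e1 : k.1.trace • (k.1 * n.1) = k.1.trace • (n.1 * k.1) := by
    have h3 : k.1 * k.1 * n.1 = n.1 * (k.1 * k.1) := by
      rw [Matrix.mul_assoc, h, Matrix.mul_neg, ← Matrix.mul_assoc, h, Matrix.neg_mul, neg_neg, Matrix.mul_assoc]
    rw [sq_eq, Matrix.sub_mul, Matrix.mul_sub, Matrix.smul_mul, Matrix.mul_smul, Matrix.one_mul, Matrix.mul_one] at h3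
    exact sub_left_injective h3
  have e2 := smul_right_injective M2 ht e1
  rw [h] at e2
  have hnk : (n * k).1 = 0 := by
    have e3 : (2 : F) • (n.1 * k.1) = 0 := by linear_combination (norm := module) -e2
    rw [val_mul']
    exact (smul_eq_zero.1 e3).resolve_left h2
  have := (n * k).2
  rw [hnk, Matrix.det_zero] at this
  exact zero_ne_one this

theorem trace_conj'' (h g : SL2) : (h * g * h⁻¹).1.trace = g.1.trace :=
  (trace_conj (isConj_iff.2 ⟨h, rfl⟩)).symm

theorem ns_tr0 (h2 : (2 : F) ≠ 0) {g : SL2} (ht : g.1.trace = 0) : ¬ IsSc g.1 := by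
  rintro ⟨c, hc⟩
  rw [hc, trace_isSc, mul_eq_zero] at ht
  have hd := g.2
  rw [hc, ht.resolve_left h2, zero_smul, Matrix.det_zero] at hd
  exact zero_ne_one hd

theorem cancel_right (k : SL2) {A B : M2} (h : A * k.1 = B * k.1) : A = B := by
  have e := congrArg (fun X : M2 => X * k⁻¹.1) h
  simp only [Matrix.mul_assoc, ← val_mul', mul_inv_cancel, Matrix.SpecialLinearGroup.coe_one, Matrix.mul_one] at e
  exact e

theorem ne_of_anti (h2 : (2 : F) ≠ 0) {n m : SL2} (h : n.1 * m.1 = -(m.1 * n.1)) : PSL2.pr n ≠ PSL2.pr m := by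
  intro e
  have e3 : (2 : F) • (m * m).1 = 0 := by
    rw [val_mul']
    rcases pr_eq e with e | e <;> rw [e] at h
    · linear_combination (norm := module) h
    · rw [Matrix.neg_mul, Matrix.mul_neg, neg_neg] at h
      linear_combination (norm := module) -h
  have := (m * m).2
  rw [(smul_eq_zero.1 e3).resolve_left h2, Matrix.det_zero] at this
  exact zero_ne_one this

theorem pr_of_comm_tr0 (h2 : (2 : F) ≠ 0) {g z : SL2} (hg : g.1.trace = 0) (hz : z.1.trace = 0)
    (h : z.1 * g.1 = g.1 * z.1) : PSL2.pr z = PSL2.pr g := by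
  obtain ⟨u, v, e⟩ := exists_comb (ns_tr0 h2 hg) h
  rw [e, comb_trace, hg, mul_zero, add_zero, mul_eq_zero] at hz
  obtain rfl := hz.resolve_left h2
  have hd := z.2
  rw [e, det_comb, g.2, Qf, hg] at hd
  rw [PSL2.pr_eq_iff]
  exact ⟨v, by linear_combination hd, by simp [e, comb]⟩

/-- The self-centralising four groups. -/
theorem klein_cent (h2 : (2 : F) ≠ 0) {a b z : SL2} (ha : a.1.trace = 0) (hb : b.1.trace = 0)
    (hab : a.1 * b.1 = -(b.1 * a.1)) (hz : z.1.trace = 0)
    (h₁ : PSL2.pr z * PSL2.pr a = PSL2.pr a * PSL2.pr z) (h₂ : PSL2.pr z * PSL2.pr b = PSL2.pr b * PSL2.pr z) :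
    PSL2.pr z ∈ ({PSL2.pr a, PSL2.pr b, PSL2.pr a * PSL2.pr b} : Set P2) := by
  rcases signs h₁ with h₁ | h₁
  · exact Or.inl (pr_of_comm_tr0 h2 ha hz h₁)
  rcases signs h₂ with h₂ | h₂
  · exact Or.inr (Or.inl (pr_of_comm_tr0 h2 hb hz h₂))
  refine Or.inr (Or.inr ?_)
  show PSL2.pr z = PSL2.pr a * PSL2.pr b
  rw [← map_mul]
  refine pr_of_comm_tr0 h2 (anti_trace h2 (ns_tr0 h2 ha) ?_) hz ?_
  · rw [val_mul', Matrix.mul_assoc a.1 b.1, show b.1 * a.1 = -(a.1 * b.1) by rw [hab, neg_neg], Matrix.mul_neg,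
      ← Matrix.mul_assoc]
  · rw [val_mul', ← Matrix.mul_assoc, h₁, Matrix.neg_mul, Matrix.mul_assoc, h₂, Matrix.mul_neg, neg_neg,
      Matrix.mul_assoc]

/-- A permutation of the involutions of a four group fixes one of them or has order three. -/
theorem perm_three {G : Type*} [Group G] (f : G ≃* G) {A B : G} (hA : A * A = 1) (hB : B * B = 1)
    (hAB : A * B = B * A) (hne : A ≠ B) (ha : f A ∈ ({A, B, A * B} : Set G))
    (hb : f B ∈ ({A, B, A * B} : Set G)) :
    f A = A ∨ f B = B ∨ f (A * B) = A * B ∨ (f (f (f A)) = A ∧ f (f (f B)) = B) := by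
  rcases ha with ha | ha | ha
  · exact Or.inl ha
  all_goals rcases hb with hb | hb | hb
  · exact Or.inr (Or.inr (Or.inl (by rw [map_mul, ha, hb, hAB])))
  · exact Or.inr (Or.inl hb)
  · have hc : f (A * B) = A := by rw [map_mul, ha, hb, hAB, ← mul_assoc, hB, one_mul]
    exact Or.inr (Or.inr (Or.inr ⟨by rw [ha, hb, hc], by rw [hb, hc, ha]⟩))
  · have hc : f (A * B) = B := by rw [map_mul, ha, hb, hAB, mul_assoc, hA, mul_one]
    exact Or.inr (Or.inr (Or.inr ⟨by rw [ha, hc, hb], by rw [hb, ha, hc]⟩))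
  · exact Or.inr (Or.inl hb)
  · exact absurd (f.injective (ha.trans hb.symm)) hne

include hF

/-- Two anticommuting elements of trace zero: elements permuting their classes have trace in the prime field. -/
theorem sm_of_klein {n m k : SL2} (hn : n.1.trace = 0) (hnm : n.1 * m.1 = -(m.1 * n.1))
    (hfix : PSL2.pr k * PSL2.pr n * (PSL2.pr k)⁻¹ = PSL2.pr n)
    (hmv : PSL2.pr k * PSL2.pr m * (PSL2.pr k)⁻¹ ∈
      ({PSL2.pr n, PSL2.pr m, PSL2.pr n * PSL2.pr m} : Set P2)) : Sm k.1.trace := by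
  have hns := ns_tr0 hF.two hn
  rcases signs (mul_inv_eq_iff_eq_mul.1 hfix) with h | h
  swap
  · exact mul_eq_zero_of_left (anti_trace hF.two hns h) _
  obtain ⟨u, v, hk⟩ := exists_comb hns h
  have hd := k.2
  rw [hk, det_comb, n.2, hn, Qf] at hd
  have htr : k.1.trace = 2 * u := by rw [hk, comb_trace, hn, mul_zero, add_zero]
  have hn2 : n.1 * n.1 = -1 := by rw [sq_eq, hn, zero_smul, zero_sub]
  have hmk : m.1 * k.1 = comb n.1 u (-v) * m.1 := by
    simp only [hk, comb, Matrix.mul_add, Matrix.add_mul, Matrix.mul_smul, Matrix.smul_mul, Matrix.one_mul,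
      Matrix.mul_one, hnm, smul_neg, neg_smul, neg_neg, Matrix.neg_mul]
  have key : ∀ (z : SL2) (a b : F), z.1 * k.1 = comb n.1 a b * m.1 →
      PSL2.pr k * PSL2.pr m * (PSL2.pr k)⁻¹ = PSL2.pr z → ∃ ε : F, ε * ε = 1 ∧ u = ε * a ∧ v = ε * b := by
    intro z a b hz e
    have e' : PSL2.pr (k * m) = PSL2.pr (z * k) := by rw [map_mul, map_mul]; exact mul_inv_eq_iff_eq_mul.1 e
    obtain ⟨ε, hε, e⟩ := (PSL2.pr_eq_iff _ _).1 e'
    rw [val_mul', val_mul', hz, hk] at e
    refine ⟨ε, hε, comb_injective hns (cancel_right m ?_)⟩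
    rw [e]
    simp only [comb, Matrix.smul_mul, Matrix.add_mul, smul_add, smul_smul]
  rcases hmv with h' | h' | h'
  · refine absurd ?_ (ne_of_anti hF.two hnm)
    have e1 := mul_inv_eq_iff_eq_mul.1 h'
    rw [← mul_inv_eq_iff_eq_mul.1 hfix] at e1
    exact (mul_left_cancel e1).symm
  · obtain ⟨ε, hε, e1, e2⟩ := key m u (-v) hmk h'
    rcases mul_self_eq_one_iff.1 hε with h0 | h0 <;> rw [h0] at e1 e2
    · refine mul_eq_zero_of_right _ ?_
      have hv : v = 0 := (mul_eq_zero.1 (show (2 : F) * v = 0 by linear_combination e2)).resolve_left hF.two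
      rw [hv] at hd
      rw [htr]
      linear_combination 4 * hd + hF.three
    · have hu : u = 0 := (mul_eq_zero.1 (show (2 : F) * u = 0 by linear_combination e1)).resolve_left hF.two
      exact mul_eq_zero_of_left (by rw [htr, hu, mul_zero]) _
  · obtain ⟨ε, hε, e1, -⟩ := key (n * m) v u (by
      rw [val_mul', Matrix.mul_assoc, hmk, ← Matrix.mul_assoc]
      congr 1
      simp only [comb, Matrix.mul_add, Matrix.mul_smul, Matrix.mul_one, hn2, smul_neg, neg_smul, neg_neg,
        Matrix.mul_neg]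
      exact add_comm _ _) (by rw [map_mul]; exact h')
    refine absurd ?_ (hF.nonsq u)
    linear_combination (u * u) * hF.three - hd - (u + ε * v) * e1 - (v * v) * hε

theorem sm_of_perm {a b k : SL2} (ha : a.1.trace = 0) (hb : b.1.trace = 0)
    (hab : a.1 * b.1 = -(b.1 * a.1))
    (hpa : PSL2.pr k * PSL2.pr a * (PSL2.pr k)⁻¹ ∈ ({PSL2.pr a, PSL2.pr b, PSL2.pr a * PSL2.pr b} : Set P2))
    (hpb : PSL2.pr k * PSL2.pr b * (PSL2.pr k)⁻¹ ∈ ({PSL2.pr a, PSL2.pr b, PSL2.pr a * PSL2.pr b} : Set P2)) :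
    Sm k.1.trace := by
  have hba : b.1 * a.1 = -(a.1 * b.1) := by rw [hab, neg_neg]
  have hAA := pr_sq ha
  have hBB := pr_sq hb
  have hAB : PSL2.pr a * PSL2.pr b = PSL2.pr b * PSL2.pr a := by
    rw [← map_mul, ← map_mul]
    exact pr_eq_of (Or.inr (by rw [val_mul', val_mul', hab]))
  have hca : (a * b).1 * a.1 = -(a.1 * (a * b).1) := by
    rw [val_mul', Matrix.mul_assoc a.1 b.1, hba, Matrix.mul_neg, ← Matrix.mul_assoc]
  have hct : (a * b).1.trace = 0 := anti_trace hF.two (ns_tr0 hF.two ha) hca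
  obtain ⟨f, hf⟩ : ∃ f, f = MulAut.conj (PSL2.pr k) := ⟨_, rfl⟩
  have hfv : ∀ z, f z = PSL2.pr k * z * (PSL2.pr k)⁻¹ := fun z => by rw [hf]; rfl
  rw [← hfv] at hpa hpb
  rcases perm_three f hAA hBB hAB (ne_of_anti hF.two hab) hpa hpb with h | h | h | ⟨h1, h2⟩
  · exact sm_of_klein hF ha hab (by rw [← hfv, h]) (by rw [← hfv]; exact hpb)
  · refine sm_of_klein hF hb hba (by rw [← hfv, h]) ?_
    rw [← hfv]
    rcases hpa with h' | h' | h'
    · exact Or.inr (Or.inl h')
    · exact Or.inl h'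
    · exact Or.inr (Or.inr (h'.trans hAB))
  · refine sm_of_klein hF hct hca (by rw [← hfv, map_mul, h]) ?_
    rw [← hfv, map_mul]
    rcases hpa with h' | h' | h'
    · exact Or.inr (Or.inl h')
    · exact Or.inr (Or.inr (h'.trans (by rw [hAB, mul_assoc, hAA, mul_one])))
    · exact Or.inl h'
  -- a three-cycle
  by_contra hsm
  have ht : k.1.trace * k.1.trace - 1 ≠ 0 := fun h => hsm (mul_eq_zero_of_right _ h)
  have hk3 : (k * k * k).1 = (k.1.trace * k.1.trace - 1) • k.1 - k.1.trace • (1 : M2) := by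
    rw [val_mul', val_mul', sq_eq, Matrix.sub_mul, Matrix.smul_mul, Matrix.one_mul, sq_eq, smul_sub, smul_smul,
      sub_smul, one_smul]
    abel
  have hnotfix : ¬ f (PSL2.pr a) = PSL2.pr a := fun e => hsm
    (sm_of_klein hF ha hab (by rw [← hfv, e]) (by rw [← hfv]; exact hpb))
  have hnsc : ¬ IsSc (k * k * k).1 := by
    rintro ⟨c, hc⟩
    refine hnotfix ?_
    have : IsSc k.1 := ⟨(c + k.1.trace) / (k.1.trace * k.1.trace - 1), by
      apply smul_right_injective M2 ht
      show (k.1.trace * k.1.trace - 1) • k.1 = (k.1.trace * k.1.trace - 1) •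
        ((c + k.1.trace) / (k.1.trace * k.1.trace - 1)) • (1 : M2)
      rw [smul_smul, mul_div_cancel₀ _ ht, add_smul, ← hc, hk3, sub_add_cancel]⟩
    rw [hfv, pr_eq_one_iff.2 this, one_mul, inv_one, mul_one]
  have hcomm : ∀ z, f (f (f z)) = z → PSL2.pr (k * k * k) * z = z * PSL2.pr (k * k * k) := by
    intro z hz
    rw [hfv, hfv, hfv] at hz
    rw [map_mul, map_mul]
    calc PSL2.pr k * PSL2.pr k * PSL2.pr k * z
        = PSL2.pr k * (PSL2.pr k * (PSL2.pr k * z * (PSL2.pr k)⁻¹) * (PSL2.pr k)⁻¹) * (PSL2.pr k)⁻¹ *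
            (PSL2.pr k * PSL2.pr k * PSL2.pr k) := by group
      _ = z * (PSL2.pr k * PSL2.pr k * PSL2.pr k) := by rw [hz]
  have hfixk : f (PSL2.pr (k * k * k)) = PSL2.pr (k * k * k) := by rw [hfv, map_mul, map_mul]; group
  have ht0 : (k * k * k).1.trace = 0 := by
    rcases signs (hcomm _ h1) with h | h
    · rcases signs (hcomm _ h2) with h' | h'
      · exfalso
        obtain ⟨u, w, e⟩ := exists_comb (ns_tr0 hF.two ha) h
        rw [e] at h'
        simp only [comb, Matrix.add_mul, Matrix.mul_add, Matrix.smul_mul, Matrix.mul_smul, Matrix.one_mul,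
          Matrix.mul_one, hba, smul_neg] at h'
        have e3 : (2 * w) • (a * b).1 = 0 := by rw [val_mul']; linear_combination (norm := module) h'
        rcases smul_eq_zero.1 e3 with e3 | e3
        · obtain rfl := (mul_eq_zero.1 e3).resolve_left hF.two
          exact hnsc ⟨u, by rw [e]; simp [comb]⟩
        · have := (a * b).2
          rw [e3, Matrix.det_zero] at this
          exact zero_ne_one this
      · exact anti_trace hF.two (ns_tr0 hF.two hb) h'
    · exact anti_trace hF.two (ns_tr0 hF.two ha) h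
  rcases klein_cent hF.two ha hb hab ht0 (hcomm _ h1) (hcomm _ h2) with h | h | h <;> rw [h] at hfixk
  · exact hnotfix hfixk
  · exact hsm (sm_of_klein hF hb hba (by rw [← hfv, hfixk]) (by
      rw [← hfv]
      rcases hpa with h' | h' | h'
      · exact Or.inr (Or.inl h')
      · exact Or.inl h'
      · exact Or.inr (Or.inr (h'.trans hAB))))
  · exact hsm (sm_of_klein hF hct hca (by rw [← hfv, map_mul, hfixk]) (by
      rw [← hfv, map_mul]
      rcases hpa with h' | h' | h'
      · exact Or.inr (Or.inl h')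
      · exact Or.inr (Or.inr (h'.trans (by rw [hAB, mul_assoc, hAA, mul_one])))
      · exact Or.inl h'))

omit hF in
theorem inverter_trace {g s : SL2} (ht : g.1.trace * g.1.trace ≠ 4) (hs : s * g = g⁻¹ * s) : s.1.trace = 0 := by
  have h := sq_of_inverter ht hs
  rw [sq_eq, ← zero_sub, sub_left_inj, smul_eq_zero] at h
  refine h.resolve_right fun h0 => ?_
  have := s.2
  rw [h0, Matrix.det_zero] at this
  exact zero_ne_one this

/-- The cases of a pair generating a solvable subgroup. -/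
theorem cases_of_spair {X Y : SL2} (hX : ¬ IsSc X.1) (h : SPair (PSL2.pr X) (PSL2.pr Y)) :
    X * Y = Y * X ∨ (∃ v : Fin 2 → F, v ≠ 0 ∧ (∃ a : F, X.1 *ᵥ v = a • v) ∧ ∃ b : F, Y.1 *ᵥ v = b • v) ∨
      (Y.1.trace = 0 ∧ (X * Y).1.trace = 0) ∨ (X.1.trace = 0 ∧ (Y.1.trace = 0 ∨ (X * Y).1.trace = 0)) ∨
      (Sm X.1.trace ∧ Sm Y.1.trace ∧ Sm (X * Y).1.trace) := by
  obtain ⟨L, hL⟩ : ∃ L : Subgroup P2, L = Subgroup.closure {PSL2.pr X, PSL2.pr Y} := ⟨_, rfl⟩
  have hXL : PSL2.pr X ∈ L := hL ▸ Subgroup.subset_closure (by simp)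
  have hYL : PSL2.pr Y ∈ L := hL ▸ Subgroup.subset_closure (by simp)
  have hXYL : PSL2.pr (X * Y) ∈ L := by rw [map_mul]; exact mul_mem hXL hYL
  haveI : Nontrivial L := ⟨⟨⟨_, hXL⟩, 1, fun e => hX (pr_eq_one_iff.1 (congrArg Subtype.val e))⟩⟩
  obtain ⟨A, hAn, hA1, hAc⟩ := Cfsg.Agent.Perm.NoFixConj.exists_abelian_normal_ne_bot
    (show Group.IsSolvable L from hL ▸ h)
  obtain ⟨g', hg', hgne⟩ := A.bot_or_exists_ne_one.resolve_left hA1
  obtain ⟨g, hg⟩ := PSL2.pr_surjective (g' : P2)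
  have hgs : ¬ IsSc g.1 := fun e => hgne (Subtype.ext (hg ▸ pr_eq_one_iff.2 e))
  have hmem : ∀ k : SL2, PSL2.pr k ∈ L → ∃ w ∈ A, (w : P2) = PSL2.pr (k * g * k⁻¹) := fun k hk =>
    ⟨_, hAn.conj_mem g' hg' ⟨_, hk⟩, by rw [map_mul, map_mul, map_inv, hg]; rfl⟩
  have hcg : ∀ k : SL2, PSL2.pr k ∈ L →
      PSL2.pr (k * g * k⁻¹) * PSL2.pr g = PSL2.pr g * PSL2.pr (k * g * k⁻¹) := fun k hk => by
    obtain ⟨w, hw, e⟩ := hmem k hk
    rw [← e, hg]
    exact congrArg Subtype.val (hAc _ hw _ hg').eq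
  by_cases hall : ∀ k : SL2, PSL2.pr k ∈ L → (k * g * k⁻¹).1 * g.1 = g.1 * (k * g * k⁻¹).1
  · by_cases ht : g.1.trace * g.1.trace = 4
    · -- a unipotent normal subgroup
      right; left
      have h3 := hF.three
      obtain ⟨v, c, hv, hvg, hc⟩ : ∃ (v : Fin 2 → F) (c : F), v ≠ 0 ∧ g.1 *ᵥ v = c • v ∧ c = -g.1.trace := by
        obtain ⟨v, hv, h1⟩ := Matrix.exists_mulVec_eq_zero_iff.mpr
          (show (comb g.1 g.1.trace 1).det = 0 by
            rw [det_comb, g.2, Qf]; linear_combination 2 * ht + 3 * h3)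
        refine ⟨v, _, hv, ?_, rfl⟩
        simp only [comb, one_smul, Matrix.add_mulVec, Matrix.smul_mulVec, Matrix.one_mulVec] at h1
        rw [neg_smul]
        exact eq_neg_of_add_eq_zero_right h1
      have hline : ∀ k : SL2, PSL2.pr k ∈ L → ∃ b : F, k.1 *ᵥ v = b • v := by
        intro k hk
        obtain ⟨u, w, hkg⟩ := exists_comb hgs (hall k hk)
        have hw : w ≠ 0 := by
          rintro rfl
          refine hgs ?_
          have e : IsSc (k * g * k⁻¹).1 := ⟨u, by simp [hkg, comb]⟩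
          rwa [← isSc_conj (isConj_iff.2 ⟨k⁻¹, by group⟩ : IsConj (k * g * k⁻¹) g) e]
        have hfix : (k * g * k⁻¹).1 *ᵥ (k.1 *ᵥ v) = c • (k.1 *ᵥ v) := by
          rw [Matrix.mulVec_mulVec, ← val_mul', inv_mul_cancel_right, val_mul', ← Matrix.mulVec_mulVec, hvg,
            Matrix.mulVec_smul]
        rw [hkg, comb, Matrix.add_mulVec, Matrix.smul_mulVec, Matrix.smul_mulVec, Matrix.one_mulVec] at hfix
        obtain ⟨d, hgd⟩ : ∃ d : F, g.1 *ᵥ (k.1 *ᵥ v) = d • (k.1 *ᵥ v) := ⟨(c - u) / w, by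
          apply smul_right_injective (Fin 2 → F) hw
          show w • (g.1 *ᵥ (k.1 *ᵥ v)) = w • (((c - u) / w) • (k.1 *ᵥ v))
          rw [smul_smul, mul_div_cancel₀ _ hw, sub_smul, eq_sub_iff_add_eq, add_comm]
          exact hfix⟩
        have hdc : d = c := by
          have hkv : k.1 *ᵥ v ≠ 0 := fun e => hv (by
            have := congrArg (k⁻¹.1 *ᵥ ·) e
            simpa only [Matrix.mulVec_mulVec, ← val_mul', inv_mul_cancel, Matrix.SpecialLinearGroup.coe_one,
              Matrix.one_mulVec, Matrix.mulVec_zero] using this)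
          have h1 := congrArg (fun M : M2 => M *ᵥ (k.1 *ᵥ v)) (sq_eq g)
          simp only [← Matrix.mulVec_mulVec _ g.1 g.1, hgd, Matrix.mulVec_smul, Matrix.sub_mulVec,
            Matrix.one_mulVec, Matrix.smul_mulVec, smul_smul] at h1
          have h2 : (d * d - g.1.trace * d + 1) • (k.1 *ᵥ v) = 0 := by linear_combination (norm := module) h1
          have h4 := (smul_eq_zero.1 h2).resolve_right hkv
          refine sub_eq_zero.1 (mul_self_eq_zero.1 ?_)
          rw [hc]
          linear_combination h4 + g.1.trace * d * h3 + ht + h3 * 1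
        subst hdc
        by_contra hb
        push Not at hb
        have hdet : v 0 * (k.1 *ᵥ v) 1 - v 1 * (k.1 *ᵥ v) 0 ≠ 0 := by
          intro h0
          by_cases hv0 : v 0 = 0
          · have hv1 : v 1 ≠ 0 := fun e => hv (funext fun i => by fin_cases i <;> assumption)
            rw [hv0, zero_mul, zero_sub, neg_eq_zero] at h0
            refine hb ((k.1 *ᵥ v) 1 / v 1) (funext fun i => ?_)
            fin_cases i
            · show (k.1 *ᵥ v) 0 = (k.1 *ᵥ v) 1 / v 1 * v 0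
              rw [hv0, mul_zero]; exact (mul_eq_zero.1 h0).resolve_left hv1
            · show (k.1 *ᵥ v) 1 = (k.1 *ᵥ v) 1 / v 1 * v 1
              rw [div_mul_cancel₀ _ hv1]
          · refine hb ((k.1 *ᵥ v) 0 / v 0) (funext fun i => ?_)
            fin_cases i
            · show (k.1 *ᵥ v) 0 = (k.1 *ᵥ v) 0 / v 0 * v 0
              rw [div_mul_cancel₀ _ hv0]
            · show (k.1 *ᵥ v) 1 = (k.1 *ᵥ v) 0 / v 0 * v 1
              rw [div_mul_eq_mul_div, eq_div_iff hv0]
              linear_combination h0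
        obtain ⟨z, hz⟩ : ∃ z, z = k.1 *ᵥ v := ⟨_, rfl⟩
        rw [← hz] at hgd hdet
        have a0 : g.1 0 0 * v 0 + g.1 0 1 * v 1 = d * v 0 := by
          simpa [Matrix.mulVec, dotProduct, Fin.sum_univ_two] using congrFun hvg 0
        have a1 : g.1 1 0 * v 0 + g.1 1 1 * v 1 = d * v 1 := by
          simpa [Matrix.mulVec, dotProduct, Fin.sum_univ_two] using congrFun hvg 1
        have b0 : g.1 0 0 * z 0 + g.1 0 1 * z 1 = d * z 0 := by
          simpa [Matrix.mulVec, dotProduct, Fin.sum_univ_two] using congrFun hgd 0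
        have b1 : g.1 1 0 * z 0 + g.1 1 1 * z 1 = d * z 1 := by
          simpa [Matrix.mulVec, dotProduct, Fin.sum_univ_two] using congrFun hgd 1
        refine hgs ((isSc_iff _).2 ⟨?_, ?_, ?_⟩)
        · exact (mul_eq_zero.1 (show g.1 0 1 * (v 0 * z 1 - v 1 * z 0) = 0 by
            linear_combination v 0 * b0 - z 0 * a0)).resolve_right hdet
        · exact (mul_eq_zero.1 (show g.1 1 0 * (v 0 * z 1 - v 1 * z 0) = 0 by
            linear_combination z 1 * a1 - v 1 * b1)).resolve_right hdet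
        · have e00 : (g.1 0 0 - d) * (v 0 * z 1 - v 1 * z 0) = 0 := by linear_combination z 1 * a0 - v 1 * b0
          have e11 : (g.1 1 1 - d) * (v 0 * z 1 - v 1 * z 0) = 0 := by linear_combination v 0 * b1 - z 0 * a1
          rw [sub_eq_zero.1 ((mul_eq_zero.1 e00).resolve_right hdet),
            sub_eq_zero.1 ((mul_eq_zero.1 e11).resolve_right hdet)]
      exact ⟨v, hv, hline X hXL, hline Y hYL⟩
    · -- a torus
      have hcase : ∀ k : SL2, PSL2.pr k ∈ L → k * g = g * k ∨ k * g = g⁻¹ * k := by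
        intro k hk
        obtain ⟨u, w, hkg⟩ := exists_comb hgs (hall k hk)
        have h1 := trace_conj'' k g
        rw [hkg, comb_trace] at h1
        have hd := (k * g * k⁻¹).2
        rw [hkg, det_comb, g.2, Qf] at hd
        have hy : (w * w - 1) * (g.1.trace * g.1.trace - 4) = 0 := by
          linear_combination (g.1.trace + 2 * u + w * g.1.trace) * h1 - 4 * hd
        have hy1 := sub_eq_zero.mp ((mul_eq_zero.mp hy).resolve_right (sub_ne_zero.mpr ht))
        rcases mul_self_eq_one_iff.1 hy1 with e | e <;> rw [e] at h1 hkg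
        · left
          have hu : u = 0 := (mul_eq_zero.1 (show (2 : F) * u = 0 by linear_combination h1)).resolve_left hF.two
          refine mul_inv_eq_iff_eq_mul.1 (Subtype.ext ?_)
          rw [hkg, hu]; simp [comb]
        · right
          have hu : u = g.1.trace :=
            mul_left_cancel₀ hF.two (by linear_combination h1)
          refine mul_inv_eq_iff_eq_mul.1 (Subtype.ext ?_)
          rw [hkg, hu, inv_val, comb, neg_one_smul, sub_eq_add_neg]
      rcases hcase X hXL with hx | hx <;> rcases hcase Y hYL with hy | hy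
      · exact Or.inl (tor_comm hgs X (Subgroup.mem_centralizer_singleton_iff.2 hx) Y
          (Subgroup.mem_centralizer_singleton_iff.2 hy))
      · refine Or.inr (Or.inr (Or.inl ⟨inverter_trace ht hy, inverter_trace ht ?_⟩))
        calc X * Y * g = X * g⁻¹ * Y := by rw [mul_assoc, hy, ← mul_assoc]
          _ = g⁻¹ * X * Y := by rw [(Commute.inv_right hx).eq]
          _ = g⁻¹ * (X * Y) := mul_assoc _ _ _
      · refine Or.inr (Or.inr (Or.inr (Or.inl ⟨inverter_trace ht hx, Or.inr (inverter_trace ht ?_)⟩)))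
        calc X * Y * g = X * g * Y := by rw [mul_assoc, hy, ← mul_assoc]
          _ = g⁻¹ * X * Y := by rw [hx]
          _ = g⁻¹ * (X * Y) := mul_assoc _ _ _
      · exact Or.inr (Or.inr (Or.inr (Or.inl ⟨inverter_trace ht hx, Or.inl (inverter_trace ht hy)⟩)))
  · -- a four group
    push Not at hall
    obtain ⟨k₀, hk₀, hne⟩ := hall
    obtain ⟨m, hm⟩ : ∃ m : SL2, m = k₀ * g * k₀⁻¹ := ⟨_, rfl⟩
    rw [← hm] at hne
    have hanti : g.1 * m.1 = -(m.1 * g.1) := by
      rcases signs (hm ▸ hcg k₀ hk₀) with e | e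
      · exact absurd e hne
      · rw [e, neg_neg]
    have hms : ¬ IsSc m.1 := fun e => hgs (by
      rw [hm] at e
      rwa [← isSc_conj (isConj_iff.2 ⟨k₀⁻¹, by group⟩ : IsConj (k₀ * g * k₀⁻¹) g) e])
    have hgt : g.1.trace = 0 := anti_trace hF.two hms hanti
    have hmt : m.1.trace = 0 := by rw [hm, trace_conj'', hgt]
    obtain ⟨w₀, hw₀, ew₀⟩ := hmem k₀ hk₀
    rw [← hm] at ew₀
    have hperm : ∀ k : SL2, PSL2.pr k ∈ L → Sm k.1.trace := by
      intro k hk
      have key : ∀ z : SL2, z.1.trace = 0 → ∀ w ∈ A, (w : P2) = PSL2.pr z →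
          PSL2.pr k * PSL2.pr z * (PSL2.pr k)⁻¹ ∈
            ({PSL2.pr g, PSL2.pr m, PSL2.pr g * PSL2.pr m} : Set P2) := by
        intro z hz w hw e
        have hw' := hAn.conj_mem w hw ⟨_, hk⟩
        have c1 := congrArg Subtype.val (hAc _ hw' _ hg').eq
        have c2 := congrArg Subtype.val (hAc _ hw' _ hw₀).eq
        rw [Subgroup.coe_mul, Subgroup.coe_mul] at c1 c2
        simp only [Subgroup.coe_mul, Subgroup.coe_inv, e, ← hg] at c1
        simp only [Subgroup.coe_mul, Subgroup.coe_inv, e, ew₀] at c2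
        rw [← map_inv, ← map_mul, ← map_mul] at c1 c2 ⊢
        rw [← map_mul]
        have := klein_cent hF.two hgt hmt hanti (by rw [trace_conj'', hz]) c1 c2
        rwa [← map_mul] at this
      exact sm_of_perm hF hgt hmt hanti (key g hgt g' hg' hg.symm) (key m hmt w₀ hw₀ ew₀)
    exact Or.inr (Or.inr (Or.inr (Or.inr ⟨hperm X hXL, hperm Y hYL, hperm _ hXYL⟩)))

end Cfsg.Agent.Small.SolvPairsThree
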