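import Cfsg.Agent.Lib.Small.SL2.SolvablePairsThree

/-!
Counting the partners of an element in a solvable pair in `PSL₂(3ⁿ)`, `n` odd.
-/

set_option autoImplicit false
set_option linter.unusedSectionVars false

namespace Cfsg.Agent.Small.SolvPairsThree

open Matrix Cfsg.Agent.Small Cfsg.Agent.Small.SL2C Cfsg.Agent.Small.SolvPairs

variable {F : Type*} [Field F] [Fintype F]

local notation "M2" => Matrix (Fin 2) (Fin 2) F
local notation "SL2" => Matrix.SpecialLinearGroup (Fin 2) F
local notation "P2" => Matrix.ProjectiveSpecialLinearGroup (Fin 2) F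

/-- The lifts of the partners of an element. -/
def partners (X : SL2) : Set SL2 := {Y | SPair (PSL2.pr X) (PSL2.pr Y)}

theorem count_pr3 (h2 : (2 : F) ≠ 0) (X : SL2) :
    2 * Nat.card {y : P2 // SPair (PSL2.pr X) y} = (partners X).ncard := by
  refine Eq.trans ?_ (Nat.card_coe_set_eq (partners X))
  refine Eq.trans ?_ (Nat.card_congr
    (QuotientGroup.preimageMkEquivSubgroupProdSet (Subgroup.center SL2) {y : P2 | SPair (PSL2.pr X) y})).symm
  rw [Nat.card_prod, center_card_odd (F := F) h2]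
  rfl

theorem count_conjP {x x' : P2} (h : IsConj x x') :
    Nat.card {y : P2 // SPair x y} = Nat.card {y : P2 // SPair x' y} := by
  obtain ⟨S, rfl⟩ := isConj_iff.1 h
  exact Nat.card_congr (Equiv.subtypeEquiv (MulAut.conj S).toEquiv fun Y =>
    (spair_symm_map (x := x) (y := Y) (MulAut.conj S)).symm)

theorem SPair.of_invol {X Y : SL2} (hY : Y.1.trace = 0) (hXY : (X * Y).1.trace = 0) :
    SPair (PSL2.pr X) (PSL2.pr Y) := by
  have h := solvable_two (pr_sq hY) (pr_sq hXY)
  rw [map_mul] at h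
  refine SPair.mono h ?_ (Subgroup.subset_closure (by simp))
  have := mul_mem
    (Subgroup.subset_closure (show PSL2.pr X * PSL2.pr Y ∈ ({PSL2.pr Y, PSL2.pr X * PSL2.pr Y} : Set P2) by simp))
    (inv_mem (Subgroup.subset_closure (show PSL2.pr Y ∈ ({PSL2.pr Y, PSL2.pr X * PSL2.pr Y} : Set P2) by simp)))
  rwa [mul_inv_cancel_right] at this

theorem SPair.of_borel {X Y : SL2} (hX : X ∈ borelSL F) (hY : Y ∈ borelSL F) : SPair (PSL2.pr X) (PSL2.pr Y) := by
  haveI : Group.IsSolvable ((borelSL F).map PSL2.pr) := Group.isSolvable_of_surjective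
    (MonoidHom.subgroupMap_surjective PSL2.pr (borelSL F))
  exact SPair.of_le _ (Subgroup.mem_map_of_mem _ hX) (Subgroup.mem_map_of_mem _ hY)

theorem SPair.of_comm {X Y : SL2} (h : X * Y = Y * X) : SPair (PSL2.pr X) (PSL2.pr Y) :=
  SPair.of_commute (by rw [← map_mul, ← map_mul, h])

variable (hF : Fld F)

include hF

theorem four_eq_one : (4 : F) = 1 := by linear_combination hF.three

theorem roots_zero : roots (0 : F) 1 = 0 := by
  rw [roots, Nat.card_eq_zero]
  exact Or.inl ⟨fun k => hF.nonsq k.1 (by linear_combination k.2)⟩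

theorem sol_zero : sol (0 : F) 1 = Fintype.card F + 1 := by
  have h := sol_add_roots (t := (0 : F)) (d := 1) (by rw [mul_zero, mul_one, four_eq_one hF]; exact zero_ne_one)
  rwa [roots_zero hF, add_zero] at h

/-- The elements inverting a torus. -/
theorem card_inverters {U : SL2} (h4 : U.1.trace * U.1.trace ≠ 4) :
    {Y : SL2 | Y * U = U⁻¹ * Y}.ncard = sol U.1.trace 1 := by
  obtain ⟨s, hs⟩ := exists_inverter h4
  rw [← card_centralizer U (not_isSc_of_trace h4)]
  refine (ncard_eq (s := {Y : SL2 | Y * U = U * Y}) (Equiv.subtypeEquiv (Equiv.mulLeft s) fun Y => ?_)).symm.trans ?_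
  · simp only [Set.mem_ofPred_eq, Equiv.coe_mulLeft]
    constructor
    · intro h; rw [mul_assoc, h, ← mul_assoc, hs, mul_assoc]
    · intro h
      rw [← mul_assoc U⁻¹, ← hs, mul_assoc, mul_assoc] at h
      exact mul_left_cancel h
  · rw [← Nat.card_coe_set_eq]
    exact Nat.card_congr (Equiv.subtypeEquiv (Equiv.refl _) fun Y =>
      Subgroup.mem_centralizer_singleton_iff.symm)

theorem inverters_iff {U Y : SL2} (h4 : U.1.trace * U.1.trace ≠ 4) :
    Y * U = U⁻¹ * Y ↔ Y.1.trace = 0 ∧ (U * Y).1.trace = 0 := by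
  constructor
  · intro h
    refine ⟨inverter_trace h4 h, inverter_trace h4 ?_⟩
    rw [mul_assoc, h, ← mul_assoc, mul_inv_cancel, one_mul, inv_mul_cancel_left]
  · rintro ⟨h, h'⟩
    apply Subtype.ext
    have e1 : Y⁻¹.1 = -Y.1 := by rw [inv_val, h, zero_smul, zero_sub]
    have e2 : (U * Y)⁻¹.1 = -(U * Y).1 := by rw [inv_val, h', zero_smul, zero_sub]
    rw [_root_.mul_inv_rev, val_mul', e1, Matrix.neg_mul, neg_inj] at e2
    have e3 : Y * U⁻¹ = U * Y := Subtype.ext (by rw [val_mul']; exact e2)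
    exact congrArg Subtype.val (show Y * U = U⁻¹ * Y by
      calc Y * U = U⁻¹ * (U * Y) * U := by group
        _ = U⁻¹ * (Y * U⁻¹) * U := by rw [e3]
        _ = U⁻¹ * Y := by group)

/-- Partners of an element without eigenvectors, of order at least four. -/
theorem count_nonsplit3 {U : SL2} (h4 : U.1.trace * U.1.trace ≠ 4) (ht : U.1.trace ≠ 0)
    (hr : roots U.1.trace 1 = 0) : (partners U).ncard = 2 * (Fintype.card F + 1) := by
  have hsc := not_isSc_of_trace h4
  obtain ⟨A, hA⟩ : ∃ A : Set SL2, A = {Y | Y * U = U * Y} := ⟨_, rfl⟩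
  obtain ⟨B, hB⟩ : ∃ B : Set SL2, B = {Y | Y * U = U⁻¹ * Y} := ⟨_, rfl⟩
  have hset : partners U = A ∪ B := by
    ext Y
    simp only [partners, Set.mem_ofPred_eq, Set.mem_union, hA, hB]
    constructor
    · intro h
      rcases cases_of_spair hF hsc h with h | ⟨v, hv, ⟨a, ha⟩, -⟩ | h | ⟨h, -⟩ | ⟨h, -⟩
      · exact Or.inl h.symm
      · exact absurd (roots_two_of_trace hv ha h4) (by omega)
      · exact Or.inr ((inverters_iff hF h4).2 h)
      · exact absurd h ht
      · exact absurd (((sm_cases h).resolve_left ht).trans (four_eq_one hF).symm) h4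
    · rintro (h | h)
      · exact SPair.of_comm h.symm
      · exact SPair.of_invol ((inverters_iff hF h4).1 h).1 ((inverters_iff hF h4).1 h).2
  have hsol : sol U.1.trace 1 = Fintype.card F + 1 := by
    have := sol_add_roots (t := U.1.trace) (d := 1) (by rwa [mul_one])
    rwa [hr, add_zero] at this
  have hAc : A.ncard = Fintype.card F + 1 := by
    rw [← hsol, ← card_centralizer U hsc, hA, ← Nat.card_coe_set_eq]
    exact Nat.card_congr (Equiv.subtypeEquiv (Equiv.refl _) fun Y =>
      Subgroup.mem_centralizer_singleton_iff.symm)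
  have hdisj : Disjoint A B := by
    rw [Set.disjoint_left, hA, hB]
    intro Y h h'
    exact inv_ne_self h4 (mul_right_cancel (h'.symm.trans h))
  rw [hset, Set.ncard_union_eq hdisj (Set.toFinite _) (Set.toFinite _), hAc, hB, card_inverters hF h4, hsol, two_mul]

/-- Partners of a split element of order at least four. -/
theorem count_split3 (t : Fˣ) (ht : (t : F) * t ≠ 1) :
    (partners (mkSL !![(t : F), 0; 0, ((t⁻¹ : Fˣ) : F)] (by rw [Matrix.det_fin_two_of]; simp))).ncard =
      2 * Fintype.card F * (Fintype.card F - 1) := by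
  classical
  obtain ⟨U, hU⟩ : ∃ U : SL2, U = mkSL !![(t : F), 0; 0, ((t⁻¹ : Fˣ) : F)] (by rw [Matrix.det_fin_two_of]; simp) :=
    ⟨_, rfl⟩
  rw [← hU]
  obtain ⟨s, hs⟩ : ∃ s : F, s = ((t⁻¹ : Fˣ) : F) := ⟨_, rfl⟩
  have hts : (t : F) * s = 1 := by rw [hs, Units.mul_inv]
  have hts' : (t : F) - s ≠ 0 := fun h => ht (by linear_combination (t : F) * h + hts)
  have hne : (t : F) + s ≠ 0 := fun h => hF.nonsq t (by linear_combination (t : F) * h - hts)
  have hne1 : ((t : F) + s) * (t + s) ≠ 1 := fun h => hts' (mul_self_eq_zero.1 (by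
    linear_combination h - 4 * hts - hF.three))
  have hUv : U.1 = !![(t : F), 0; 0, s] := by rw [hs, hU]; rfl
  have hUt : U.1.trace = t + s := by rw [hUv, Matrix.trace_fin_two_of]
  have hUsc : ¬ IsSc U.1 := fun h => by
    obtain ⟨-, -, h3⟩ := (isSc_iff _).1 h
    simp [hUv] at h3
    exact hts' (sub_eq_zero.2 h3)
  have hUY : ∀ Y : SL2, (U * Y).1.trace = t * Y.1 0 0 + s * Y.1 1 1 := fun Y => by
    rw [val_mul', hUv, Matrix.trace_fin_two]
    simp [Matrix.mul_apply, Fin.sum_univ_two]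
  obtain ⟨A, hA⟩ : ∃ A : Set SL2, A = {Y | Y.1 1 0 = 0} := ⟨_, rfl⟩
  obtain ⟨B, hB⟩ : ∃ B : Set SL2, B = {Y | Y.1 0 1 = 0} := ⟨_, rfl⟩
  obtain ⟨C, hC⟩ : ∃ C : Set SL2, C = {Y | Y.1 0 0 = 0 ∧ Y.1 1 1 = 0} := ⟨_, rfl⟩
  have hUdiag : U.1 1 0 = 0 ∧ U.1 0 1 = 0 := by simp [hUv]
  obtain ⟨W, hW⟩ : ∃ W : SL2, W.1 = !![(0 : F), 1; -1, 0] :=
    ⟨mkSL !![(0 : F), 1; -1, 0] (by rw [Matrix.det_fin_two_of]; ring), rfl⟩
  have hset : partners U = (A ∪ B) ∪ C := by
    ext Y
    simp only [partners, Set.mem_ofPred_eq, Set.mem_union, hA, hB, hC]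
    constructor
    · intro h
      rcases cases_of_spair hF hUsc h with h | ⟨v, hv, ⟨a, ha⟩, b, hb⟩ | ⟨h, h'⟩ | ⟨h, -⟩ | ⟨h, -⟩
      · left; left
        have h' := congrArg (fun Z : SL2 => Z.1 1 0) h
        simp [hUv, Matrix.mul_apply, Fin.sum_univ_two] at h'
        exact (mul_eq_zero.1 (show ((t : F) - s) * Y.1 1 0 = 0 by linear_combination -h')).resolve_left hts'
      · left
        have a0 : (t : F) * v 0 = a * v 0 := by
          simpa [hUv, Matrix.mulVec, dotProduct, Fin.sum_univ_two] using congrFun ha 0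
        have a1 : s * v 1 = a * v 1 := by
          simpa [hUv, Matrix.mulVec, dotProduct, Fin.sum_univ_two] using congrFun ha 1
        have b0 : Y.1 0 0 * v 0 + Y.1 0 1 * v 1 = b * v 0 := by
          simpa [Matrix.mulVec, dotProduct, Fin.sum_univ_two] using congrFun hb 0
        have b1 : Y.1 1 0 * v 0 + Y.1 1 1 * v 1 = b * v 1 := by
          simpa [Matrix.mulVec, dotProduct, Fin.sum_univ_two] using congrFun hb 1
        rcases mul_eq_zero.1 ((mul_eq_zero.1 (show ((t : F) - s) * (v 0 * v 1) = 0 by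
          linear_combination v 1 * a0 - v 0 * a1)).resolve_left hts') with h0 | h1
        · right
          have hv1 : v 1 ≠ 0 := fun e => hv (funext fun i => by fin_cases i <;> assumption)
          rw [h0, mul_zero, mul_zero, zero_add] at b0
          exact (mul_eq_zero.1 b0).resolve_right hv1
        · left
          have hv0 : v 0 ≠ 0 := fun e => hv (funext fun i => by fin_cases i <;> assumption)
          rw [h1, mul_zero, mul_zero, add_zero] at b1
          exact (mul_eq_zero.1 b1).resolve_right hv0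
      · right
        rw [hUY] at h'
        rw [Matrix.trace_fin_two] at h
        have h0 : Y.1 0 0 = 0 := (mul_eq_zero.1
          (show ((t : F) - s) * Y.1 0 0 = 0 by linear_combination h' - s * h)).resolve_left hts'
        exact ⟨h0, by linear_combination h - h0⟩
      · exact absurd (hUt ▸ h) hne
      · rw [hUt] at h
        exact absurd ((sm_cases h).resolve_left hne) hne1
    · rintro ((h | h) | ⟨h0, h1⟩)
      · exact SPair.of_borel (mem_borelSL.2 hUdiag.1) (mem_borelSL.2 h)
      · have key : ∀ Z : SL2, Z.1 0 1 = 0 → W * Z * W⁻¹ ∈ borelSL F := by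
          intro Z hZ
          refine mem_borelSL.2 ?_
          rw [val_mul', val_mul', inv_val]
          simp [hW, Matrix.mul_apply, Fin.sum_univ_two, Matrix.trace_fin_two, Matrix.vecMul, dotProduct, hZ]
        have h3 := SPair.of_borel (key U hUdiag.2) (key Y h)
        simp only [map_mul, map_inv] at h3
        exact (spair_symm_map (MulAut.conj (PSL2.pr W))).1 h3
      · exact SPair.of_invol (by rw [Matrix.trace_fin_two, h0, h1, add_zero]) (by rw [hUY, h0, h1]; ring)
  obtain ⟨I, hI⟩ : ∃ I : Set SL2, I = A ∩ B := ⟨_, rfl⟩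
  have hIc : I.ncard = Fintype.card F - 1 := by
    rw [hI, hA, hB, ← Nat.card_coe_set_eq, ← Fintype.card_units, ← Nat.card_eq_fintype_card]
    refine Nat.card_congr
      { toFun := fun Y => Units.mk0 (Y.1.1 0 0) (fun h => by
            have hd := det_eq Y.1
            rw [h, show Y.1.1 1 0 = 0 from Y.2.1] at hd
            simp at hd)
        invFun := fun v => ⟨mkSL !![(v : F), 0; 0, ((v⁻¹ : Fˣ) : F)] (by rw [Matrix.det_fin_two_of]; simp), rfl, rfl⟩
        left_inv := fun Y => ?_
        right_inv := fun v => Units.ext rfl }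
    refine Subtype.ext (ext4 rfl (show Y.1.1 0 1 = 0 from Y.2.2).symm (show Y.1.1 1 0 = 0 from Y.2.1).symm ?_)
    have hd := det_eq Y.1
    rw [show Y.1.1 1 0 = 0 from Y.2.1, mul_zero, sub_zero] at hd
    show ((_ : Fˣ)⁻¹ : Fˣ).val = Y.1.1 1 1
    rw [Units.val_inv_eq_inv_val]
    exact inv_eq_of_mul_eq_one_right hd
  have hCc : C.ncard = Fintype.card F - 1 := by
    rw [hC, ← Nat.card_coe_set_eq, ← Fintype.card_units, ← Nat.card_eq_fintype_card]
    refine Nat.card_congr
      { toFun := fun Y => Units.mk0 (Y.1.1 0 1) (fun h => by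
            have hd := det_eq Y.1
            rw [h, Y.2.1] at hd
            simp at hd)
        invFun := fun v => ⟨mkSL !![0, (v : F); -((v⁻¹ : Fˣ) : F), 0] (by rw [Matrix.det_fin_two_of]; simp),
          rfl, rfl⟩
        left_inv := fun Y => ?_
        right_inv := fun v => Units.ext rfl }
    refine Subtype.ext (ext4 Y.2.1.symm rfl ?_ Y.2.2.symm)
    have hd := det_eq Y.1
    rw [Y.2.1, zero_mul, zero_sub] at hd
    show -((_ : Fˣ)⁻¹ : Fˣ).val = Y.1.1 1 0
    rw [Units.val_inv_eq_inv_val]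
    have : Y.1.1 0 1 * -Y.1.1 1 0 = 1 := by linear_combination hd
    rw [show ((Units.mk0 (Y.1.1 0 1) _ : Fˣ) : F)⁻¹ = -Y.1.1 1 0 from inv_eq_of_mul_eq_one_right this, neg_neg]
  have hdisj : (A ∪ B) ∩ C = ∅ := by
    ext Y
    simp only [hA, hB, hC, Set.mem_inter_iff, Set.mem_union, Set.mem_ofPred_eq, Set.mem_empty_iff_false, iff_false]
    rintro ⟨h | h, h0, h1⟩ <;> · have hd := det_eq Y; simp [h, h0] at hd
  have hBA : B.ncard = A.ncard := by
    have htr : ∀ Y : SL2, ∃ Z : SL2, Z.1 = !![Y.1 0 0, Y.1 1 0; Y.1 0 1, Y.1 1 1] := fun Y =>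
      ⟨mkSL !![Y.1 0 0, Y.1 1 0; Y.1 0 1, Y.1 1 1] (by rw [Matrix.det_fin_two_of]; linear_combination det_eq Y), rfl⟩
    choose tr htr using htr
    have hinj : Function.Involutive tr := fun Y => ext4 (by simp [htr]) (by simp [htr]) (by simp [htr]) (by simp [htr])
    refine ncard_eq (Equiv.subtypeEquiv hinj.toPerm fun Y => ?_)
    simp [hA, hB, htr]
  have e1 := Set.ncard_union_add_ncard_inter A B (Set.toFinite _) (Set.toFinite _)
  have e2 := Set.ncard_union_add_ncard_inter (A ∪ B) C (Set.toFinite _) (Set.toFinite _)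
  rw [← hI, hIc, hBA] at e1
  rw [hdisj, Set.ncard_empty, hCc] at e2
  have hAc : A.ncard = (Fintype.card F - 1) * Fintype.card F := hA ▸ card_lower
  rw [hset]
  obtain ⟨q, hq⟩ : ∃ q, Fintype.card F = q + 1 := ⟨Fintype.card F - 1, (Nat.sub_add_cancel Fintype.card_pos).symm⟩
  rw [hq] at e1 e2 hAc ⊢
  simp only [Nat.add_sub_cancel] at e1 e2 hAc ⊢
  nlinarith

theorem card_sm : Nat.card {s : F // Sm s} = 3 := by
  classical
  have hm : ∀ s : F, Sm s ↔ s ∈ ({0, 1, -1} : Finset F) := fun s => by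
    simp only [Finset.mem_insert, Finset.mem_singleton]
    constructor
    · intro h
      exact (sm_cases h).imp id mul_self_eq_one_iff.1
    · rintro (rfl | rfl | rfl) <;> unfold Sm <;> ring
  rw [Nat.card_congr (Equiv.subtypeEquivRight hm), Nat.card_eq_fintype_card, Fintype.card_coe]
  refine Finset.card_eq_three.2 ⟨0, 1, -1, zero_ne_one, fun h => ?_, fun h => hF.two ?_, rfl⟩
  · exact one_ne_zero (neg_eq_zero.1 h.symm)
  · linear_combination h

/-- Partners of an element of order three. -/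
theorem count_order3 {b : F} (hb : b ≠ 0) :
    (partners (PSL2.uS b)).ncard = (Fintype.card F - 1) * Fintype.card F + 6 * Fintype.card F := by
  obtain ⟨U, hU⟩ : ∃ U : SL2, U = PSL2.uS b := ⟨_, rfl⟩
  rw [← hU]
  have hUv : U.1 = !![(1 : F), b; 0, 1] := hU ▸ rfl
  have hUt : U.1.trace = 2 := by rw [hUv, Matrix.trace_fin_two_of]; norm_num
  have hU2 : U.1.trace * U.1.trace = 1 := by rw [hUt]; linear_combination hF.three
  have hUi2 : U⁻¹.1.trace * U⁻¹.1.trace = 1 := by
    rw [show U⁻¹.1.trace = U.1.trace by rw [inv_val, Matrix.trace_sub, trace_isSc]; ring]; exact hU2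
  have hUsc : ¬ IsSc U.1 := not_isSc_of_01 (by simp [hUv, hb])
  have hUY : ∀ Y : SL2, (U * Y).1.trace = Y.1 0 0 + Y.1 1 1 + b * Y.1 1 0 := fun Y => by
    rw [val_mul', hUv, Matrix.trace_fin_two]
    simp [Matrix.mul_apply, Fin.sum_univ_two]
    ring
  have hUiY : ∀ Y : SL2, (U⁻¹ * Y).1.trace = Y.1 0 0 + Y.1 1 1 - b * Y.1 1 0 := fun Y => by
    rw [val_mul', inv_val, hUt, hUv, Matrix.trace_fin_two]
    simp [Matrix.mul_apply, Fin.sum_univ_two, Matrix.vecMul, dotProduct]
    ring
  obtain ⟨A, hA⟩ : ∃ A : Set SL2, A = {Y | Y.1 1 0 = 0} := ⟨_, rfl⟩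
  obtain ⟨D, hD⟩ : ∃ D : Set SL2, D = {Y | b * Y.1 1 0 * (b * Y.1 1 0) = 1 ∧ Sm Y.1.trace} := ⟨_, rfl⟩
  have hset : partners U = A ∪ D := by
    ext Y
    simp only [partners, Set.mem_ofPred_eq, Set.mem_union, hA, hD]
    constructor
    · intro h
      rcases cases_of_spair hF hUsc h with h | ⟨v, hv, ⟨a, ha⟩, c, hc⟩ | ⟨h, h'⟩ | ⟨h, -⟩ | ⟨-, h, h'⟩
      · left
        have h' := congrArg (fun Z : SL2 => Z.1 0 0) h
        simp [hUv, Matrix.mul_apply, Fin.sum_univ_two, hb] at h'
        exact h'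
      · left
        have a0 : v 0 + b * v 1 = a * v 0 := by
          simpa [hUv, Matrix.mulVec, dotProduct, Fin.sum_univ_two] using congrFun ha 0
        have a1 : v 1 = a * v 1 := by
          simpa [hUv, Matrix.mulVec, dotProduct, Fin.sum_univ_two] using congrFun ha 1
        have c1 : Y.1 1 0 * v 0 + Y.1 1 1 * v 1 = c * v 1 := by
          simpa [Matrix.mulVec, dotProduct, Fin.sum_univ_two] using congrFun hc 1
        have hv1 : v 1 = 0 := mul_self_eq_zero.1 ((mul_eq_zero.1 (show b * (v 1 * v 1) = 0 by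
          linear_combination v 1 * a0 - v 0 * a1)).resolve_left hb)
        have hv0 : v 0 ≠ 0 := fun e => hv (funext fun i => by fin_cases i <;> assumption)
        rw [hv1, mul_zero, mul_zero, add_zero] at c1
        exact (mul_eq_zero.1 c1).resolve_right hv0
      · left
        rw [hUY] at h'
        rw [Matrix.trace_fin_two] at h
        exact (mul_eq_zero.1 (show b * Y.1 1 0 = 0 by linear_combination h' - h)).resolve_left hb
      · exact absurd (hUt ▸ h) hF.two
      · by_cases h0 : Y.1 1 0 = 0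
        · exact Or.inl h0
        · refine Or.inr ⟨?_, h⟩
          rw [hUY, ← Matrix.trace_fin_two] at h'
          obtain ⟨c, hc⟩ : ∃ c, c = b * Y.1 1 0 := ⟨_, rfl⟩
          obtain ⟨s, hs⟩ : ∃ s, s = Y.1.trace := ⟨_, rfl⟩
          rw [← hs] at h
          rw [← hc, ← hs] at h'
          rw [← hc]
          unfold Sm at h h'
          exact sub_eq_zero.1 ((mul_eq_zero.1 (show c * (c * c - 1) = 0 by
            linear_combination h' - h - (s * s * c + s * c * c) * hF.three)).resolve_left (hc ▸ mul_ne_zero hb h0))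
    · rintro (h | ⟨hc, hs⟩)
      · exact SPair.of_borel (mem_borelSL.2 (by simp [hUv])) (mem_borelSL.2 h)
      · obtain ⟨c, hc'⟩ : ∃ c, c = b * Y.1 1 0 := ⟨_, rfl⟩
        rw [← hc'] at hc
        have e1 : (U * Y).1.trace = Y.1.trace + c := by rw [hUY, hc', Matrix.trace_fin_two]
        have e2 : (U⁻¹ * Y).1.trace = Y.1.trace - c := by rw [hUiY, hc', Matrix.trace_fin_two]
        rcases sm_cases hs with h0 | h0
        · refine SPair.symm (solvable_tet (pr_sq h0) (pr_cube hU2) ?_)
          rw [← map_mul]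
          refine pr_cube ?_
          rw [val_mul', Matrix.trace_mul_comm, ← val_mul', e1, h0, zero_add, hc]
        · rcases mul_eq_zero.1 (show (Y.1.trace + c) * (Y.1.trace - c) = 0 by linear_combination h0 - hc) with h1 | h1
          · have hz : (U * Y).1.trace = 0 := e1.trans h1
            have h := solvable_tet (pr_sq hz) (pr_cube hUi2) (by
              rw [← map_mul]
              refine pr_cube ?_
              rw [trace_conj'', h0])
            refine SPair.mono h ?_ ?_
            · have := inv_mem (Subgroup.subset_closure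
                (show PSL2.pr U⁻¹ ∈ ({PSL2.pr (U * Y), PSL2.pr U⁻¹} : Set P2) by simp))
              rwa [map_inv, inv_inv, ← map_inv] at this
            · have := mul_mem (Subgroup.subset_closure
                  (show PSL2.pr U⁻¹ ∈ ({PSL2.pr (U * Y), PSL2.pr U⁻¹} : Set P2) by simp))
                (Subgroup.subset_closure (show PSL2.pr (U * Y) ∈ ({PSL2.pr (U * Y), PSL2.pr U⁻¹} : Set P2) by simp))
              rwa [← map_mul, inv_mul_cancel_left] at this
          · have hz : (U⁻¹ * Y).1.trace = 0 := e2.trans h1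
            have h := solvable_tet (pr_sq hz) (pr_cube hU2) (by
              rw [← map_mul]
              refine pr_cube ?_
              rw [show U⁻¹ * Y * U = U⁻¹ * Y * U⁻¹⁻¹ by rw [inv_inv], trace_conj'', h0])
            refine SPair.mono h (Subgroup.subset_closure (by simp)) ?_
            have := mul_mem (Subgroup.subset_closure
                (show PSL2.pr U ∈ ({PSL2.pr (U⁻¹ * Y), PSL2.pr U} : Set P2) by simp))
              (Subgroup.subset_closure (show PSL2.pr (U⁻¹ * Y) ∈ ({PSL2.pr (U⁻¹ * Y), PSL2.pr U} : Set P2) by simp))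
            rwa [← map_mul, mul_inv_cancel_left] at this
  have hDc : D.ncard = 2 * 3 * Fintype.card F := by
    have e : Nat.card (({c : F // c * c = 1} × {s : F // Sm s}) × F) = 2 * 3 * Fintype.card F := by
      rw [Nat.card_prod, Nat.card_prod, card_sq_one_odd (F := F) hF.two, card_sm hF, Nat.card_eq_fintype_card]
    rw [← e, ← Nat.card_coe_set_eq, hD]
    refine Nat.card_congr
      { toFun := fun Y => ((⟨b * Y.1.1 1 0, Y.2.1⟩, ⟨Y.1.1.trace, Y.2.2⟩), Y.1.1 0 0)
        invFun := fun v => ⟨mkSL !![v.2, (v.2 * (v.1.2.1 - v.2) - 1) * b / v.1.1.1; v.1.1.1 / b, v.1.2.1 - v.2] (by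
            have hc : v.1.1.1 ≠ 0 := fun e => one_ne_zero (α := F) (by
              have := v.1.1.2; rw [e, mul_zero] at this; exact this.symm)
            rw [Matrix.det_fin_two_of]; field_simp; ring),
          ⟨by
            show b * (v.1.1.1 / b) * (b * (v.1.1.1 / b)) = 1
            rw [mul_div_cancel₀ _ hb]; exact v.1.1.2, by
            show Sm (Matrix.trace !![v.2, (v.2 * (v.1.2.1 - v.2) - 1) * b / v.1.1.1; v.1.1.1 / b, v.1.2.1 - v.2])
            rw [Matrix.trace_fin_two_of, add_sub_cancel]; exact v.1.2.2⟩⟩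
        left_inv := fun Y => ?_
        right_inv := fun v => ?_ }
    · have hc : Y.1.1 1 0 ≠ 0 := fun e => one_ne_zero (α := F) (by
        have := Y.2.1; rw [e, mul_zero, mul_zero] at this; exact this.symm)
      have hd := det_eq Y.1
      refine Subtype.ext (ext4 rfl ?_ ?_ ?_)
      · show (Y.1.1 0 0 * (Y.1.1.trace - Y.1.1 0 0) - 1) * b / (b * Y.1.1 1 0) = Y.1.1 0 1
        rw [Matrix.trace_fin_two]
        field_simp
        linear_combination hd
      · show b * Y.1.1 1 0 / b = Y.1.1 1 0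
        rw [mul_div_cancel_left₀ _ hb]
      · show Y.1.1.trace - Y.1.1 0 0 = Y.1.1 1 1
        rw [Matrix.trace_fin_two, add_sub_cancel_left]
    · refine Prod.ext (Prod.ext (Subtype.ext ?_) (Subtype.ext ?_)) rfl
      · show b * (v.1.1.1 / b) = v.1.1.1
        rw [mul_div_cancel₀ _ hb]
      · show Matrix.trace !![v.2, (v.2 * (v.1.2.1 - v.2) - 1) * b / v.1.1.1; v.1.1.1 / b, v.1.2.1 - v.2] = v.1.2.1
        rw [Matrix.trace_fin_two_of, add_sub_cancel]
  have hdisj : Disjoint A D := by
    rw [Set.disjoint_left, hA, hD]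
    intro Y h h'
    have := h'.1
    rw [show Y.1 1 0 = 0 from h, mul_zero, mul_zero] at this
    exact zero_ne_one this
  rw [hset, Set.ncard_union_eq hdisj (Set.toFinite _) (Set.toFinite _), hDc, hA, card_lower]

/-- The elements of trace zero form one class. -/
theorem card_trace_zero3 :
    {Y : SL2 | Y.1.trace = 0}.ncard = Fintype.card F * (Fintype.card F - 1) := by
  obtain ⟨J, hJ, hJs⟩ := comp_elt (0 : F)
  have h := Subgroup.card_mul_index (Subgroup.centralizer ({J} : Set SL2))
  rw [card_centralizer J hJs, hJ, sol_zero hF, card_SL2, mul_comm] at h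
  rw [← idx_plus h, ← carrier_card, ← Nat.card_coe_set_eq]
  refine Nat.card_congr (Equiv.subtypeEquivRight fun Y => ?_)
  show Y.1.trace = 0 ↔ Y ∈ (ConjClasses.mk J).carrier
  rw [ConjClasses.mem_carrier_iff_mk_eq, ConjClasses.mk_eq_mk_iff_isConj]
  refine ⟨fun hY => isConj_of_trace (ns_tr0 hF.two hY) hJs (hY.trans hJ.symm) (Or.inr ?_),
    fun hY => (trace_conj hY).trans hJ⟩
  rw [hY, mul_zero, four_eq_one hF]
  exact zero_ne_one

/-- Partners of an involution. -/
theorem count_invol3 :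
    (partners (mkSL !![(0 : F), -1; 1, 0] (by rw [Matrix.det_fin_two_of]; ring))).ncard + (Fintype.card F + 1) + 4 =
      2 * (Fintype.card F * (Fintype.card F - 1)) + 5 * (Fintype.card F + 1) := by
  obtain ⟨J, hJ⟩ : ∃ J : SL2, J = mkSL !![(0 : F), -1; 1, 0] (by rw [Matrix.det_fin_two_of]; ring) := ⟨_, rfl⟩
  rw [← hJ]
  have hJv : J.1 = !![(0 : F), -1; 1, 0] := hJ ▸ rfl
  have hJt : J.1.trace = 0 := by rw [hJv, Matrix.trace_fin_two_of, add_zero]
  have h4 : J.1.trace * J.1.trace ≠ 4 := by rw [hJt, mul_zero, four_eq_one hF]; exact zero_ne_one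
  have hJsc := ns_tr0 hF.two hJt
  have hJY : ∀ Y : SL2, (J * Y).1.trace = Y.1 0 1 - Y.1 1 0 := fun Y => by
    rw [val_mul', hJv, Matrix.trace_fin_two]
    simp [Matrix.mul_apply, Fin.sum_univ_two]
    ring
  obtain ⟨A, hA⟩ : ∃ A : Set SL2, A = {Y | Y.1.trace = 0} := ⟨_, rfl⟩
  obtain ⟨B, hB⟩ : ∃ B : Set SL2, B = {Y | (J * Y).1.trace = 0} := ⟨_, rfl⟩
  obtain ⟨K, hK⟩ : ∃ K : Set SL2, K = {Y | Y * J = J * Y} := ⟨_, rfl⟩
  obtain ⟨D, hD⟩ : ∃ D : Set SL2,
      D = {Y | Y.1.trace * Y.1.trace = 1 ∧ (J * Y).1.trace * (J * Y).1.trace = 1} := ⟨_, rfl⟩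
  have hKiff : ∀ Y : SL2, Y ∈ K ↔ Y.1 1 1 = Y.1 0 0 ∧ Y.1 0 1 = -Y.1 1 0 := by
    intro Y
    rw [hK]
    show Y * J = J * Y ↔ _
    constructor
    · intro h
      have h1 := congrArg (fun Z : SL2 => Z.1 1 0) h
      have h0 := congrArg (fun Z : SL2 => Z.1 0 0) h
      simp [hJv, Matrix.mul_apply, Fin.sum_univ_two] at h0 h1
      exact ⟨h1, h0⟩
    · rintro ⟨h1, h2⟩
      apply ext4 <;> simp [hJv, Matrix.mul_apply, Fin.sum_univ_two, h1, h2]
  have hset : partners J = ((A ∪ B) ∪ K) ∪ D := by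
    ext Y
    simp only [partners, Set.mem_ofPred_eq, Set.mem_union, hA, hB, hK, hD]
    constructor
    · intro h
      rcases cases_of_spair hF hJsc h with h | ⟨v, hv, ⟨a, ha⟩, -⟩ | ⟨h, -⟩ | ⟨-, h | h⟩ | ⟨-, h, h'⟩
      · exact Or.inl (Or.inr h.symm)
      · have h2 := roots_two_of_trace hv ha h4
        rw [hJt, roots_zero hF] at h2
        exact absurd h2 (by omega)
      · exact Or.inl (Or.inl (Or.inl h))
      · exact Or.inl (Or.inl (Or.inl h))
      · exact Or.inl (Or.inl (Or.inr h))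
      · rcases sm_cases h with h | h
        · exact Or.inl (Or.inl (Or.inl h))
        rcases sm_cases h' with h' | h'
        · exact Or.inl (Or.inl (Or.inr h'))
        exact Or.inr ⟨h, h'⟩
    · rintro (((h | h) | h) | ⟨h, h'⟩)
      · exact solvable_two (pr_sq hJt) (pr_sq h)
      · exact SPair.mul_left (by rw [← map_mul]; exact solvable_two (pr_sq hJt) (pr_sq h))
      · exact SPair.of_comm h.symm
      · exact solvable_tet (pr_sq hJt) (pr_cube h) (by rw [← map_mul]; exact pr_cube h')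
  have hAc : A.ncard = Fintype.card F * (Fintype.card F - 1) := hA ▸ card_trace_zero3 hF
  have hBc : B.ncard = Fintype.card F * (Fintype.card F - 1) := by
    rw [← hAc]
    refine ncard_eq (Equiv.subtypeEquiv (Equiv.mulLeft J) fun Y => ?_)
    simp [hA, hB]
  have hABc : (A ∩ B).ncard = Fintype.card F + 1 := by
    rw [← sol_zero hF, ← hJt, ← card_inverters hF h4, hA, hB]
    congr 1
    ext Y
    exact (inverters_iff hF h4).symm
  have hKc : K.ncard = Fintype.card F + 1 := by
    rw [← sol_zero hF, ← hJt, ← card_centralizer J hJsc, hK, ← Nat.card_coe_set_eq]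
    exact Nat.card_congr (Equiv.subtypeEquiv (Equiv.refl _) fun Y =>
      Subgroup.mem_centralizer_singleton_iff.symm)
  have hKA : (K ∩ A).ncard = 2 := by
    refine ((Nat.card_coe_set_eq _).symm.trans ?_).trans (card_sq_one_odd (F := F) hF.two)
    refine Nat.card_congr
      { toFun := fun Y => ⟨Y.1.1 1 0, ?_⟩
        invFun := fun c => ⟨mkSL !![0, -c.1; c.1, 0] (by rw [Matrix.det_fin_two_of]; linear_combination c.2),
          (hKiff _).2 ⟨rfl, rfl⟩, by rw [hA]; show Matrix.trace !![0, -c.1; c.1, 0] = 0; simp [Matrix.trace_fin_two]⟩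
        left_inv := fun Y => ?_
        right_inv := fun c => rfl }
    · obtain ⟨h1, h2⟩ := (hKiff _).1 Y.2.1
      have ht : Y.1.1.trace = 0 := (Set.ext_iff.1 hA Y.1).1 Y.2.2
      rw [Matrix.trace_fin_two, h1] at ht
      have h0 : Y.1.1 0 0 = 0 := (mul_eq_zero.1 (show (2 : F) * Y.1.1 0 0 = 0 by linear_combination ht)).resolve_left hF.two
      have hd := det_eq Y.1
      rw [h0, h2] at hd
      linear_combination hd
    · obtain ⟨h1, h2⟩ := (hKiff _).1 Y.2.1
      have ht : Y.1.1.trace = 0 := (Set.ext_iff.1 hA Y.1).1 Y.2.2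
      rw [Matrix.trace_fin_two, h1] at ht
      have h0 : Y.1.1 0 0 = 0 := (mul_eq_zero.1 (show (2 : F) * Y.1.1 0 0 = 0 by linear_combination ht)).resolve_left hF.two
      exact Subtype.ext (ext4 h0.symm h2.symm rfl (h1.trans h0).symm)
  have hKB : (K ∩ B).ncard = 2 := by
    refine Eq.trans (Eq.symm ?_) hKA
    refine ncard_eq (Equiv.subtypeEquiv (Equiv.mulLeft J) fun Y => ?_)
    have hco : J * Y * J = J * (J * Y) ↔ Y * J = J * Y := by rw [mul_assoc]; exact mul_left_cancel_iff
    have hJJ : J.1 * J.1 = -1 := by rw [sq_eq, hJt, zero_smul, zero_sub]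
    simp [hK, hA, hB, hco, ← Matrix.mul_assoc, hJJ]
  have hdisjK : Disjoint (K ∩ A) (K ∩ B) := by
    rw [Set.disjoint_left]
    intro Y h h'
    have hYA : Y ∈ A := h.2
    have hYB : Y ∈ B := h'.2
    rw [hA] at hYA
    rw [hB] at hYB
    have hYK : Y ∈ K := h.1
    rw [hK] at hYK
    exact inv_ne_self h4 (mul_right_cancel (((inverters_iff hF h4).2 ⟨hYA, hYB⟩).symm.trans hYK))
  have hdisjD : Disjoint ((A ∪ B) ∪ K) D := by
    rw [Set.disjoint_left]
    intro Y h h'
    rw [hD] at h'
    obtain ⟨h1, h2⟩ := h'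
    rcases h with (h | h) | h
    · rw [hA] at h
      rw [show Y.1.trace = 0 from h, mul_zero] at h1
      exact zero_ne_one h1
    · rw [hB] at h
      rw [show (J * Y).1.trace = 0 from h, mul_zero] at h2
      exact zero_ne_one h2
    · obtain ⟨e1, e2⟩ := (hKiff _).1 h
      have hd := det_eq Y
      rw [Matrix.trace_fin_two, e1] at h1
      rw [hJY, e2] at h2
      rw [e1, e2] at hd
      exact one_ne_zero (α := F) (by linear_combination -(h1 + h2 - 4 * hd) + hF.three)
  have hDc : D.ncard = 2 * 2 * (Fintype.card F + 1) := by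
    have e : Nat.card (({s : F // s * s = 1} × {s : F // s * s = 1}) × {p : F × F // Qf (0 : F) 1 p.1 p.2 = 1}) =
        2 * 2 * (Fintype.card F + 1) := by
      rw [Nat.card_prod, Nat.card_prod, card_sq_one_odd (F := F) hF.two, ← sol.eq_def, sol_zero hF]
    rw [← e, ← Nat.card_coe_set_eq, hD]
    refine Nat.card_congr
      { toFun := fun Y => ((⟨Y.1.1.trace, Y.2.1⟩, ⟨(J * Y.1).1.trace, Y.2.2⟩),
          ⟨(Y.1.1 0 0 + Y.1.1.trace, Y.1.1 1 0 - (J * Y.1).1.trace), ?_⟩)
        invFun := fun v => ⟨mkSL !![v.2.1.1 - v.1.1.1, v.1.2.1 + (v.2.1.2 + v.1.2.1);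
            v.2.1.2 + v.1.2.1, v.1.1.1 - (v.2.1.1 - v.1.1.1)] ?_, ?_, ?_⟩
        left_inv := fun Y => ?_
        right_inv := fun v => ?_ }
    · have hd := det_eq Y.1
      have h1 := Y.2.1
      have h2 := Y.2.2
      rw [hJY] at h2
      rw [Matrix.trace_fin_two] at h1
      simp only [Qf, hJY, Matrix.trace_fin_two]
      linear_combination h1 + h2 + 2 * hd +
        (Y.1.1 0 0 * Y.1.1 0 0 + Y.1.1 1 0 * Y.1.1 1 0 + 1) * hF.three
    · rw [Matrix.det_fin_two_of]
      have h1 := v.1.1.2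
      have h2 := v.1.2.2
      have h3 := v.2.2
      simp only [Qf] at h3
      linear_combination -h3 - 2 * h1 - 2 * h2 + (1 + v.1.1.1 * v.2.1.1 - v.2.1.2 * v.1.2.1) * hF.three - 3 * hF.three
    · show Matrix.trace !![_, _; _, _] * Matrix.trace !![_, _; _, _] = 1
      rw [Matrix.trace_fin_two_of]
      linear_combination v.1.1.2
    · show (J * mkSL _ _).1.trace * (J * mkSL _ _).1.trace = 1
      rw [hJY, mkSL_val]
      simp only [Matrix.of_apply, Matrix.cons_val', Matrix.cons_val_zero, Matrix.cons_val_one, Matrix.cons_val_fin_one,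
        Matrix.empty_val']
      linear_combination v.1.2.2
    · refine Subtype.ext (ext4 ?_ ?_ ?_ ?_) <;>
        (simp only [hJY]; simp [mkSL, Matrix.trace_fin_two]) <;> ring
    · refine Prod.ext (Prod.ext (Subtype.ext ?_) (Subtype.ext ?_)) (Subtype.ext (Prod.ext ?_ ?_)) <;>
        (simp only [hJY]; simp [mkSL, Matrix.trace_fin_two]) <;> ring
  have e1 := Set.ncard_union_add_ncard_inter A B (Set.toFinite _) (Set.toFinite _)
  have e2 := Set.ncard_union_add_ncard_inter (A ∪ B) K (Set.toFinite _) (Set.toFinite _)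
  rw [Set.inter_comm (A ∪ B) K, Set.inter_union_distrib_left,
    Set.ncard_union_eq hdisjK (Set.toFinite _) (Set.toFinite _), hKA, hKB, hKc] at e2
  rw [hABc, hAc, hBc] at e1
  rw [hset, Set.ncard_union_eq hdisjD (Set.toFinite _) (Set.toFinite _), hDc]
  omega

end Cfsg.Agent.Small.SolvPairsThree
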